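import Groth.Agent.S5985
import Groth.Agent.EtFound.Basic
import Mathlib.AlgebraicGeometry.Morphisms.QuasiFinite

/-!
# Étale localisation of quasi-finite morphisms
-/

set_option autoImplicit false
set_option linter.style.haveILetI false
set_option backward.isDefEq.respectTransparency false
set_option backward.isDefEq.respectTransparency.types false

universe u

open CategoryTheory CategoryTheory.Limits AlgebraicGeometry

noncomputable section

namespace Groth.Agent.AcycFin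

/-- A point of a locally quasi-finite scheme has an étale neighbourhood finite over an affine étale scheme of the base. -/
theorem exists_finite_nhd {W Y : Scheme.{u}} (f : W ⟶ Y) [LocallyQuasiFinite f] [LocallyOfFiniteType f] (w : W) :
    ∃ (V : Y.Etale) (W' : Scheme.{u}) (a : W' ⟶ W) (k : W' ⟶ V.left) (w' : W'),
      IsAffine V.left ∧ AlgebraicGeometry.Etale a ∧ IsFinite k ∧ k ≫ V.hom = a ≫ f ∧ a.base w' = w := by
  obtain ⟨A, hA, hwA, -⟩ := exists_isAffineOpen_mem_and_subset (U := (⊤ : Y.Opens)) (x := f w) trivial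
  obtain ⟨O, hO, hwO, hOA⟩ := exists_isAffineOpen_mem_and_subset (U := f ⁻¹ᵁ A) (x := w) hwA
  haveI : IsAffine A.toScheme := hA
  haveI : IsAffine O.toScheme := hO
  let f₀ : O.toScheme ⟶ A.toScheme := IsOpenImmersion.lift A.ι (O.ι ≫ f) (by
    rw [Scheme.Opens.range_ι]
    rintro _ ⟨z, rfl⟩
    exact hOA z.2)
  have hf₀ : f₀ ≫ A.ι = O.ι ≫ f := IsOpenImmersion.lift_fac _ _ _
  haveI : LocallyOfFiniteType (f₀ ≫ A.ι) := by rw [hf₀]; infer_instance
  haveI : LocallyQuasiFinite (f₀ ≫ A.ι) := by rw [hf₀]; infer_instance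
  haveI : LocallyOfFiniteType f₀ := locallyOfFiniteType_of_comp f₀ A.ι
  haveI : LocallyQuasiFinite f₀ := LocallyQuasiFinite.of_comp f₀ A.ι
  let w₀ : O.toScheme := ⟨w, hwO⟩
  obtain ⟨A', g, y', hg, hgy, -, Vv, Ww, -, hfin, hmem⟩ :=
    S5985.result f₀ (f₀ w₀) (f₀.finite_preimage_singleton _)
  haveI := hg
  obtain ⟨z, hz₁, hz₂⟩ := Scheme.Pullback.exists_preimage_pullback (f := f₀) (g := g) w₀ y' hgy.symm
  obtain ⟨A'', hA'', hyA'', -⟩ := exists_isAffineOpen_mem_and_subset (U := (⊤ : A'.Opens)) (x := y') trivial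
  haveI : IsAffine A''.toScheme := hA''
  let q := Vv.ι ≫ pullback.snd f₀ g
  haveI : IsFinite q := hfin
  haveI : AlgebraicGeometry.Etale (A''.ι ≫ g ≫ A.ι) := inferInstance
  let V : Y.Etale := Scheme.Etale.mk (A''.ι ≫ g ≫ A.ι)
  haveI : IsFinite (q ∣_ A'') := IsZariskiLocalAtTarget.restrict ‹IsFinite q› A''
  haveI : AlgebraicGeometry.Etale (pullback.fst f₀ g) := MorphismProperty.pullback_fst f₀ g hg
  have hmem' : (⟨z, hmem z hz₂⟩ : Vv.toScheme) ∈ q ⁻¹ᵁ A'' := by
    show q.base _ ∈ A''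
    rw [show q.base ⟨z, hmem z hz₂⟩ = y' from hz₂]
    exact hyA''
  refine ⟨V, (q ⁻¹ᵁ A'').toScheme, (q ⁻¹ᵁ A'').ι ≫ Vv.ι ≫ pullback.fst f₀ g ≫ O.ι, q ∣_ A'',
    ⟨_, hmem'⟩, ‹IsAffine A''.toScheme›, inferInstance, inferInstance, ?_, ?_⟩
  · show (q ∣_ A'') ≫ A''.ι ≫ g ≫ A.ι = _
    rw [morphismRestrict_ι_assoc]
    simp only [q, Category.assoc]
    rw [← hf₀, pullback.condition_assoc]
  · show O.ι ((pullback.fst f₀ g) z) = w
    rw [hz₁]
    rfl

end Groth.Agent.AcycFin
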