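import Groth.Agent.EtAcycLib.Compose
import Groth.Agent.EtMVLib.OpenSeq
import Groth.Agent.S8536

/-!
# Pullback maps on cohomology with constant coefficients
-/

set_option autoImplicit false
set_option linter.unusedSectionVars false
set_option linter.style.haveILetI false
set_option backward.isDefEq.respectTransparency false
set_option backward.isDefEq.respectTransparency.types false

universe u

open CategoryTheory CategoryTheory.Limits AlgebraicGeometry Opposite Abelian

noncomputable section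

namespace Groth.Agent.AcycFin

variable {W U X : Scheme.{u}}

theorem pullConst_comp_gen (j : U ⟶ X) (w : W ⟶ X) (k : W ⟶ U) (e : k ≫ j = w) (M : Type) [AddCommGroup M] :
    (EtCore.pullConst k M).inv ≫ (EtCoh.pull k).map (EtCore.pullConst j M).inv ≫
      (((EtCore.pullComp k j).symm ≪≫ EtCore.pullCongr e).hom.app (EtCoh.const X M)) =
      (EtCore.pullConst w M).inv := by
  apply ((EtCore.constAdj W).homEquiv _ _).injective
  have n1 := (EtMVLib.pullSec k).naturality (EtCore.pullConst j M).inv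
  have hU : (EtCore.constAdj U).unit.app (AddCommGrpCat.of (ULift.{u + 1} M)) ≫
      (EtCore.gsec U).map (EtCore.pullConst j M).inv = _ :=
    ((EtCore.constAdj U).homEquiv_unit _ _ (EtCore.pullConst j M).inv).symm.trans
      (EtMVLib.homEquiv_pullConst_inv j M)
  set c := (EtCore.pullConst j M).inv
  set t := (((EtCore.pullComp k j).symm ≪≫ EtCore.pullCongr e).hom.app (EtCoh.const X M))
  refine ((EtCore.constAdj W).homEquiv_naturality_right _ _).trans ?_
  refine (eq_whisker (EtMVLib.homEquiv_pullConst_inv k M) _).trans ?_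
  refine (whisker_eq _ (Functor.map_comp (EtCore.gsec W) _ _)).trans ?_
  refine ((Category.assoc _ _ _).trans (whisker_eq _
    ((Category.assoc _ _ _).symm.trans (eq_whisker n1.symm _)))).trans ?_
  refine ((whisker_eq _ (Category.assoc _ _ _)).trans
    ((Category.assoc _ _ _).symm.trans (eq_whisker hU _))).trans ?_
  refine ((Category.assoc _ _ _).trans (whisker_eq _ (EtMVLib.pullSec_θ j w k e _))).trans ?_
  exact (EtMVLib.homEquiv_pullConst_inv w M).symm

theorem pullConst_hom_gen (j : U ⟶ X) (w : W ⟶ X) (k : W ⟶ U) (e : k ≫ j = w) (M : Type) [AddCommGroup M] :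
    (((EtCore.pullComp k j).symm ≪≫ EtCore.pullCongr e).hom.app (EtCoh.const X M)) ≫ (EtCore.pullConst w M).hom =
      (EtCoh.pull k).map (EtCore.pullConst j M).hom ≫ (EtCore.pullConst k M).hom := by
  have h := pullConst_comp_gen j w k e M
  rw [Iso.inv_comp_eq] at h
  rw [← cancel_epi ((EtCoh.pull k).map (EtCore.pullConst j M).inv), ← Category.assoc, h, Category.assoc,
    Iso.inv_hom_id, Category.comp_id, ← Category.assoc, ← Functor.map_comp, Iso.inv_hom_id,
    CategoryTheory.Functor.map_id, Category.id_comp]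

/-- The pullback map on cohomology with constant coefficients. -/
def Kc {X Y : Scheme.{u}} (f : X ⟶ Y) [PreservesFiniteLimits (EtCoh.pull f)] (M : Type) [AddCommGroup M] (q : ℕ)
    (x : EtCoh.H Y (EtCoh.const Y M) q) : EtCoh.H X (EtCoh.const X M) q :=
  (EtCore.Hpull f _ q x).comp (Ext.mk₀ (EtCore.pullConst f M).hom) (add_zero q)

theorem Kc_surjective_iff {X Y : Scheme.{u}} (f : X ⟶ Y) [PreservesFiniteLimits (EtCoh.pull f)] (M : Type)
    [AddCommGroup M] (q : ℕ) :
    Function.Surjective (EtCore.Hpull f (EtCoh.const Y M) q) ↔ Function.Surjective (Kc f M q) :=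
  (Function.Surjective.of_comp_iff' (EtAcycLib.bijective_comp_mk₀ (EtCore.pullConst f M)) _).symm

theorem Kc_HpullVia (k : W ⟶ U) (j : U ⟶ X) (w : W ⟶ X) (e : k ≫ j = w) [PreservesFiniteLimits (EtCoh.pull k)]
    (M : Type) [AddCommGroup M] (q : ℕ) (x : EtCoh.H U ((EtCoh.pull j).obj (EtCoh.const X M)) q) :
    (EtCore.HpullVia k j w e (EtCoh.const X M) q x).comp (Ext.mk₀ (EtCore.pullConst w M).hom) (add_zero q) =
      Kc k M q (x.comp (Ext.mk₀ (EtCore.pullConst j M).hom) (add_zero q)) := by
  show ((EtCore.Hpull k _ q x).comp (Ext.mk₀ (((EtCore.pullComp k j).symm ≪≫ EtCore.pullCongr e).hom.app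
    (EtCoh.const X M))) (add_zero q)).comp _ (add_zero q) = _
  rw [Kc, S8536.Hpull_comp_mk₀, Ext.comp_assoc_of_third_deg_zero, Ext.comp_assoc_of_third_deg_zero,
    Ext.mk₀_comp_mk₀, Ext.mk₀_comp_mk₀, pullConst_hom_gen j w k e M]

theorem Kc_comp (k : W ⟶ U) (j : U ⟶ X) (w : W ⟶ X) (e : k ≫ j = w) [PreservesFiniteLimits (EtCoh.pull k)]
    [PreservesFiniteLimits (EtCoh.pull j)] [PreservesFiniteLimits (EtCoh.pull w)]
    (M : Type) [AddCommGroup M] (q : ℕ) (x : EtCoh.H X (EtCoh.const X M) q) :
    Kc k M q (Kc j M q x) = Kc w M q x := by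
  refine (Kc_HpullVia k j w e M q (EtCore.Hpull j _ q x)).symm.trans ?_
  exact congrArg (fun r => Ext.comp r (Ext.mk₀ (EtCore.pullConst w M).hom) (add_zero q))
    (EtAcycLib.Hpull_comp k j w e _ q x)

/-- The map of constant sheaves induced by a homomorphism. -/
def constHom (X : Scheme.{u}) {M N : Type} [AddCommGroup M] [AddCommGroup N] (φ : M →+ N) :
    EtCoh.const X M ⟶ EtCoh.const X N :=
  (constantSheaf X.smallEtaleTopology AddCommGrpCat.{u + 1}).map (AddCommGrpCat.ofHom
    ((AddEquiv.ulift.symm.toAddMonoidHom.comp φ).comp AddEquiv.ulift.toAddMonoidHom))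

/-- A class lifts if its components do. -/
theorem surjective_of_decomp {X Y : Scheme.{u}} (f : X ⟶ Y) [PreservesFiniteLimits (EtCoh.pull f)]
    {M : Type} [AddCommGroup M] {κ : Type} [Fintype κ] {N : κ → Type} [∀ i, AddCommGroup (N i)]
    (p : ∀ i, M →+ N i) (s : ∀ i, N i →+ M) (hps : ∑ i, (s i).comp (p i) = AddMonoidHom.id M) (q : ℕ)
    (h : ∀ i (z : EtCoh.H X ((EtCoh.pull f).obj (EtCoh.const Y M)) q),
      z.comp (Ext.mk₀ ((EtCoh.pull f).map (constHom Y (p i)))) (add_zero q) ∈
        Set.range (EtCore.Hpull f (EtCoh.const Y (N i)) q)) :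
    Function.Surjective (EtCore.Hpull f (EtCoh.const Y M) q) := by
  haveI : (EtCoh.pull f).Additive := (EtCoh.pullPushAdj f).left_adjoint_additive
  haveI : (EtCore.gsec Y).Additive :=
    inferInstanceAs (sheafToPresheaf Y.smallEtaleTopology AddCommGrpCat.{u + 1} ⋙
      (evaluation Y.Etaleᵒᵖ AddCommGrpCat.{u + 1}).obj (op (EtCoh.top Y))).Additive
  haveI : (constantSheaf Y.smallEtaleTopology AddCommGrpCat.{u + 1}).IsLeftAdjoint := (EtCore.constAdj Y).isLeftAdjoint
  haveI : (constantSheaf Y.smallEtaleTopology AddCommGrpCat.{u + 1}).Additive := (EtCore.constAdj Y).left_adjoint_additive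
  intro z
  choose y hy using fun i => h i z
  have hid : ∑ i, constHom Y (p i) ≫ constHom Y (s i) = 𝟙 (EtCoh.const Y M) := by
    unfold constHom
    simp only [← Functor.map_comp, ← Functor.map_sum]
    refine (congrArg (constantSheaf Y.smallEtaleTopology AddCommGrpCat.{u + 1}).map ?_).trans
      (CategoryTheory.Functor.map_id _ _)
    refine AddCommGrpCat.hom_ext (AddMonoidHom.ext fun a => ?_)
    let ev : (AddCommGrpCat.of (ULift.{u + 1} M) ⟶ AddCommGrpCat.of (ULift.{u + 1} M)) →+ M :=
      AddMonoidHom.mk' (fun φ => (φ.hom a).down) fun _ _ => rfl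
    refine ULift.down_injective ((map_sum ev _ _).trans ?_)
    refine Eq.trans ?_ (DFunLike.congr_fun hps a.down)
    rw [AddMonoidHom.finsetSum_apply]
    exact Finset.sum_congr rfl fun i _ => rfl
  refine ⟨∑ i, (y i).comp (Ext.mk₀ (constHom Y (s i))) (add_zero q), ?_⟩
  rw [map_sum]
  simp only [S8536.Hpull_comp_mk₀, hy, Ext.comp_assoc_of_third_deg_zero, Ext.mk₀_comp_mk₀, ← Functor.map_comp]
  rw [← Ext.comp_sum, ← Ext.mk₀_sum, ← Functor.map_sum, hid, CategoryTheory.Functor.map_id, Ext.comp_mk₀_id]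

end Groth.Agent.AcycFin
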