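import Groth.Agent.AcycFin.Compare
import Groth.Agent.AcycFin.ConstPull
import Groth.Agent.BcQCalc.CompPullback

/-!
# Transporting comparison along isomorphisms and integral morphisms
-/

set_option autoImplicit false
set_option linter.unusedSectionVars false
set_option linter.style.haveILetI false
set_option backward.isDefEq.respectTransparency false
set_option backward.isDefEq.respectTransparency.types false

universe u

open CategoryTheory CategoryTheory.Limits AlgebraicGeometry Opposite Abelian

noncomputable section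

namespace Groth.Agent.AcycFin

open Groth.Agent.BcQCalc Groth.Agent.EtFound

variable {L : Set ℕ} {n : ℕ}

theorem compN_of_iso {A' A B : Scheme.{u}} (e : A' ⟶ A) [IsIso e] {p : A ⟶ B} {p' : A' ⟶ B} (h : e ≫ p = p')
    (hp : EtAcyc.CompN p L n) : EtAcyc.CompN p' L n := fun F hF _ => by
  haveI := pull_preservesFiniteLimits p
  haveI := pull_preservesFiniteLimits e
  obtain ⟨hb, hi⟩ := hp F hF
  have hc := fun q => EtAcycLib.bijective_Hpull_comp_iff e p p' h F q
  have he := fun q => EtAcycLib.bijective_Hpull_of_isIso e ((EtCoh.pull p).obj F) q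
  exact ⟨fun q hq => (hc q).1.2 ((he q).comp (hb q hq)), (hc (n + 1)).2.2 ((he _).1.comp hi)⟩

theorem compN_integral {X Z Y : Scheme.{u}} (p : X ⟶ Y) (k : Z ⟶ Y) [IsIntegralHom k]
    (hp : EtAcyc.CompN p L n) : EtAcyc.CompN (pullback.fst k p) L n := fun F hF inst => by
  let g' := pullback.fst k p
  let p' := pullback.snd k p
  haveI : IsIntegralHom p' := MorphismProperty.of_isPullback (IsPullback.of_hasPullback k p) ‹IsIntegralHom k›
  haveI := pull_preservesFiniteLimits p
  haveI := pull_preservesFiniteLimits k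
  haveI := pull_preservesFiniteLimits p'
  have hw : g' ≫ k = p' ≫ p := pullback.condition
  let β := EtCoh.baseChange0 k p p' g' hw F
  haveI : IsIso β := isIso_baseChange_of_integral (A := AddCommGrpCat.{u + 1})
    (IsPullback.of_hasPullback k p) F β (fun V => baseChange0_unit k p p' g' hw F V)
  have hk := fun q => EtAcycLib.UnitRpush.HofPush_bijective k q F
    (fun j _ => S3054.result k F (j + 1) (Nat.succ_pos j))
  have hk' := fun q => EtAcycLib.UnitRpush.HofPush_bijective p' q ((EtCoh.pull g').obj F)
    (fun j _ => S3054.result p' _ (j + 1) (Nat.succ_pos j))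
  obtain ⟨hb, hi⟩ := hp ((EtCoh.push k).obj F) (isLTorsion_push k L hF)
  have key : ∀ q, ⇑(EtCore.Hpull g' F q) ∘ ⇑(EtLim.HofPush k F q) =
      (⇑(EtLim.HofPush p' ((EtCoh.pull g').obj F) q) ∘ fun x => x.comp (Ext.mk₀ β) (add_zero q)) ∘
        ⇑(EtCore.Hpull p ((EtCoh.push k).obj F) q) := fun q => funext fun ζ =>
    Hpull_HofPush_square k p p' g' hw F q ζ
  have hβ := fun q => (hk' q).comp (EtAcycLib.bijective_comp_mk₀ (n := q) (A := EtCoh.const X ℤ) (asIso β))
  refine ⟨fun q hq => ?_, ?_⟩
  · refine (Function.Bijective.of_comp_iff _ (hk q)).1 ?_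
    rw [key q]
    exact (hβ q).comp (hb q hq)
  · refine (Function.Injective.of_comp_iff' _ (hk (n + 1))).1 ?_
    rw [key (n + 1)]
    exact (hβ (n + 1)).1.comp hi

/-- Surjectivity of the pullback of constant coefficients transports along isomorphisms. -/
theorem surjective_Hpull_const_of_iso {A' A B : Scheme.{u}} (e : A' ⟶ A) [IsIso e] (p : A ⟶ B) (p' : A' ⟶ B)
    (h : e ≫ p = p') [PreservesFiniteLimits (EtCoh.pull p)] [PreservesFiniteLimits (EtCoh.pull p')]
    (M : Type) [AddCommGroup M] (q : ℕ) (hs : Function.Surjective (EtCore.Hpull p (EtCoh.const B M) q)) :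
    Function.Surjective (EtCore.Hpull p' (EtCoh.const B M) q) := by
  haveI := pull_preservesFiniteLimits e
  rw [Kc_surjective_iff] at hs ⊢
  rw [show Kc p' M q = Kc e M q ∘ Kc p M q from funext fun x => (Kc_comp e p p' h M q x).symm]
  exact ((Kc_surjective_iff e M q).1 (EtAcycLib.bijective_Hpull_of_isIso e _ q).2).comp hs

end Groth.Agent.AcycFin
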