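import Groth.Agent.EtLim8.Const

/-!
# Composition of relative pullback maps
-/

set_option autoImplicit false
set_option linter.style.haveILetI false
set_option backward.isDefEq.respectTransparency false
set_option backward.isDefEq.respectTransparency.types false

universe u

open CategoryTheory CategoryTheory.Limits AlgebraicGeometry Opposite Abelian

noncomputable section

namespace Groth.Agent.AcycFin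

open Groth.Agent.EtLim8

variable {A B C D : Scheme.{u}}

theorem via_eq_HpullThen (f : A ⟶ B) (t : B ⟶ C) (f₀ : A ⟶ C) (w : f ≫ t = f₀)
    [PreservesFiniteLimits (EtCoh.pull f)] (F : EtCoh.Ab C) (q : ℕ) (x : EtCoh.H B ((EtCoh.pull t).obj F) q) :
    EtCore.HpullVia f t f₀ w F q x = EtLim.HpullThen f _ (pullCmp t f f₀ w F).hom q x := rfl

theorem via_eq_comp (f : A ⟶ B) (t : B ⟶ C) (f₀ : A ⟶ C) (w : f ≫ t = f₀)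
    [PreservesFiniteLimits (EtCoh.pull f)] (F : EtCoh.Ab C) (q : ℕ) (x : EtCoh.H B ((EtCoh.pull t).obj F) q) :
    EtCore.HpullVia f t f₀ w F q x =
      (EtCore.Hpull f _ q x).comp (Ext.mk₀ (pullCmp t f f₀ w F).hom) (add_zero q) :=
  (via_eq_HpullThen f t f₀ w F q x).trans (HpullThen_apply f _ _ q x)

/-- The three isomorphisms of a triple composite are compatible. -/
theorem compat_triple {t₁ : B ⟶ A} {t₂ : C ⟶ B} {t₁₂ : C ⟶ A} {t₃ : D ⟶ C}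
    {t₂₃ : D ⟶ B} {t : D ⟶ A} (h₁ : t₂ ≫ t₁ = t₁₂) (h₂ : t₃ ≫ t₂ = t₂₃) (h₃ : t₂₃ ≫ t₁ = t)
    (h₄ : t₃ ≫ t₁₂ = t) (F : EtCoh.Ab A) :
    Compat ((EtCoh.pullPushAdj t₂).homEquiv _ _ (pullCmp t₁ t₂ t₁₂ h₁ F).hom)
      ((EtCoh.pullPushAdj t₃).homEquiv _ _ (pullCmp t₁₂ t₃ t h₄ F).hom)
      ((EtCoh.pullPushAdj t₂₃).homEquiv _ _ (pullCmp t₁ t₂₃ t h₃ F).hom) :=
  compat_of_generated h₁ h₂ h₃ h₄ _ _ _ _ _ (compat_pullCmp t₁ t₂ t₁₂ h₁ F) (compat_pullCmp t₁₂ t₃ t h₄ F)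
    (compat_pullCmp t₁ t₂₃ t h₃ F)

/-- Relative pullbacks compose. -/
theorem via_via {t₁ : B ⟶ A} (t₂ : C ⟶ B) (t₁₂ : C ⟶ A) (t₃ : D ⟶ C) (t₂₃ : D ⟶ B) (t : D ⟶ A)
    (h₁ : t₂ ≫ t₁ = t₁₂) (h₂ : t₃ ≫ t₂ = t₂₃) (h₃ : t₂₃ ≫ t₁ = t) (h₄ : t₃ ≫ t₁₂ = t)
    [PreservesFiniteLimits (EtCoh.pull t₂)] [PreservesFiniteLimits (EtCoh.pull t₃)]
    [PreservesFiniteLimits (EtCoh.pull t₂₃)] (F : EtCoh.Ab A) (q : ℕ)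
    (x : EtCoh.H B ((EtCoh.pull t₁).obj F) q) :
    EtCore.HpullVia t₃ t₁₂ t h₄ F q (EtCore.HpullVia t₂ t₁ t₁₂ h₁ F q x) =
      EtCore.HpullVia t₂₃ t₁ t h₃ F q x := by
  rw [via_eq_HpullThen, via_eq_HpullThen, via_eq_HpullThen]
  exact HpullThen_HpullThen t₂ t₃ t₂₃ h₂ _ _ _ (compat_triple h₁ h₂ h₃ h₄ F) q x

theorem pullCmp_assoc {t₁ : B ⟶ A} (t₂ : C ⟶ B) (t₁₂ : C ⟶ A) (t₃ : D ⟶ C) (t₂₃ : D ⟶ B) (t : D ⟶ A)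
    (h₁ : t₂ ≫ t₁ = t₁₂) (h₂ : t₃ ≫ t₂ = t₂₃) (h₃ : t₂₃ ≫ t₁ = t) (h₄ : t₃ ≫ t₁₂ = t) (F : EtCoh.Ab A) :
    (pullCmp t₂ t₃ t₂₃ h₂ ((EtCoh.pull t₁).obj F)).hom ≫ (pullCmp t₁ t₂₃ t h₃ F).hom =
      (EtCoh.pull t₃).map (pullCmp t₁ t₂ t₁₂ h₁ F).hom ≫ (pullCmp t₁₂ t₃ t h₄ F).hom := by
  have hγ : (pullCmp t₁ t₂₃ t h₃ F).hom =
      (EtCore.pullCongr h₂.symm ≪≫ EtCore.pullComp t₃ t₂).hom.app ((EtCoh.pull t₁).obj F) ≫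
        (EtCoh.pull t₃).map (pullCmp t₁ t₂ t₁₂ h₁ F).hom ≫ (pullCmp t₁₂ t₃ t h₄ F).hom :=
    ((EtCoh.pullPushAdj t₂₃).homEquiv _ _).injective
      (Compat.unique h₂ (compat_triple h₁ h₂ h₃ h₄ F) (compat_of_pullComp h₂.symm _ _ _ rfl))
  rw [hγ, ← Category.assoc]
  subst h₂
  simp [pullCmp, EtCore.pullCongr]

/-- A relative pullback of a class from an intermediate stage. -/
theorem via_comp_pullCmp {t₁ : B ⟶ A} (t₂ : C ⟶ B) (t₁₂ : C ⟶ A) (t₃ : D ⟶ C) (t₂₃ : D ⟶ B) (t : D ⟶ A)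
    (h₁ : t₂ ≫ t₁ = t₁₂) (h₂ : t₃ ≫ t₂ = t₂₃) (h₃ : t₂₃ ≫ t₁ = t) (h₄ : t₃ ≫ t₁₂ = t)
    [PreservesFiniteLimits (EtCoh.pull t₃)] (F : EtCoh.Ab A) (q : ℕ)
    (z : EtCoh.H C ((EtCoh.pull t₂).obj ((EtCoh.pull t₁).obj F)) q) :
    (EtCore.HpullVia t₃ t₂ t₂₃ h₂ ((EtCoh.pull t₁).obj F) q z).comp (Ext.mk₀ (pullCmp t₁ t₂₃ t h₃ F).hom)
        (add_zero q) =
      EtCore.HpullVia t₃ t₁₂ t h₄ F q (z.comp (Ext.mk₀ (pullCmp t₁ t₂ t₁₂ h₁ F).hom) (add_zero q)) := by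
  rw [via_eq_HpullThen, via_eq_HpullThen, HpullThen_comp_mk₀, HpullThen_mk₀, pullCmp_assoc t₂ t₁₂ t₃ t₂₃ t h₁ h₂ h₃ h₄ F]

/-- A relative pullback of a class from the base. -/
theorem via_Hpull {t₁ : B ⟶ A} (t₂ : C ⟶ B) (t₁₂ : C ⟶ A) (h₁ : t₂ ≫ t₁ = t₁₂)
    [PreservesFiniteLimits (EtCoh.pull t₁)] [PreservesFiniteLimits (EtCoh.pull t₂)]
    [PreservesFiniteLimits (EtCoh.pull t₁₂)] (F : EtCoh.Ab A) (q : ℕ) (x : EtCoh.H A F q) :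
    EtCore.HpullVia t₂ t₁ t₁₂ h₁ F q (EtCore.Hpull t₁ F q x) = EtCore.Hpull t₁₂ F q x := by
  rw [via_eq_comp]
  exact EtAcycLib.Hpull_comp t₂ t₁ t₁₂ h₁ F q x

end Groth.Agent.AcycFin
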