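import Groth.Agent.EtAcycLib.Basis
import Groth.Agent.AcycFin.Transport
import Groth.Agent.AcycFin.QfNhd
import Groth.Agent.AcycFin.Via
import Groth.Agent.BcQCalc.Criterion
import Groth.Agent.EtLC12.RpushTorsion
import Mathlib.RingTheory.Smooth.NoetherianDescent
import Mathlib.AlgebraicGeometry.Morphisms.Integral

/-!
# Base change of acyclic morphisms along quasi-finite or integral morphisms
-/

set_option autoImplicit false
set_option linter.unusedSectionVars false
set_option linter.style.haveILetI false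
set_option backward.isDefEq.respectTransparency false
set_option backward.isDefEq.respectTransparency.types false

universe u

open CategoryTheory CategoryTheory.Limits AlgebraicGeometry Opposite Abelian TensorProduct

noncomputable section

namespace Groth.Agent.AcycFin

variable {L : Set ℕ} {n : ℕ}

/-- Base change of an acyclic morphism, when the étale schemes over the new base are locally integral over étale
schemes of the old one. -/
theorem isAcyclicN_of_integral_basis {X Y X' Y' : Scheme.{u}} {g : X ⟶ Y} {g' : X' ⟶ Y'} {b : X' ⟶ X} {i : Y' ⟶ Y}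
    (sq : IsPullback g' b i g) (h : EtAcyc.IsAcyclicN g L n)
    (hB : ∀ (W : Y'.Etale) (x : W.left), ∃ (W' : Y'.Etale) (f : W' ⟶ W) (w : W'.left),
      (∃ (V : Y.Etale) (k : W'.left ⟶ V.left), IsIntegralHom k ∧ k ≫ V.hom = W'.hom ≫ i) ∧ f.left.base w = x) :
    EtAcyc.IsAcyclicN g' L n := by
  refine EtAcycLib.UnitRpush.isAcyclicN_of_basis g' L n
    (fun W a => ∃ (V : Y.Etale) (k : W ⟶ V.left), IsIntegralHom k ∧ k ≫ V.hom = a ≫ i) hB ?_
  rintro W ⟨V, k, hk, hkV⟩
  haveI := hk
  have hc := compN_integral (EtAcyc.prj g V) k (h V)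
  have hP : IsPullback (pullback.fst W.hom g') (pullback.snd W.hom g' ≫ b) (k ≫ V.hom) g := by
    rw [hkV]
    exact (IsPullback.of_hasPullback W.hom g').paste_vert sq
  have hQ : IsPullback (pullback.fst k (EtAcyc.prj g V))
      (pullback.snd k (EtAcyc.prj g V) ≫ pullback.snd V.hom g) (k ≫ V.hom) g :=
    (IsPullback.of_hasPullback k (EtAcyc.prj g V)).flip.paste_horiz (IsPullback.of_hasPullback V.hom g).flip |>.flip
  exact compN_of_iso (hP.isoIsPullback _ _ hQ).hom (hP.isoIsPullback_hom_fst _ _ hQ) hc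

/-- An acyclic morphism satisfies the comparison. -/
theorem compN_of_isAcyclicN {X Y : Scheme.{u}} {g : X ⟶ Y} (h : EtAcyc.IsAcyclicN g L n) : EtAcyc.CompN g L n := by
  refine compN_of_iso (inv (pullback.snd (𝟙 Y) g)) (?_ : _ ≫ pullback.fst (𝟙 Y) g = g) (h (EtCoh.top Y))
  rw [IsIso.inv_comp_eq, ← pullback.condition, Category.comp_id]

/-- Acyclicity is stable under locally quasi-finite base change. -/
theorem isAcyclicN_baseChange {X Y X' Y' : Scheme.{u}} {g : X ⟶ Y} {g' : X' ⟶ Y'} {b : X' ⟶ X} {i : Y' ⟶ Y}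
    (sq : IsPullback g' b i g) [LocallyQuasiFinite i] [LocallyOfFiniteType i] (h : EtAcyc.IsAcyclicN g L n) :
    EtAcyc.IsAcyclicN g' L n := by
  refine isAcyclicN_of_integral_basis sq h fun W x => ?_
  haveI : AlgebraicGeometry.Etale W.hom := W.prop
  obtain ⟨V, W', a, k, w', -, ha, hk, hka, hw'⟩ := exists_finite_nhd (W.hom ≫ i) x
  haveI := ha
  haveI := hk
  refine ⟨Scheme.Etale.mk (a ≫ W.hom), MorphismProperty.Over.homMk a rfl trivial, w',
    ⟨V, k, inferInstance, ?_⟩, hw'⟩
  show k ≫ V.hom = (a ≫ W.hom) ≫ i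
  rw [Category.assoc, hka]

/-- An affine étale scheme over an affine scheme integral over an affine base is integral over a scheme locally
quasi-finite and of finite type over the base. -/
theorem exists_qf_model {R R' : Type u} [CommRing R] [CommRing R'] [Algebra R R'] [Algebra.IsIntegral R R']
    {W : Scheme.{u}} [IsAffine W] (a : W ⟶ Spec (CommRingCat.of R')) [AlgebraicGeometry.Etale a] :
    ∃ (W₀ : Scheme.{u}) (r : W ⟶ W₀) (a₀ : W₀ ⟶ Spec (CommRingCat.of R)), IsIntegralHom r ∧ LocallyQuasiFinite a₀ ∧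
      LocallyOfFiniteType a₀ ∧ r ≫ a₀ = a ≫ Spec.map (CommRingCat.ofHom (algebraMap R R')) := by
  let φ : CommRingCat.of R' ⟶ Γ(W, ⊤) := Spec.preimage (W.isoSpec.inv ≫ a)
  have hφ : Spec.map φ = W.isoSpec.inv ≫ a := Spec.map_preimage _
  letI : Algebra R' Γ(W, ⊤) := φ.hom.toAlgebra
  haveI : Algebra.Etale R' Γ(W, ⊤) := by
    rw [← RingHom.etale_algebraMap]
    have he : AlgebraicGeometry.Etale (Spec.map φ) := by
      rw [hφ]
      infer_instance
    exact (HasRingHomProperty.Spec_iff (P := @AlgebraicGeometry.Etale)).1 he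
  obtain ⟨A₀, B₀, _, _, hfg, het, ⟨e⟩⟩ := Algebra.Etale.exists_subalgebra_fg R R' Γ(W, ⊤)
  haveI : Algebra.FiniteType R A₀ := (Subalgebra.fg_iff_finiteType A₀).1 hfg
  haveI : Algebra.IsIntegral R A₀ := ⟨fun x => (isIntegral_algHom_iff A₀.val Subtype.val_injective).1
    (Algebra.IsIntegral.isIntegral (x : R'))⟩
  haveI : Module.Finite R A₀ := Algebra.IsIntegral.finite
  haveI : Algebra.IsIntegral A₀ R' := Algebra.IsIntegral.tower_top R
  haveI := het
  let r₀ : CommRingCat.of B₀ ⟶ Γ(W, ⊤) :=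
    CommRingCat.ofHom (e.symm.toRingHom.comp (Algebra.TensorProduct.includeRight : B₀ →ₐ[A₀] R' ⊗[A₀] B₀).toRingHom)
  let c : R →+* B₀ := (algebraMap A₀ B₀).comp (algebraMap R A₀)
  have hr : r₀.hom.IsIntegral := by
    refine RingHom.IsIntegral.trans _ _ (fun x => ?_) (RingHom.IsIntegral.of_finite (RingHom.Finite.of_surjective _ e.symm.surjective))
    letI : Algebra B₀ (R' ⊗[A₀] B₀) := Algebra.TensorProduct.rightAlgebra
    show IsIntegral B₀ x
    induction x using TensorProduct.induction_on with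
    | zero => exact isIntegral_zero
    | add x y hx hy => exact hx.add hy
    | tmul x y =>
      rw [show x ⊗ₜ[A₀] y = (x ⊗ₜ[A₀] (1 : B₀)) * (algebraMap B₀ (R' ⊗[A₀] B₀) y) by
        show _ = _ * ((1 : R') ⊗ₜ[A₀] y)
        simp]
      refine IsIntegral.mul ?_ isIntegral_algebraMap
      exact (Algebra.IsIntegral.isIntegral (R := A₀) x).map_of_comp_eq (algebraMap A₀ B₀)
        (Algebra.TensorProduct.includeLeftRingHom : R' →+* R' ⊗[A₀] B₀)
        (RingHom.ext fun a => by
          show (1 : R') ⊗ₜ[A₀] algebraMap A₀ B₀ a = algebraMap A₀ R' a ⊗ₜ[A₀] (1 : B₀)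
          rw [Algebra.algebraMap_eq_smul_one, Algebra.algebraMap_eq_smul_one, TensorProduct.tmul_smul,
            TensorProduct.smul_tmul'])
  have hc : c.QuasiFinite ∧ c.FiniteType := by
    haveI : (algebraMap R A₀).Finite := RingHom.finite_algebraMap.2 inferInstance
    refine ⟨RingHom.QuasiFinite.comp ?_ (RingHom.quasiFinite_algebraMap.2 inferInstance),
      RingHom.FiniteType.comp (RingHom.finiteType_algebraMap.2 inferInstance) (RingHom.finiteType_algebraMap.2 inferInstance)⟩
    exact RingHom.quasiFinite_algebraMap.2 inferInstance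
  refine ⟨Spec (CommRingCat.of B₀), W.isoSpec.hom ≫ Spec.map r₀, Spec.map (CommRingCat.ofHom c), ?_, ?_, ?_, ?_⟩
  · haveI : IsIntegralHom (Spec.map r₀) := IsIntegralHom.SpecMap_iff.2 hr
    infer_instance
  · exact (HasRingHomProperty.Spec_iff (P := @LocallyQuasiFinite)).2 hc.1
  · exact (HasRingHomProperty.Spec_iff (P := @LocallyOfFiniteType)).2 hc.2
  · rw [Category.assoc, ← Spec.map_comp]
    have hh : CommRingCat.ofHom c ≫ r₀ = CommRingCat.ofHom (algebraMap R R') ≫ φ := by
      refine CommRingCat.hom_ext (RingHom.ext fun x => ?_)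
      show e.symm ((1 : R') ⊗ₜ[A₀] algebraMap A₀ B₀ (algebraMap R A₀ x)) = algebraMap R' Γ(W, ⊤) (algebraMap R R' x)
      rw [← e.symm.commutes]
      refine congrArg e.symm ?_
      show _ = algebraMap R R' x ⊗ₜ[A₀] (1 : B₀)
      rw [Algebra.algebraMap_eq_smul_one, TensorProduct.tmul_smul, TensorProduct.smul_tmul']
      congr 1
      rw [IsScalarTower.algebraMap_apply R A₀ R', Algebra.algebraMap_eq_smul_one (A := R')]
    rw [hh, Spec.map_comp, hφ, Category.assoc, Iso.hom_inv_id_assoc]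

/-- Acyclicity is stable under integral base change between affine schemes. -/
theorem isAcyclicN_baseChange_integral {X X' : Scheme.{u}} {R R' : Type u} [CommRing R] [CommRing R'] [Algebra R R']
    [Algebra.IsIntegral R R'] {g : X ⟶ Spec (CommRingCat.of R)} {g' : X' ⟶ Spec (CommRingCat.of R')} {b : X' ⟶ X}
    (sq : IsPullback g' b (Spec.map (CommRingCat.ofHom (algebraMap R R'))) g) (h : EtAcyc.IsAcyclicN g L n) :
    EtAcyc.IsAcyclicN g' L n := by
  refine isAcyclicN_of_integral_basis sq h fun W x => ?_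
  obtain ⟨W₁, f₁, w₁, hW₁, hw₁⟩ := EtLC12.RpushTorsion.exists_affine_nhd x
  haveI : IsAffine W₁.left := hW₁
  haveI : AlgebraicGeometry.Etale W₁.hom := W₁.prop
  obtain ⟨W₀, r, a₀, hr, hqf, hft, hra⟩ :=
    exists_qf_model (R := R) (W := W₁.left) (W₁.hom : W₁.left ⟶ Spec (CommRingCat.of R'))
  haveI := hr
  haveI := hqf
  haveI := hft
  obtain ⟨V, W', a, k, w', -, ha, hk, hka, hw'⟩ := exists_finite_nhd a₀ (r.base w₁)
  haveI := ha
  haveI := hk
  obtain ⟨z, hz, -⟩ := Scheme.Pullback.exists_preimage_pullback (f := r) (g := a) w₁ w' hw'.symm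
  haveI : AlgebraicGeometry.Etale (pullback.fst r a) := MorphismProperty.pullback_fst r a ha
  haveI : IsIntegralHom (pullback.snd r a) := MorphismProperty.pullback_snd r a hr
  let W'' := Scheme.Etale.mk (pullback.fst r a ≫ W₁.hom)
  refine ⟨W'', (MorphismProperty.Over.homMk (pullback.fst r a) rfl trivial : W'' ⟶ W₁) ≫ f₁, z,
    ⟨V, pullback.snd r a ≫ k, inferInstance, ?_⟩, ?_⟩
  · show (pullback.snd r a ≫ k) ≫ V.hom = (pullback.fst r a ≫ W₁.hom) ≫ _
    rw [Category.assoc, hka, ← pullback.condition_assoc, hra, Category.assoc]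
  · show f₁.left.base ((pullback.fst r a).base z) = x
    rw [hz]
    exact hw₁

/-- The base change maps of a locally acyclic morphism along a quasi-finite morphism are isomorphisms. -/
theorem isIso_bcQ_of_isLocAcyclicN {X Y T P : Scheme.{u}} (g : X ⟶ Y) (p : T ⟶ Y) (k : P ⟶ X) (e : P ⟶ T)
    (c : IsPullback e k p g) [LocallyQuasiFinite p] [LocallyOfFiniteType p] [QuasiCompact p] [QuasiSeparated p]
    (hloc : EtAcyc.IsLocAcyclicN g L n) (M : EtCoh.Ab T) (hM : EtAcyc.IsLTorsion L M) (i : ℕ) (hi : i ≤ n)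
    [PreservesFiniteLimits (EtCoh.pull e)] :
    IsIso (EtBC.bcQ p g k e c.w i M) := by
  refine (BcQCalc.isIso_bcQ_iff_strict g p k e c M i).1 ?_
  intro x RS _ _ _ _ _ RX _ _ _ _ _ ψ _ hψ PS PX aS bS cS aX bX cX m w hm _
  letI : Algebra RS RX := ψ.toAlgebra
  haveI : IsLocalHom (algebraMap RS RX) := ‹IsLocalHom ψ›
  have hacyc := hloc x RS RX hψ
  haveI : LocallyQuasiFinite bS := MorphismProperty.of_isPullback (P := @LocallyQuasiFinite) cS inferInstance
  haveI : LocallyOfFiniteType bS := MorphismProperty.of_isPullback (P := @LocallyOfFiniteType) cS inferInstance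
  have hsq : IsPullback m bX bS (Spec.map (CommRingCat.ofHom ψ)) := by
    have hXS := BcQCalc.specMap_psi g x RS RX ψ hψ
    have cX' : IsPullback (m ≫ aS) bX p (Spec.map (CommRingCat.ofHom ψ) ≫ Hens2.specOf Y (g.base x) RS) := by
      rw [w, hXS]
      exact cX
    exact IsPullback.of_right cX' hm cS
  have hb := (compN_of_isAcyclicN (isAcyclicN_baseChange hsq hacyc) ((EtCoh.pull aS).obj M)
    (EtAcycLib.isLTorsion_pull aS hM)).1 i hi
  have he : ⇑(EtCore.HpullVia m aS aX w M i) =
      (fun r => r.comp (Ext.mk₀ (EtLim8.pullCmp aS m aX w M).hom) (add_zero i)) ∘ ⇑(EtCore.Hpull m _ i) :=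
    funext fun z => via_eq_comp m aS aX w M i z
  rw [he]
  exact (EtAcycLib.bijective_comp_mk₀ (EtLim8.pullCmp aS m aX w M)).comp hb

end Groth.Agent.AcycFin
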