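import Groth.Agent.BcQCalc.Criterion
import Groth.Agent.EtAcycLib.UnitRpush
import Groth.Agent.BcQCalc.Sigma
import Groth.Agent.BcQCalc.Degree0
import Groth.Agent.BcQCalc.Exist
import Groth.Agent.S14622
import Groth.Agent.EtAcycLib.Compose

/-!
# The base change morphism in degree zero is injective for surjective strict localizations
-/

set_option autoImplicit false
set_option linter.unusedSectionVars false
set_option linter.unusedVariables false
set_option linter.style.haveILetI false
set_option backward.isDefEq.respectTransparency false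
set_option backward.isDefEq.respectTransparency.types false

universe u

open CategoryTheory CategoryTheory.Limits AlgebraicGeometry Opposite Abelian IsLocalRing

noncomputable section

namespace Groth.Agent.AcycFin

open RpushStalk BcQCalc

attribute [local instance] EtFound.pull_preservesFiniteLimits

/-- Pullback of global sections along a surjective morphism is injective. -/
theorem injective_Hpull_zero_of_surjective {P Q : Scheme.{u}} (m : Q ⟶ P) [Surjective m] [PreservesFiniteLimits (EtCoh.pull m)]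
    (A : EtCoh.Ab P) : Function.Injective (EtCore.Hpull m A 0) := by
  haveI := S14622.result m A
  refine (injective_iff_map_eq_zero _).2 fun z hz =>
    eq_zero_of_comp_mono ((EtCoh.pullPushAdj m).unit.app A) z ?_
  refine (HofPush_bijective_zero m _).1 ?_
  rw [← EtAcycLib.UnitRpush.Hpull_eq_HofPush, hz, map_zero]

theorem injective_HpullThen_zero {P Q : Scheme.{u}} (m : Q ⟶ P) [Surjective m] [PreservesFiniteLimits (EtCoh.pull m)]
    (G : EtCoh.Ab P) {K : EtCoh.Ab Q} (α : (EtCoh.pull m).obj G ⟶ K) [IsIso α] :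
    Function.Injective (EtLim.HpullThen m G α 0) := by
  intro x y hxy
  rw [EtLim8.HpullThen_apply, EtLim8.HpullThen_apply] at hxy
  exact injective_Hpull_zero_of_surjective m G ((EtAcycLib.bijective_comp_mk₀ (asIso α)).1 hxy)

/-- Two surjections with equal kernels on both sides transport injectivity. -/
theorem injective_of_square {A A' B B' C C' : Type*} [AddCommGroup A] [AddCommGroup A'] [AddCommGroup B]
    [AddCommGroup B'] [AddCommGroup C] [AddCommGroup C'] (π : A →+ B) (σ : A →+ C) (π' : A' →+ B') (σ' : A' →+ C')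
    (hπ : Function.Surjective π) (hσ : Function.Surjective σ) (hπ' : Function.Surjective π')
    (hσ' : Function.Surjective σ') (hk : ∀ a, π a = 0 ↔ σ a = 0) (hk' : ∀ a, π' a = 0 ↔ σ' a = 0)
    (a : A → A') (b : B → B') (c : C → C') (hb : ∀ z, b (π z) = π' (a z)) (hc : ∀ z, c (σ z) = σ' (a z))
    (hinj : Function.Injective c) : Function.Injective b := by
  obtain ⟨χ, hχ, hχe⟩ := exists_bijective_comp_eq π σ hπ hσ hk
  obtain ⟨χ', hχ', hχe'⟩ := exists_bijective_comp_eq π' σ' hπ' hσ' hk'
  have h : c ∘ χ = χ' ∘ b := funext fun x => by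
    obtain ⟨z, rfl⟩ := hπ x
    rw [Function.comp_apply, Function.comp_apply, hχe, hc, hb, hχe']
  exact Function.Injective.of_comp (h ▸ hinj.comp hχ.1 : Function.Injective (χ' ∘ b))

section Stalk

variable {X S Y T : Scheme.{u}} (f : X ⟶ S) (g : T ⟶ S) (h : Y ⟶ X) (e : Y ⟶ T) (w : e ≫ g = h ≫ f)
  {RS RX : Type u} [CommRing RS] [HenselianLocalRing RS] [IsSepClosed (IsLocalRing.ResidueField RS)]
  [CommRing RX] [HenselianLocalRing RX] [IsSepClosed (IsLocalRing.ResidueField RX)]
  {hS : Spec (CommRingCat.of RS) ⟶ S} {hX : Spec (CommRingCat.of RX) ⟶ X}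
  (DS : Model S RS hS) (DX : Model X RX hX) [QuasiCompact g] [QuasiSeparated g] [QuasiCompact h] [QuasiSeparated h]
  (ψ : Spec (CommRingCat.of RX) ⟶ Spec (CommRingCat.of RS)) (hψ : ψ ≫ hS = hX ≫ f)
  (l : Spec (CommRingCat.of (IsLocalRing.ResidueField RX)) ⟶ Spec (CommRingCat.of (IsLocalRing.ResidueField RS)))
  (hl : l ≫ EtFound.cpt RS = EtFound.cpt RX ≫ ψ)

include DS DX hl in
/-- The stalk of the base change morphism in degree zero is injective if the map of fibres is surjective. -/
theorem injective_stalk_bcQ_zero [PreservesFiniteLimits (EtCoh.pull e)] (F : EtCoh.Ab T)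
    [Surjective (fibMap f g h e w ψ hψ)] :
    Function.Injective ((EtCoh.stalk (EtFound.cpt RX ≫ hX)).map (EtBC.bcQ g f h e w 0 F)) := by
  let η := EtFound.cpt RX ≫ hX
  let lk := link f (EtFound.cpt RS ≫ hS) η l (lcomp f ψ hψ l hl)
  obtain ⟨φ, hφ⟩ := exists_pullHom e F
  let q := 0
  let Φ := squareHom (pullback.snd hS g) (fibMap f g h e w ψ hψ) (pullback.snd hX h) e
    (fibMap_snd f g h e w ψ hψ) φ
  let a : ((EtCoh.stalk (EtFound.cpt RS ≫ hS)).obj ((EtCoh.push g).obj ((tw F).Z q))) →
      ((EtCoh.stalk η).obj ((EtCoh.push h).obj ((tw ((EtCoh.pull e).obj F)).Z q))) := fun z =>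
    (EtCoh.stalk η).map ((EtCoh.push h).map (φ.z q))
      ((EtCoh.stalk η).map (EtCoh.baseChange0 g f h e w ((tw F).Z q)) (lk.hom.app _ z))
  let b : ((EtCoh.stalk (EtFound.cpt RS ≫ hS)).obj ((EtCoh.Rpush g q).obj F)) →
      ((EtCoh.stalk η).obj ((EtCoh.Rpush h q).obj ((EtCoh.pull e).obj F))) := fun y =>
    (EtCoh.stalk η).map (EtBC.bcQ g f h e w q F) (lk.hom.app _ y)
  let c := EtLim.HpullThen (fibMap f g h e w ψ hψ) ((twPull hS g F).Z 0) (Φ.z 0) q
  have hb : ∀ z, b (piStalk hS g F q z) = piStalk hX h ((EtCoh.pull e).obj F) q (a z) := fun z => by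
    have n1 := ConcreteCategory.congr_hom (lk.hom.naturality (pic (EtCoh.push g) F q)) z
    have n2 := ConcreteCategory.congr_hom
      (congrArg (EtCoh.stalk η).map (bcQ_pic g f h e w F φ hφ q)) (lk.hom.app _ z)
    rw [Functor.map_comp, Functor.map_comp, Functor.map_comp] at n2
    exact (congrArg ((EtCoh.stalk η).map (EtBC.bcQ g f h e w q F)) n1).trans n2
  have hc : ∀ z, c (sigma hS g F q z) = sigma hX h ((EtCoh.pull e).obj F) q (a z) := fun z => by
    refine (HpullThen_cl (fibMap f g h e w ψ hψ) q (twPull hS g F) (twPull_isExact hS g F)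
      (twPull hX h ((EtCoh.pull e).obj F)) (twPull_isExact hX h _) Φ (gm _ (phiApp hS g ((tw F).Z q) z))).trans ?_
    refine congrArg (cl q (twPull hX h ((EtCoh.pull e).obj F)) (twPull_isExact hX h _)) ?_
    refine (HpullThen_gm (fibMap f g h e w ψ hψ) (Φ.z q) _).trans (congrArg (gm _) ?_)
    refine Eq.trans ?_ (ConcreteCategory.congr_hom (phiApp_naturality hX h (φ.z q))
      ((EtCoh.stalk η).map (EtCoh.baseChange0 g f h e w ((tw F).Z q)) (lk.hom.app _ z))).symm
    refine Eq.trans ?_ (congrArg _ (stalk_baseChange0 f g h e w ψ hψ l hl ((tw F).Z q) z)).symm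
    refine Eq.trans (congrArg (fun r => EtLim8.res (fibMap f g h e w ψ hψ) r
      (V := EtCoh.top (pullback hS g)) (W := EtCoh.top (pullback hX h)) (fibMap f g h e w ψ hψ)
      (EtLim8.top_w _) (phiApp hS g ((tw F).Z q) z)) ((EtCoh.pullPushAdj (fibMap f g h e w ψ hψ)).homEquiv_naturality_right
        (viaHom (pullback.snd hS g) (fibMap f g h e w ψ hψ) (pullback.snd hX h) e (fibMap_snd f g h e w ψ hψ) ((tw F).Z q))
        ((EtCoh.pull (pullback.snd hX h)).map (φ.z q)))) ?_
    exact EtLim8.res_comp_push_map _ _ _ _ _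
  have hlk : Function.Bijective (lk.hom.app ((EtCoh.Rpush g q).obj F)) :=
    ConcreteCategory.bijective_of_isIso (lk.hom.app ((EtCoh.Rpush g q).obj F))
  refine (Function.Injective.of_comp_iff' _ hlk).1 (show Function.Injective b from ?_)
  refine injective_of_square (piStalk hS g F q) (sigma hS g F q)
    (piStalk hX h ((EtCoh.pull e).obj F) q) (sigma hX h ((EtCoh.pull e).obj F) q)
    (piStalk_surjective hS g F q) (sigma_surjective hS g F DS q)
    (piStalk_surjective hX h _ q) (sigma_surjective hX h _ DX q)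
    (ker_piStalk_eq hS g F DS q) (ker_piStalk_eq hX h _ DX q) a b c hb hc ?_
  haveI : IsIso (φ.z 0) := by
    haveI : IsIso ((EtCoh.pull e).map (aug F) ≫ φ.z 0) := by rw [hφ]; infer_instance
    exact IsIso.of_isIso_comp_left ((EtCoh.pull e).map (aug F)) (φ.z 0)
  haveI : IsIso (Φ.z 0) := by
    haveI := isIso_viaHom (pullback.snd hS g) (fibMap f g h e w ψ hψ) (pullback.snd hX h) e
      (fibMap_snd f g h e w ψ hψ) ((tw F).Z 0)
    exact IsIso.comp_isIso' ‹_› inferInstance
  exact injective_HpullThen_zero (fibMap f g h e w ψ hψ) ((twPull hS g F).Z 0) (Φ.z 0)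

end Stalk

section Mono

variable {X S Y T : Scheme.{u}} (f : X ⟶ S) (g : T ⟶ S) (h : Y ⟶ X) (e : Y ⟶ T) (c : IsPullback e h g f)
  [QuasiCompact g] [QuasiSeparated g]

/-- If all morphisms of strict localizations of `f` are surjective, the base change map in degree zero is injective. -/
theorem mono_bcQ_zero [PreservesFiniteLimits (EtCoh.pull e)]
    (hs : EtAcyc.OnStrictLocalizations f (fun _ _ m => Surjective m)) (F : EtCoh.Ab T) :
    Mono (EtBC.bcQ g f h e c.w 0 F) := by
  refine (EtFound.mono_iff_stalks _).2 fun Ω _ _ ξ => ?_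
  let x : X := ξ (closedPoint Ω)
  obtain ⟨RS, _, _, _, _, hRS⟩ := exists_strictHens (S.presheaf.stalk (f.base x))
  obtain ⟨RX, _, _, _, _, hRX⟩ := exists_strictHens (X.presheaf.stalk x)
  haveI : IsSepClosed (ResidueField RS) := isSepClosed_residueField_of_strict (S.presheaf.stalk (f.base x)) RS
  haveI : IsSepClosed (ResidueField RX) := isSepClosed_residueField_of_strict (X.presheaf.stalk x) RX
  haveI : HenselianLocalRing RS := _root_.Hensel.IsStrictHenselization.henselian (R := S.presheaf.stalk (f.base x))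
  haveI : HenselianLocalRing RX := _root_.Hensel.IsStrictHenselization.henselian (R := X.presheaf.stalk x)
  obtain ⟨ψ, hψl, hψ⟩ := exists_strictMap (R := RS) (R' := RX) (f.stalkMap x).hom
  haveI := hψl
  letI : Algebra RS RX := ψ.toAlgebra
  haveI : IsLocalHom (algebraMap RS RX) := hψl
  have hsψ : Surjective (Spec.map (CommRingCat.ofHom ψ)) := hs x RS RX hψ
  obtain ⟨DS⟩ := RpushStalk.exists_model S (f.base x) RS
  obtain ⟨DX⟩ := RpushStalk.exists_model X x RX
  haveI : QuasiCompact h := MorphismProperty.of_isPullback c ‹QuasiCompact g›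
  haveI : QuasiSeparated h := MorphismProperty.of_isPullback c ‹QuasiSeparated g›
  let hS := Hens2.specOf S (f.base x) RS
  let hX := Hens2.specOf X x RX
  have hψ' := specMap_psi f x RS RX ψ hψ
  have cX : IsPullback (pullback.snd hX h ≫ e) (pullback.fst hX h) g (hX ≫ f) :=
    (IsPullback.of_hasPullback hX h).flip.paste_horiz c
  let m := fibMap f g h e c.w (Spec.map (CommRingCat.ofHom ψ)) hψ'
  have cX' : IsPullback (m ≫ pullback.snd hS g) (pullback.fst hX h) g (Spec.map (CommRingCat.ofHom ψ) ≫ hS) := by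
    rw [hψ', fibMap_snd]
    exact cX
  have hsq : IsPullback m (pullback.fst hX h) (pullback.fst hS g) (Spec.map (CommRingCat.ofHom ψ)) :=
    IsPullback.of_right cX' (fibMap_fst f g h e c.w _ hψ') (IsPullback.of_hasPullback hS g).flip
  haveI : Surjective m := MorphismProperty.of_isPullback hsq.flip hsψ
  have hi := injective_stalk_bcQ_zero f g h e c.w DS DX (Spec.map (CommRingCat.ofHom ψ)) hψ'
    (Spec.map (CommRingCat.ofHom (ResidueField.map ψ))) (residue_square ψ) F
  obtain ⟨l, hl⟩ := exists_fac_geomPt ξ RX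
  haveI : Mono ((EtCoh.stalk (Hens2.geomPt X x RX)).map (EtBC.bcQ g f h e c.w 0 F)) :=
    (AddCommGrpCat.mono_iff_injective _).2 hi
  haveI h2 : Mono ((EtCoh.stalk (l ≫ Hens2.geomPt X x RX)).map (EtBC.bcQ g f h e c.w 0 F)) := by
    let ν : EtCoh.stalk (Hens2.geomPt X x RX) ≅ EtCoh.stalk (l ≫ Hens2.geomPt X x RX) :=
      EtFound.stalkExtIso AddCommGrpCat.{u + 1} (Hens2.geomPt X x RX) l
    rw [← NatIso.naturality_1 ν (EtBC.bcQ g f h e c.w 0 F)]
    infer_instance
  exact hl ▸ (AddCommGrpCat.mono_iff_injective _).1 h2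

/-- If all morphisms of strict localizations of `f` are surjective, the base change map of sheaves is injective. -/
theorem mono_baseChange0 [PreservesFiniteLimits (EtCoh.pull e)]
    (hs : EtAcyc.OnStrictLocalizations f (fun _ _ m => Surjective m)) (F : EtCoh.Ab T) :
    Mono (EtCoh.baseChange0 g f h e c.w F) := by
  haveI := mono_bcQ_zero f g h e c hs F
  haveI : (EtCoh.push g).IsRightAdjoint := (EtCoh.pullPushAdj g).isRightAdjoint
  haveI : (EtCoh.push h).IsRightAdjoint := (EtCoh.pullPushAdj h).isRightAdjoint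
  haveI : Mono (EtCoh.baseChange0 g f h e c.w F ≫
      (EtCoh.push h).toRightDerivedZero.app ((EtCoh.pull e).obj F)) := by
    rw [← EtBC.bcQ_zero_compat g f h e c.w F]; infer_instance
  exact mono_of_mono _ ((EtCoh.push h).toRightDerivedZero.app ((EtCoh.pull e).obj F))

end Mono

end Groth.Agent.AcycFin
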