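import Groth.Agent.AcycFin.Embedding
import Groth.Agent.BcQCalc.HofPushInj
import Groth.Agent.BcQCalc.TorsionEmbed
import Groth.Agent.EtAcycLib.UnitRpush
import Groth.Agent.EtFound.Efface
import Groth.Agent.EtFound.IntegralBaseChange
import Groth.Agent.S3054
import Groth.Agent.S8536
import Mathlib.CategoryTheory.Limits.Shapes.Biproducts

/-!
# Comparing cohomology along a morphism through finite constant coefficients
-/

set_option autoImplicit false
set_option linter.unusedSectionVars false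
set_option linter.style.haveILetI false
set_option backward.isDefEq.respectTransparency false
set_option backward.isDefEq.respectTransparency.types false

universe u

open CategoryTheory CategoryTheory.Limits AlgebraicGeometry Opposite Abelian

noncomputable section

namespace Groth.Agent.AcycFin

open Groth.Agent.BcQCalc Groth.Agent.EtLim8 Groth.Agent.EtFound

variable {X W : Scheme.{u}} (g : X ⟶ W)

/-- Constants on integral schemes over `W` have surjective pullback maps. -/
def IntConstSurj (L : Set ℕ) (n : ℕ) : Prop :=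
  ∀ (Y : Scheme.{u}) (π : Y ⟶ W) [IsIntegralHom π] (M : Type) [AddCommGroup M] [Finite M] (m : ℕ),
    EtAcyc.PrimesIn L m → (∀ a : M, m • a = 0) → ∀ [PreservesFiniteLimits (EtCoh.pull (pullback.fst π g))] (q : ℕ),
      q ≤ n → Function.Surjective (EtCore.Hpull (pullback.fst π g) (EtCoh.const Y M) q)

theorem eq_zero_iff_comp_mk₀ {P : Scheme.{u}} {M N : EtCoh.Ab P} (e : M ⟶ N) [IsIso e] (q : ℕ)
    (x : EtCoh.H P M q) : x.comp (Ext.mk₀ e) (add_zero q) = 0 ↔ x = 0 := by
  refine ⟨fun h => ?_, fun h => by rw [h, Ext.zero_comp]⟩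
  have := congrArg (fun r => Ext.comp r (Ext.mk₀ (inv e)) (add_zero q)) h
  simpa [Ext.comp_assoc_of_third_deg_zero] using this

variable [PreservesFiniteLimits (EtCoh.pull g)]

/-- Direct images of good sheaves along integral morphisms are good. -/
theorem surjective_push {Y : Scheme.{u}} (π : Y ⟶ W) [IsIntegralHom π] (C : EtCoh.Ab Y) (q : ℕ)
    [PreservesFiniteLimits (EtCoh.pull (pullback.fst π g))]
    (h : Function.Surjective (EtCore.Hpull (pullback.fst π g) C q)) :
    Function.Surjective (EtCore.Hpull g ((EtCoh.push π).obj C) q) := by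
  let g' := pullback.fst π g
  let p' := pullback.snd π g
  haveI : IsIntegralHom p' := MorphismProperty.of_isPullback (IsPullback.of_hasPullback π g) ‹IsIntegralHom π›
  haveI := pull_preservesFiniteLimits π
  haveI := pull_preservesFiniteLimits p'
  have hw : g' ≫ π = p' ≫ g := pullback.condition
  let β := EtCoh.baseChange0 π g p' g' hw C
  haveI : IsIso β := isIso_baseChange_of_integral (A := AddCommGrpCat.{u + 1})
    (IsPullback.of_hasPullback π g) C β (fun V => baseChange0_unit π g p' g' hw C V)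
  intro z
  obtain ⟨y, hy⟩ := h (EtLim.HofPush p' ((EtCoh.pull g').obj C) q (z.comp (Ext.mk₀ β) (add_zero q)))
  obtain ⟨ζ, rfl⟩ := EtAcycLib.UnitRpush.HofPush_surjective π q C
    (fun j _ => S3054.result π C (j + 1) (Nat.succ_pos j)) y
  refine ⟨ζ, sub_eq_zero.1 ((eq_zero_iff_comp_mk₀ β q _).1 ?_)⟩
  refine ((EtAcycLib.UnitRpush.HofPush_bijective p' q _
    (fun j _ => S3054.result p' _ (j + 1) (Nat.succ_pos j))).1 ?_)
  rw [map_zero, sub_eq_add_neg, Ext.add_comp, Ext.neg_comp, map_add, map_neg, ← hy,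
    Hpull_HofPush_square π g p' g' hw C q ζ]
  exact add_neg_cancel _

theorem killedBy_push {Y : Scheme.{u}} (π : Y ⟶ W) (M : Type) [AddCommGroup M] (m : ℕ)
    (hM : ∀ a : M, m • a = 0) : m • 𝟙 ((EtCoh.push π).obj (EtCoh.const Y M)) = 0 := by
  haveI : (EtCoh.push π).IsRightAdjoint := (EtCoh.pullPushAdj π).isRightAdjoint
  haveI : (EtCoh.push π).Additive := (EtCoh.pullPushAdj π).right_adjoint_additive
  have h0 : m • 𝟙 (EtCoh.const Y M) = 0 := by
    haveI : (constantSheaf Y.smallEtaleTopology AddCommGrpCat.{u + 1}).IsLeftAdjoint := (EtCore.constAdj Y).isLeftAdjoint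
    haveI : (constantSheaf Y.smallEtaleTopology AddCommGrpCat.{u + 1}).Additive := (EtCore.constAdj Y).left_adjoint_additive
    have e : m • 𝟙 (AddCommGrpCat.of (ULift.{u + 1} M)) = 0 := AddCommGrpCat.hom_ext (AddMonoidHom.ext fun a => by
      rw [AddCommGrpCat.hom_nsmul, AddMonoidHom.nsmul_apply]
      exact ULift.down_injective ((hM a.down) : _))
    show m • 𝟙 ((constantSheaf Y.smallEtaleTopology AddCommGrpCat.{u + 1}).obj _) = 0
    rw [← CategoryTheory.Functor.map_id, ← Functor.map_nsmul, e, Functor.map_zero]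
  rw [← CategoryTheory.Functor.map_id, ← Functor.map_nsmul, h0, Functor.map_zero]

variable {L : Set ℕ}

theorem isLTorsion_of_killed {P : Scheme.{u}} {F : EtCoh.Ab P} {m : ℕ} (hm : EtAcyc.PrimesIn L m)
    (h : m • 𝟙 F = 0) : EtAcyc.IsLTorsion L F := fun U s x =>
  ⟨U, 𝟙 U, m, ⟨x, rfl⟩, hm, (killedBy_iff_nsmul m F).2 h U _⟩

theorem isTorsion_of_isLTorsion {P : Scheme.{u}} {F : EtCoh.Ab P} (hF : EtAcyc.IsLTorsion L F) :
    EtCoh.IsTorsion F := fun U s x => by
  obtain ⟨V, f, m, hv, hm, h0⟩ := hF U s x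
  exact ⟨V, f, hv, isOfFinAddOrder_iff_nsmul_eq_zero.2 ⟨m, hm.1, h0⟩⟩

theorem mono_unit [Surjective g] (F : EtCoh.Ab W) : Mono ((EtCoh.pullPushAdj g).unit.app F) := by
  haveI : (EtCoh.pull g).Faithful := pullback_faithful (A := AddCommGrpCat.{u + 1}) g
  refine (EtCoh.pull g).mono_of_mono_map ?_
  haveI : IsSplitMono ((EtCoh.pull g).map ((EtCoh.pullPushAdj g).unit.app F)) :=
    IsSplitMono.mk' ⟨_, (EtCoh.pullPushAdj g).left_triangle_components F⟩
  infer_instance

variable {n : ℕ}

/-- Surjectivity for constructible sheaves killed by `m`, given the results in lower degrees. -/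
theorem surjective_constructible [CompactSpace W] [QuasiSeparatedSpace W]
    (hI : IntConstSurj g L n) (q : ℕ) (hq : q ≤ n)
    (hinj : ∀ F : EtCoh.Ab W, EtAcyc.IsLTorsion L F → Function.Injective (EtCore.Hpull g F q))
    (hprev : ∀ q', q' + 1 = q → ∀ F : EtCoh.Ab W, EtAcyc.IsLTorsion L F → Function.Surjective (EtCore.Hpull g F q'))
    (F : EtCoh.Ab W) (hF : EtPBC.IsConstructible F) (m : ℕ) (hm : EtAcyc.PrimesIn L m) (hFm : m • 𝟙 F = 0) :
    Function.Surjective (EtCore.Hpull g F q) := by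
  haveI : (EtCoh.pull g).IsLeftAdjoint := (EtCoh.pullPushAdj g).isLeftAdjoint
  haveI : (EtCoh.pull g).Additive := (EtCoh.pullPushAdj g).left_adjoint_additive
  obtain ⟨κ, _, Y, π, hπ, M, iM, fM, hkill, a, ha⟩ :=
    exists_embedding W F hF m ((killedBy_iff_nsmul m F).2 hFm)
  let Gk := fun k => (EtCoh.push (π k)).obj (EtCoh.const (Y k) (M k))
  haveI : HasBiproduct Gk := HasBiproductsOfShape.has_biproduct _
  let G := ⨁ Gk
  let u : F ⟶ G := biproduct.lift a
  haveI : Mono u := Preadditive.mono_of_cancel_zero u fun t ht => ha _ t fun k => by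
    have := congrArg (· ≫ biproduct.π Gk k) ht
    simpa [u] using this
  haveI := Fintype.ofFinite κ
  have hG : Function.Surjective (EtCore.Hpull g G q) := fun z => by
    choose y hy using fun k => haveI := pull_preservesFiniteLimits (pullback.fst (π k) g)
      surjective_push g (π k) (EtCoh.const (Y k) (M k)) q
        (@hI (Y k) (π k) (hπ k) (M k) (iM k) (fM k) m hm (hkill k) _ q hq)
        (z.comp (Ext.mk₀ ((EtCoh.pull g).map (biproduct.π Gk k))) (add_zero q))
    refine ⟨∑ k, (y k).comp (Ext.mk₀ (biproduct.ι Gk k)) (add_zero q), ?_⟩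
    rw [map_sum]
    simp only [S8536.Hpull_comp_mk₀, hy, Ext.comp_assoc_of_third_deg_zero, Ext.mk₀_comp_mk₀, ← Functor.map_comp]
    have ht : ∑ k, biproduct.π Gk k ≫ biproduct.ι Gk k = 𝟙 G := by
      refine biproduct.hom_ext _ _ fun j => ?_
      rw [Preadditive.sum_comp, Finset.sum_eq_single j, Category.assoc, biproduct.ι_π_self, Category.comp_id]
      · exact (Category.id_comp _).symm
      · intro k _ hk
        rw [Category.assoc, biproduct.ι_π_ne _ hk, comp_zero]
      · exact fun h => absurd (Finset.mem_univ j) h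
    rw [← Ext.comp_sum, ← Ext.mk₀_sum, ← Functor.map_sum]
    erw [ht]
    rw [CategoryTheory.Functor.map_id, Ext.comp_mk₀_id]
  have hGm : m • 𝟙 G = 0 := by
    refine biproduct.hom_ext _ _ fun k => ?_
    rw [Preadditive.nsmul_comp, zero_comp, Category.id_comp]
    have := congrArg (biproduct.π Gk k ≫ ·) (killedBy_push (π k) (M k) m (hkill k))
    simpa [Gk, Preadditive.comp_nsmul] using this
  let S : ShortComplex (EtCoh.Ab W) := ShortComplex.mk u (cokernel.π u) (cokernel.condition _)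
  have hS : S.ShortExact :=
    { exact := ShortComplex.exact_of_g_is_cokernel _ (cokernelIsCokernel _) }
  have hQ : EtAcyc.IsLTorsion L S.X₃ := S8536.isLTorsion_of_epi L S.g (isLTorsion_of_killed hm hGm)
  have hS' : (S.map (EtCoh.pull g)).ShortExact := hS.map_of_exact _
  intro ξ
  obtain ⟨y, hy⟩ := hG (ξ.comp (Ext.mk₀ ((EtCoh.pull g).map u)) (add_zero q))
  have h0 : y.comp (Ext.mk₀ S.g) (add_zero q) = 0 := hinj _ hQ (by
    rw [map_zero, S8536.Hpull_comp_mk₀, hy, Ext.comp_assoc_of_third_deg_zero, Ext.mk₀_comp_mk₀, ← Functor.map_comp,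
      show u ≫ S.g = 0 from cokernel.condition u, Functor.map_zero, Ext.mk₀_zero, Ext.comp_zero])
  obtain ⟨x, hx⟩ := Ext.covariant_sequence_exact₂ _ hS y h0
  have h1 : (ξ - EtCore.Hpull g F q x).comp (Ext.mk₀ ((EtCoh.pull g).map u)) (add_zero q) = 0 := by
    rw [sub_eq_add_neg, Ext.add_comp, Ext.neg_comp, ← S8536.Hpull_comp_mk₀ g u q x]
    rw [show x.comp (Ext.mk₀ u) (add_zero q) = y from hx, hy, add_neg_cancel]
  rcases q with _ | q'
  · exact ⟨x, (sub_eq_zero.1 (BcQCalc.eq_zero_of_comp_mono _ _ h1)).symm⟩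
  · obtain ⟨w, hw⟩ := Ext.covariant_sequence_exact₁ _ hS' (ξ - EtCore.Hpull g F (q' + 1) x) h1 (rfl : q' + 1 = q' + 1)
    obtain ⟨w', rfl⟩ := hprev q' rfl _ hQ w
    refine ⟨x + w'.comp hS.extClass rfl, ?_⟩
    rw [map_add, S8536.Hpull_comp_extClass g hS q' w']
    exact (congrArg (EtCore.Hpull g F (q' + 1) x + ·) hw).trans (add_sub_cancel _ _)

/-- A morphism from a sheaf killed by `N` to an `L`-torsion sheaf is killed by a number with prime factors in `L`. -/
theorem exists_factor_killed {F D : EtCoh.Ab W} (hF : EtAcyc.IsLTorsion L F) (a : D ⟶ F) {N : ℕ} (hN : 0 < N)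
    (hN0 : N • 𝟙 D = 0) : ∃ m : ℕ, EtAcyc.PrimesIn L m ∧ (m • 𝟙 D) ≫ a = 0 := by
  refine ⟨lnum L N, primesIn_lnum L N,
    Sheaf.hom_ext (NatTrans.ext (funext fun ⟨U⟩ => AddCommGrpCat.hom_ext (AddMonoidHom.ext fun s => ?_)))⟩
  rw [Preadditive.nsmul_comp, Category.id_comp]
  refine (nsmul_hom_app a (lnum L N) U s).trans ?_
  refine eq_of_cover F _ 0 ((mem_topology_iff _).2 fun x => ?_)
  obtain ⟨V, f, k, ⟨v, hv⟩, hk, h0⟩ := hF U (a.hom.app (op U) s) x
  refine ⟨V, f, v, ?_, hv⟩
  show (F.obj.map f.op).hom (lnum L N • a.hom.app (op U) s) = (F.obj.map f.op).hom 0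
  rw [map_zero, map_nsmul]
  let t := (F.obj.map f.op).hom (a.hom.app (op U) s)
  have hNt : N • t = 0 := by
    show N • (F.obj.map f.op).hom (a.hom.app (op U) s) = 0
    rw [← map_nsmul, ← map_nsmul, (killedBy_iff_nsmul N _).2 hN0 U s, map_zero, map_zero]
  have hd : addOrderOf t ∣ lnum L N := by
    have hdk := addOrderOf_dvd_iff_nsmul_eq_zero.2 (h0 : k • t = 0)
    refine dvd_lnum L (m := addOrderOf t) ⟨Nat.pos_of_dvd_of_pos hdk hk.1,
      fun p hp hpd => hk.2 p hp (hpd.trans hdk)⟩ (Nat.le_of_dvd hN (addOrderOf_dvd_iff_nsmul_eq_zero.2 hNt))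
  exact addOrderOf_dvd_iff_nsmul_eq_zero.1 hd

/-- Surjectivity passes to all torsion sheaves. -/
theorem surjective_torsion [CompactSpace W] [QuasiSeparatedSpace W] [QuasiCompact g] [QuasiSeparated g] (q : ℕ)
    (h : ∀ (E : EtCoh.Ab W) (m : ℕ), EtPBC.IsConstructible E → EtAcyc.PrimesIn L m → m • 𝟙 E = 0 →
      Function.Surjective (EtCore.Hpull g E q))
    (F : EtCoh.Ab W) (hF : EtAcyc.IsLTorsion L F) : Function.Surjective (EtCore.Hpull g F q) := by
  haveI : (EtCoh.pull g).IsLeftAdjoint := (EtCoh.pullPushAdj g).isLeftAdjoint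
  haveI : CompactSpace X := QuasiCompact.compactSpace_of_compactSpace g
  haveI : QuasiSeparatedSpace X := quasiSeparatedSpace_of_quasiSeparated g
  let D := TorsionInd.D F
  let hc := TorsionInd.isColimit F (isTorsion_of_isLTorsion hF)
  haveI := EtLC12.QcqsAcyclic.preservesColimitsOfShape_HF X q (TorsionInd.J F)
  let hc' := isColimitOfPreserves (EtCoh.HF X q) (isColimitOfPreserves (EtCoh.pull g) hc)
  intro ξ
  obtain ⟨j, z, hz⟩ := Concrete.isColimit_exists_rep _ hc' ξ
  let a : D.obj j ⟶ F := (TorsionInd.cocone F).ι.app j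
  have hcon := TorsionInd.isConstructible_D F j
  obtain ⟨N, hN, hN0⟩ := exists_killedBy W hcon
  obtain ⟨m, hm, hma⟩ := exists_factor_killed hF a hN hN0
  let E := cokernel (m • 𝟙 (D.obj j))
  have hE : EtPBC.IsConstructible E := isConstructible_cokernel _ hcon hcon
  have hEm : m • 𝟙 E = 0 := by
    rw [← cancel_epi (cokernel.π (m • 𝟙 (D.obj j))), comp_zero, Preadditive.comp_nsmul, Category.comp_id]
    refine Eq.trans ?_ (cokernel.condition (m • 𝟙 (D.obj j)))
    rw [Preadditive.nsmul_comp, Category.id_comp]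
  obtain ⟨y, hy⟩ := h E m hE hm hEm
    (z.comp (Ext.mk₀ ((EtCoh.pull g).map (cokernel.π (m • 𝟙 (D.obj j))))) (add_zero q))
  refine ⟨y.comp (Ext.mk₀ (cokernel.desc _ a hma)) (add_zero q), ?_⟩
  rw [S8536.Hpull_comp_mk₀, hy, Ext.comp_assoc_of_third_deg_zero, Ext.mk₀_comp_mk₀, ← Functor.map_comp,
    cokernel.π_desc]
  exact (EtLim8.HF_map_apply ((EtCoh.pull g).map a) q z).symm.trans hz

/-- Injectivity in the next degree. -/
theorem injective_succ [CompactSpace W] [QuasiSeparatedSpace W] (q : ℕ)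
    (hs : ∀ F : EtCoh.Ab W, EtAcyc.IsLTorsion L F → Function.Surjective (EtCore.Hpull g F q))
    (hi : ∀ F : EtCoh.Ab W, EtAcyc.IsLTorsion L F → Function.Injective (EtCore.Hpull g F q))
    (F : EtCoh.Ab W) (hF : EtAcyc.IsLTorsion L F) : Function.Injective (EtCore.Hpull g F (q + 1)) := by
  refine (injective_iff_map_eq_zero _).2 fun α hα => ?_
  obtain ⟨v, hv⟩ := exists_mono_tor L hF
  haveI := hv
  let S : ShortComplex (EtCoh.Ab W) := ShortComplex.mk v (cokernel.π v) (cokernel.condition _)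
  have hS : S.ShortExact :=
    { exact := ShortComplex.exact_of_g_is_cokernel _ (cokernelIsCokernel _) }
  have hS' : (S.map (EtCoh.pull g)).ShortExact := hS.map_of_exact _
  have hT := isLTorsion_tor L (Injective.under F)
  have hQ : EtAcyc.IsLTorsion L S.X₃ := S8536.isLTorsion_of_epi L S.g hT
  haveI := subsingleton_H_tor L (Injective.under F) q
  obtain ⟨β, rfl⟩ := Ext.covariant_sequence_exact₁ _ hS α (Subsingleton.elim _ _) (rfl : q + 1 = q + 1)
  rw [S8536.Hpull_comp_extClass g hS q β] at hα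
  obtain ⟨z, hz⟩ := Ext.covariant_sequence_exact₃ _ hS' _ _ hα
  obtain ⟨z', rfl⟩ := hs _ hT z
  have h1 : β = z'.comp (Ext.mk₀ S.g) (add_zero q) := hi _ hQ (by
    rw [S8536.Hpull_comp_mk₀]
    exact hz.symm)
  rw [h1, Ext.comp_assoc_of_second_deg_zero]
  erw [hS.comp_extClass]
  exact Ext.comp_zero _ _ _ _ _

/-- The comparison criterion, from injectivity in degree zero. -/
theorem compare' [CompactSpace W] [QuasiSeparatedSpace W] [QuasiCompact g] [QuasiSeparated g]
    (hI : IntConstSurj g L n) (hi0 : ∀ F : EtCoh.Ab W, EtAcyc.IsLTorsion L F → Function.Injective (EtCore.Hpull g F 0))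
    (F : EtCoh.Ab W) (hF : EtAcyc.IsLTorsion L F) :
    (∀ q : ℕ, q ≤ n → Function.Bijective (EtCore.Hpull g F q)) ∧ Function.Injective (EtCore.Hpull g F (n + 1)) := by
  have key : ∀ q : ℕ, q ≤ n + 1 → (∀ F : EtCoh.Ab W, EtAcyc.IsLTorsion L F → Function.Injective (EtCore.Hpull g F q)) ∧
      (q ≤ n → ∀ F : EtCoh.Ab W, EtAcyc.IsLTorsion L F → Function.Surjective (EtCore.Hpull g F q)) := by
    intro q
    induction q with
    | zero =>
      intro _
      exact ⟨hi0, fun hq => surjective_torsion g 0 fun E m hE hm hEm =>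
        surjective_constructible g hI 0 hq hi0 (fun q' h => absurd h (Nat.succ_ne_zero q')) E hE m hm hEm⟩
    | succ q ih =>
      intro hq
      obtain ⟨hi, hs⟩ := ih (by omega)
      have hs' := hs (by omega)
      have hi' := injective_succ g q hs' hi
      exact ⟨hi', fun hq' => surjective_torsion g (q + 1) fun E m hE hm hEm =>
        surjective_constructible g hI (q + 1) hq' hi' (fun q' h => by obtain rfl : q' = q := Nat.succ.inj h; exact hs')
          E hE m hm hEm⟩
  exact ⟨fun q hq => ⟨(key q (by omega)).1 F hF, (key q (by omega)).2 hq F hF⟩, (key (n + 1) le_rfl).1 F hF⟩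

/-- The comparison criterion. -/
theorem compare [CompactSpace W] [QuasiSeparatedSpace W] [QuasiCompact g] [QuasiSeparated g] [Surjective g]
    (hI : IntConstSurj g L n) (F : EtCoh.Ab W) (hF : EtAcyc.IsLTorsion L F) :
    (∀ q : ℕ, q ≤ n → Function.Bijective (EtCore.Hpull g F q)) ∧ Function.Injective (EtCore.Hpull g F (n + 1)) := by
  refine compare' g hI (fun F _ => ?_) F hF
  haveI := mono_unit g F
  refine (injective_iff_map_eq_zero _).2 fun x hx => BcQCalc.eq_zero_of_comp_mono ((EtCoh.pullPushAdj g).unit.app F) x ?_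
  refine (HofPush_bijective_zero g _).1 ?_
  rw [← EtAcycLib.UnitRpush.Hpull_eq_HofPush, hx, map_zero]

end Groth.Agent.AcycFin
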