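import Groth.Agent.EtFound.ConstVal
import Groth.Agent.EtAcycLib.Compose
import Groth.Agent.S8536
import Groth.Prelude.Def_EtRestW

/-!
# Locally constant sheaves become constant sheaves on an étale cover
-/

set_option autoImplicit false
set_option linter.unusedSectionVars false
set_option linter.style.haveILetI false
set_option backward.isDefEq.respectTransparency false
set_option backward.isDefEq.respectTransparency.types false

universe u

open CategoryTheory CategoryTheory.Limits AlgebraicGeometry Opposite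

noncomputable section

namespace Groth.Agent.AcycFin

open EtFound EtFound.ConstVal

attribute [local instance] EtFound.pull_preservesFiniteLimits

/-- A sheaf constant over the final étale scheme is a constant sheaf. -/
theorem nonempty_iso_of_constBy {Z : Scheme.{u}} {G : EtCoh.Ab Z} {M : AddCommGrpCat.{u + 1}}
    {ψ : M ⟶ G.obj.obj (op (EtCoh.top Z))} (h : ConstBy G ψ (U := EtCoh.top Z)) :
    Nonempty ((constantSheaf Z.smallEtaleTopology AddCommGrpCat.{u + 1}).obj M ≅ G) := by
  let T := EtCoh.top Z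
  let C := (constantSheaf Z.smallEtaleTopology AddCommGrpCat.{u + 1}).obj M
  let a : C ⟶ G := ((EtCore.constAdj Z).homEquiv M G).symm ψ
  let ψ₀ : M ⟶ C.obj.obj (op T) :=
    (toSheafify Z.smallEtaleTopology ((Functor.const Z.Etaleᵒᵖ).obj M)).app (op T)
  have hC : ConstBy C ψ₀ (U := T) := constBy_const Z M T
  have h0 : (EtCore.constAdj Z).unit.app M ≫ a.hom.app (op T) = ψ := by
    have := ((EtCore.constAdj Z).homEquiv M G).apply_symm_apply ψ
    rw [Adjunction.homEquiv_unit] at this
    exact this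
  obtain ⟨h', e'⟩ : ∃ h' : M ⟶ M, IsIso h' ∧ ψ₀ ≫ a.hom.app (op T) = h' ≫ ψ := by
    refine ⟨𝟙 M, inferInstance, ?_⟩
    rw [Category.id_comp]
    refine Eq.trans ?_ h0
    congr 1
  haveI := e'.1
  have e := constMap_natural (φ := ψ₀) (ψ := ψ) a h' e'.2
  haveI := isIso_constMap hC
  haveI := isIso_constMap h
  haveI : IsIso ((Z.smallEtaleTopology.overPullback AddCommGrpCat.{u + 1} T).map a) := by
    rw [← IsIso.eq_inv_comp] at e
    rw [e]
    infer_instance
  haveI : IsIso a.hom := by
    haveI : IsIso (((Z.smallEtaleTopology.overPullback AddCommGrpCat.{u + 1} T).map a).hom) :=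
      inferInstanceAs (IsIso ((sheafToPresheaf (Z.smallEtaleTopology.over T) AddCommGrpCat.{u + 1}).map
        ((Z.smallEtaleTopology.overPullback AddCommGrpCat.{u + 1} T).map a)))
    haveI : ∀ V, IsIso (a.hom.app V) := fun V =>
      inferInstanceAs (IsIso (((Z.smallEtaleTopology.overPullback AddCommGrpCat.{u + 1} T).map a).hom.app
        (op (Over.mk ((EtCore.topIsTerminal Z).from V.unop)))))
    exact NatIso.isIso_of_isIso_app _
  haveI : IsIso ((sheafToPresheaf Z.smallEtaleTopology AddCommGrpCat.{u + 1}).map a) := ‹IsIso a.hom›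
  haveI : IsIso a := isIso_of_reflects_iso a (sheafToPresheaf Z.smallEtaleTopology AddCommGrpCat.{u + 1})
  exact ⟨asIso a⟩

/-- A sheaf constant over an étale scheme restricts to a constant sheaf. -/
theorem nonempty_pull_iso_const {X : Scheme.{u}} {F : EtCoh.Ab X} {U : X.Etale} {M : AddCommGrpCat.{u + 1}}
    (e : F.over U ≅ (constantSheaf (X.smallEtaleTopology.over U) AddCommGrpCat.{u + 1}).obj M) :
    Nonempty ((constantSheaf U.left.smallEtaleTopology AddCommGrpCat.{u + 1}).obj M ≅ (EtCoh.pull U.hom).obj F) := by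
  obtain ⟨φ, hφ⟩ := exists_constBy e
  let d : EtCoh.top U.left ⟶ (EtCoh.bc U.hom).obj U :=
    MorphismProperty.Over.homMk (pullback.lift (𝟙 U.left) (𝟙 U.left) rfl) (pullback.lift_snd _ _ _) trivial
  exact nonempty_iso_of_constBy ((constBy_pull U.hom hφ).restrict d)

variable {L : Set ℕ}

/-- The values of a torsion constant sheaf on a nonempty scheme are torsion. -/
theorem primesIn_of_isLTorsion_const {Z : Scheme.{u}} [Nonempty Z] (M : AddCommGrpCat.{u + 1})
    (hF : EtAcyc.IsLTorsion L ((constantSheaf Z.smallEtaleTopology AddCommGrpCat.{u + 1}).obj M)) (m : M) :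
    ∃ k : ℕ, EtAcyc.PrimesIn L k ∧ k • m = 0 := by
  let hT := EtCore.topIsTerminal Z
  have hc := constBy_const Z M (EtCoh.top Z)
  obtain ⟨V, g, k, ⟨v, -⟩, hk, h0⟩ := hF (EtCoh.top Z)
    (φV hT ((toSheafify Z.smallEtaleTopology ((Functor.const Z.Etaleᵒᵖ).obj M)).app (op (EtCoh.top Z))) _ m)
    (Classical.arbitrary Z)
  haveI : Nonempty V.left := ⟨v⟩
  refine ⟨k, hk, φV_injective hT hc V ?_⟩
  have h1 := (congrArg (k • ·) (map_φV hT
    ((toSheafify Z.smallEtaleTopology ((Functor.const Z.Etaleᵒᵖ).obj M)).app (op (EtCoh.top Z))) g m)).symm.trans h0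
  unfold φV at h1 ⊢
  rw [map_nsmul, map_nsmul, map_zero, map_zero]
  exact h1

/-- A constant sheaf with torsion values is torsion. -/
theorem isLTorsion_const_of_primesIn (Z : Scheme.{u}) (M : AddCommGrpCat.{u + 1})
    (h : ∀ m : M, ∃ k : ℕ, EtAcyc.PrimesIn L k ∧ k • m = 0) :
    EtAcyc.IsLTorsion L ((constantSheaf Z.smallEtaleTopology AddCommGrpCat.{u + 1}).obj M) := fun U s x => by
  let hT := EtCore.topIsTerminal Z
  obtain ⟨m, W, g, w, hw, hm⟩ := exists_value hT (constBy_const Z M (EtCoh.top Z)) s x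
  obtain ⟨k, hk, h0⟩ := h m
  refine ⟨W, g, k, ⟨w, hw⟩, hk, ?_⟩
  refine (congrArg (k • ·) hm).trans ?_
  unfold φV
  rw [← map_nsmul, ← map_nsmul, h0, map_zero, map_zero]

end Groth.Agent.AcycFin
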