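import Groth.Agent.AcycFin.Normal
import Groth.Agent.EtFound.Strata
import Groth.Agent.EtFound.Stalk
import Groth.Agent.EtFound.FieldExt
import Groth.Agent.EtFound.Presentation
import Mathlib.Topology.Constructible

/-!
# Constructible sheaves inject into direct images of finite constants along integral morphisms
-/

set_option autoImplicit false
set_option linter.unusedSectionVars false
set_option linter.style.haveILetI false
set_option backward.isDefEq.respectTransparency false
set_option backward.isDefEq.respectTransparency.types false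

universe u

open CategoryTheory CategoryTheory.Limits AlgebraicGeometry Opposite Topology

noncomputable section

namespace Groth.Agent.AcycFin

open Groth.Agent.EtFound PrimeSpectrum

/-- A family of sections constant over the top object is an isomorphism from the constant sheaf. -/
theorem exists_iso_const {X : Scheme.{u}} (G : EtCoh.Ab X) {T : X.Etale} (hT : IsTerminal T)
    {M : AddCommGrpCat.{u + 1}} {φ : M ⟶ G.obj.obj (op T)} (h : ConstBy G φ) :
    ∃ α : (constantSheaf X.smallEtaleTopology AddCommGrpCat.{u + 1}).obj M ⟶ G, IsIso α := by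
  let c : (Functor.const X.Etaleᵒᵖ).obj M ⟶ G.obj :=
    { app := fun V => φ ≫ G.obj.map (hT.from V.unop).op
      naturality := fun V W g => by
        refine (Category.id_comp _).trans ?_
        show φ ≫ G.obj.map (hT.from W.unop).op = (φ ≫ G.obj.map (hT.from V.unop).op) ≫ G.obj.map g
        rw [Category.assoc, ← Functor.map_comp, hT.hom_ext (hT.from W.unop) (g.unop ≫ hT.from V.unop)]
        rfl }
  let α : (constantSheaf X.smallEtaleTopology AddCommGrpCat.{u + 1}).obj M ⟶ G :=
    ⟨sheafifyLift X.smallEtaleTopology c G.property⟩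
  refine ⟨α, isIso_of_stalks α fun Ω₀ _ _ η₀ => ?_⟩
  let Ω := AlgebraicClosure Ω₀
  let l : Spec (CommRingCat.of Ω) ⟶ Spec (CommRingCat.of Ω₀) :=
    Spec.map (CommRingCat.ofHom (algebraMap Ω₀ Ω))
  let η := l ≫ η₀
  have hη : Function.Bijective ((Scheme.pointSmallEtale η).sheafFiber.map α) := by
    obtain ⟨⟨V, v⟩⟩ : Nonempty ((V : X.Etale) × (Scheme.pointSmallEtale η).fiber.obj V) :=
      ⟨⟨EtCoh.top X, CategoryTheory.Over.homMk η (Category.comp_id η)⟩⟩
    refine (Function.Bijective.of_comp_iff _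
      (toSheafify_const_germ_bijective η AddCommGrpCat.{u + 1} M V v)).1 ?_
    have hb := (h.restrict (hT.from V)) Ω η v
    refine (congrArg Function.Bijective (funext fun m => ?_)).mp hb
    symm
    refine ((Scheme.pointSmallEtale η).toPresheafFiber_naturality_apply α.hom V v _).trans ?_
    refine (congrArg _ ((congrArg (fun k : (Functor.const X.Etaleᵒᵖ).obj M ⟶ G.obj => (k.app (op V)).hom m)
      (toSheafify_sheafifyLift X.smallEtaleTopology c G.property)) : _)).trans ?_
    rfl
  haveI : IsIso ((Scheme.pointSmallEtale η).sheafFiber.map α) := (ConcreteCategory.isIso_iff_bijective _).2 hη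
  have := (NatIso.isIso_map_iff (stalkExtIso AddCommGrpCat.{u + 1} η₀ l) α).2 this
  exact (ConcreteCategory.isIso_iff_bijective ((Scheme.pointSmallEtale η₀).sheafFiber.map α)).1 this

variable {P : Type u} [CommRing P]

theorem isClopen_of_isConstructible (hQ : VNRegular P) {E : Set (PrimeSpectrum P)}
    (hE : IsConstructible E) : IsClopen E := by
  induction hE using IsConstructible.empty_union_induction with
  | open_retrocompact U hU hUc =>
    exact isClopen_of_compact_open hQ (by simpa using hUc isCompact_univ isOpen_univ) hU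
  | union s hs t ht hs' ht' => exact hs'.union ht'
  | compl s hs hs' => exact hs'.compl

theorem VNRegular.isReduced (hQ : VNRegular P) : IsReduced P := ⟨fun _ hx => hQ.isNilpotent_eq_zero hx⟩

/-- Constructible sheaves on an absolutely flat scheme are constant on the pieces of a finite clopen cover. -/
theorem exists_const_cover (hP : MonicSplit P) (hQ : VNRegular P) (G : EtCoh.Ab (Spec (CommRingCat.of P)))
    (hG : EtPBC.IsConstructible G) (m : ℕ) (hm : EtCoh.KilledBy m G) :
    ∃ (κ : Type u) (_ : Finite κ) (R : κ → Type u) (_ : ∀ k, CommRing (R k)) (r : ∀ k, P →+* R k)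
      (_ : ∀ k, Function.Surjective (r k)) (_ : ∀ k, IsOpenImmersion (Spec.map (CommRingCat.ofHom (r k))))
      (M : κ → Type) (_ : ∀ k, AddCommGroup (M k)),
      (∀ x, ∃ k, x ∈ Set.range (Spec.map (CommRingCat.ofHom (r k)))) ∧ (∀ k, Finite (M k)) ∧
      (∀ k (a : M k), m • a = 0) ∧
      ∀ k, Nonempty ((EtCoh.pull (Spec.map (CommRingCat.ofHom (r k)))).obj G ≅ EtCoh.const _ (M k)) := by
  haveI := hQ.isReduced
  obtain ⟨n, E, hpiece, hcon, hU⟩ := exists_pieces ((isConstructible_iff_adaptedStrata _ G).1 hG)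
  have key : ∀ x : PrimeSpectrum P, ∃ (ε : P) (_ : IsIdempotentElem ε) (_ : x ∈ PrimeSpectrum.basicOpen ε)
      (M : Type) (_ : AddCommGroup M), Finite M ∧ (∀ a : M, m • a = 0) ∧
      Nonempty ((EtCoh.pull (Spec.map (CommRingCat.ofHom (Ideal.Quotient.mk (Ideal.span {1 - ε}))))).obj G ≅
        EtCoh.const _ M) := by
    intro x
    obtain ⟨k, hk⟩ := Set.mem_iUnion.1 (hU.ge (Set.mem_univ x))
    have hclopen : IsClopen (E k) := by
      have h1 := (hcon k).preimage_of_isOpenEmbedding
        (Homeomorph.Set.univ (PrimeSpectrum P)).symm.isOpenEmbedding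
      change IsConstructible (E k : Set (PrimeSpectrum P)) at h1
      exact isClopen_of_isConstructible hQ h1
    obtain ⟨T, g, hg, hrange, hflc⟩ := hpiece k
    let O : (Spec (CommRingCat.of P)).Opens := ⟨E k, hclopen.2⟩
    haveI := hg
    let g' : T ⟶ O := IsOpenImmersion.lift O.ι g (by rw [Scheme.Opens.range_ι]; exact hrange.le)
    have hg' : g' ≫ O.ι = g := IsOpenImmersion.lift_fac _ _ _
    haveI : IsPreimmersion (g' ≫ O.ι) := by rw [hg']; infer_instance
    haveI : IsPreimmersion g' := IsPreimmersion.of_comp g' O.ι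
    haveI : Surjective g' := ⟨fun o => by
      obtain ⟨t, ht⟩ : o.1 ∈ Set.range g := hrange.ge o.2
      exact ⟨t, O.ι.isOpenEmbedding.injective (by rw [← Scheme.Hom.comp_apply, hg', ht]; rfl)⟩⟩
    haveI : IsClosedImmersion g' := IsClosedImmersion.of_isPreimmersion g' (by
      rw [Set.range_eq_univ.2 g'.surjective]; exact isClosed_univ)
    haveI : IsIso g' := isIso_of_isClosedImmersion_of_surjective g'
    have hO : EtCoh.IsFiniteLocallyConstant ((EtCoh.pull O.ι).obj G) := by
      have e : inv g' ≫ g = O.ι := by rw [← hg', IsIso.inv_hom_id_assoc]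
      rw [← e]
      exact isFiniteLocallyConstant_of_iso ((pullCompAb (inv g') g).app G).symm
        (isFiniteLocallyConstant_pull (inv g') hflc)
    obtain ⟨U, p, hp, S, hS⟩ := (isFiniteLocallyConstant_iff _).1 hO ⟨x, hk⟩
    haveI : Etale U.hom := U.prop
    have hstrict : ∀ s : O.toScheme, EtCoh.IsStrictlyHenselianLocalRing (O.toScheme.presheaf.stalk s) := fun s => by
      obtain ⟨h1, h2⟩ := hP.strictlyHenselian_spec s.1
      haveI := h1
      haveI := h2
      exact (AlgSpDec.EtStalkProps.isStrictlyHenselian_of_ringEquiv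
        (O.stalkIso s).commRingCatIsoToRingEquiv.symm).2
    obtain ⟨W, σ, -, ⟨w, hw⟩, hσ⟩ := ConstRpush.exists_section_through hstrict U.hom p
    have hxW : x ∈ (O.ι ''ᵁ W : (Spec (CommRingCat.of P)).Opens) := by
      refine ⟨w.1, w.2, ?_⟩
      have : U.hom (σ w) = W.ι w := (Scheme.Hom.comp_apply _ _ _).symm.trans
        (congrArg (fun k : W.toScheme ⟶ O.toScheme => k w) hσ)
      rw [hw] at this
      exact congrArg Subtype.val (this.symm.trans hp)
    obtain ⟨_, ⟨f, rfl⟩, hxf, hfW⟩ :=
      PrimeSpectrum.isTopologicalBasis_basic_opens.exists_subset_of_mem_open hxW (O.ι ''ᵁ W).2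
    obtain ⟨ε, hε, hεf⟩ := PrimeSpectrum.isClopen_iff.1 (hQ.isClopen_basicOpen f)
    let c := Spec.map (CommRingCat.ofHom (Ideal.Quotient.mk (Ideal.span {1 - ε})))
    have hc : Set.range c = (PrimeSpectrum.basicOpen ε : Set (PrimeSpectrum P)) := by
      refine (range_comap_of_surjective _ _ Ideal.Quotient.mk_surjective).trans ?_
      rw [Ideal.mk_ker, PrimeSpectrum.zeroLocus_span, PrimeSpectrum.basicOpen_eq_zeroLocus_of_isIdempotentElem _ hε]
    have hcW : Set.range c ⊆ Set.range (W.ι ≫ O.ι) := by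
      rw [hc, ← hεf]
      refine hfW.trans ?_
      rintro _ ⟨o, ho, rfl⟩
      exact ⟨⟨o, ho⟩, rfl⟩
    let c' := IsOpenImmersion.lift (W.ι ≫ O.ι) c hcW
    have hc' : c' ≫ W.ι ≫ O.ι = c := IsOpenImmersion.lift_fac _ _ _
    let c'' := c' ≫ W.ι
    let s : EtCoh.top (Spec (CommRingCat.of (P ⧸ Ideal.span {1 - ε}))) ⟶ (EtCoh.bc c'').obj U :=
      MorphismProperty.Over.homMk (pullback.lift (c' ≫ σ) (𝟙 _) (by
        rw [Category.assoc, hσ]; exact (Category.id_comp _).symm))
        (pullback.lift_snd _ _ _) trivial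
    have hSfin := hS.1
    let M := Shrink.{0} S
    haveI : Finite M := Finite.of_equiv _ (equivShrink.{0} S)
    let e : ULift.{u + 1} M ≃+ S := AddEquiv.ulift.trans (Shrink.addEquiv.{0} (α := S))
    let φ : AddCommGrpCat.of (ULift.{u + 1} M) ⟶ ((EtCoh.pull O.ι).obj G).obj.obj (op U) :=
      AddCommGrpCat.ofHom (S.subtype.comp e.toAddMonoidHom)
    have hφ : ConstBy ((EtCoh.pull O.ι).obj G) φ := fun Ω _ _ ξ z => (hS.2 Ω ξ z).comp e.bijective
    obtain ⟨α, hα⟩ := exists_iso_const _ (EtCore.topIsTerminal _) ((constBy_pull c'' hφ).restrict s)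
    haveI := hα
    refine ⟨ε, hε, (TopologicalSpace.Opens.ext hεf : PrimeSpectrum.basicOpen f = _) ▸ hxf, M, inferInstance, inferInstance, fun a => ?_, ⟨?_⟩⟩
    · have h1 : EtCoh.KilledBy m ((EtCoh.pull O.ι).obj G) := by
        haveI : (EtCoh.pull O.ι).IsLeftAdjoint := (EtCoh.pullPushAdj O.ι).isLeftAdjoint
        haveI : (EtCoh.pull O.ι).Additive := (EtCoh.pullPushAdj O.ι).left_adjoint_additive
        rw [killedBy_iff_nsmul] at hm ⊢
        rw [← CategoryTheory.Functor.map_id, ← Functor.map_nsmul, hm, Functor.map_zero]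
      apply ((Shrink.addEquiv.{0} (α := S))).injective
      rw [map_nsmul, map_zero]
      exact Subtype.ext (h1 U _)
    · exact (EtCore.pullCongr (show c'' ≫ O.ι = c by rw [← hc', Category.assoc])).symm.app G ≪≫
        (pullCompAb c'' O.ι).app G ≪≫ (asIso α).symm
  choose ε hε hxε M iM fM hmM hiso using key
  obtain ⟨t, ht⟩ := (CompactSpace.isCompact_univ (X := PrimeSpectrum P)).elim_finite_subcover
    (fun x => (PrimeSpectrum.basicOpen (ε x) : Set (PrimeSpectrum P))) (fun x => (PrimeSpectrum.basicOpen _).2)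
    (fun x _ => Set.mem_iUnion.2 ⟨x, hxε x⟩)
  refine ⟨t, inferInstance, fun k => P ⧸ Ideal.span {1 - ε k.1}, fun k => inferInstance,
    fun k => Ideal.Quotient.mk _, fun k => Ideal.Quotient.mk_surjective, fun k => ?_, fun k => M k.1,
    fun k => iM k.1, fun x => ?_, fun k => fM k.1, fun k => hmM k.1, fun k => hiso k.1⟩
  · let _ : Algebra P (P ⧸ Ideal.span {1 - ε k.1}) := inferInstance
    haveI := IsLocalization.away_of_isIdempotentElem (R := P) (S := P ⧸ Ideal.span {1 - ε k.1}) (hε k.1)
      (by show RingHom.ker (Ideal.Quotient.mk _) = _; rw [Ideal.mk_ker]) Ideal.Quotient.mk_surjective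
    exact IsOpenImmersion.of_isLocalization (ε k.1)
  · obtain ⟨k, hk⟩ := Set.mem_iUnion.1 (ht (Set.mem_univ x))
    obtain ⟨hkt, hk⟩ := Set.mem_iUnion.1 hk
    refine ⟨⟨k, hkt⟩, ?_⟩
    show x ∈ Set.range (PrimeSpectrum.comap (Ideal.Quotient.mk (Ideal.span {1 - ε k})))
    rw [range_comap_of_surjective _ _ Ideal.Quotient.mk_surjective, Ideal.mk_ker,
      PrimeSpectrum.zeroLocus_span, ← PrimeSpectrum.basicOpen_eq_zeroLocus_of_isIdempotentElem _ (hε k)]
    exact hk

end Groth.Agent.AcycFin
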