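import Groth.Agent.AcycFin.Embed
import Groth.Agent.AICCover.Scheme
import Groth.Agent.EtFound.Detect

/-!
# The embedding of a constructible sheaf on a qcqs scheme
-/

set_option autoImplicit false
set_option linter.unusedSectionVars false
set_option linter.style.haveILetI false
set_option backward.isDefEq.respectTransparency false
set_option backward.isDefEq.respectTransparency.types false

universe u

open CategoryTheory CategoryTheory.Limits AlgebraicGeometry Opposite

noncomputable section

namespace Groth.Agent.AcycFin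

open Groth.Agent.EtFound

/-- A morphism of sheaves killed by the inverse images along a jointly surjective family is zero. -/
theorem eq_zero_of_pull {S : Scheme.{u}} {κ : Type*} {Z : κ → Scheme.{u}} (η : ∀ k, Z k ⟶ S)
    (hη : ∀ s : S, ∃ k, s ∈ Set.range (η k)) {T F : EtCoh.Ab S} (t : T ⟶ F)
    (h : ∀ k, (EtCoh.pull (η k)).map t = 0) : t = 0 := by
  refine eq_of_stalks t 0 fun Ω₀ _ _ ξ => ?_
  obtain ⟨k, z₀, hz₀⟩ := hη (ξ.base (default : Spec (CommRingCat.of Ω₀)))
  obtain ⟨z, -, -⟩ := Scheme.Pullback.exists_preimage_pullback (f := η k) (g := ξ) z₀ default hz₀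
  let Ω := SeparableClosure ((pullback (η k) ξ).residueField z)
  let m : Spec (CommRingCat.of Ω) ⟶ pullback (η k) ξ :=
    Spec.map (CommRingCat.ofHom (algebraMap ((pullback (η k) ξ).residueField z) Ω)) ≫
      (pullback (η k) ξ).fromSpecResidueField z
  let ζ := m ≫ pullback.fst (η k) ξ
  let l := m ≫ pullback.snd (η k) ξ
  have hl : ζ ≫ η k = l ≫ ξ := by simp only [ζ, l, Category.assoc, pullback.condition]
  haveI : (EtCoh.pull (η k)).IsLeftAdjoint := (EtCoh.pullPushAdj (η k)).isLeftAdjoint
  haveI : (EtCoh.pull (η k)).Additive := (EtCoh.pullPushAdj (η k)).left_adjoint_additive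
  apply (stalkExtIso AddCommGrpCat.{u + 1} ξ l).hom.app F |> cancel_mono |>.1
  rw [NatTrans.naturality, NatTrans.naturality]
  apply (cancel_epi ((stalkExtIso AddCommGrpCat.{u + 1} ξ l).hom.app T)).2
  rw [← hl]
  apply (cancel_epi ((sheafFiberPullIso (η k) ζ).hom.app T)).1
  rw [← NatTrans.naturality, ← NatTrans.naturality]
  exact congrArg (· ≫ _) (congrArg (Scheme.pointSmallEtale ζ).sheafFiber.map
    ((h k).trans (Functor.map_zero (EtCoh.pull (η k)) _ _).symm))

/-- Constructible sheaves inject jointly into direct images of finite constants along integral morphisms. -/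
theorem exists_embedding (S : Scheme.{u}) [CompactSpace S] [QuasiSeparatedSpace S] (F : EtCoh.Ab S)
    (hF : EtPBC.IsConstructible F) (m : ℕ) (hm : EtCoh.KilledBy m F) :
    ∃ (κ : Type u) (_ : Finite κ) (Y : κ → Scheme.{u}) (π : ∀ k, Y k ⟶ S) (_ : ∀ k, IsIntegralHom (π k))
      (M : κ → Type) (_ : ∀ k, AddCommGroup (M k)), (∀ k, Finite (M k)) ∧ (∀ k (a : M k), m • a = 0) ∧
      ∃ a : ∀ k, F ⟶ (EtCoh.push (π k)).obj (EtCoh.const (Y k) (M k)),
        ∀ (T : EtCoh.Ab S) (t : T ⟶ F), (∀ k, t ≫ a k = 0) → t = 0 := by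
  classical
  have hcov : ∀ x : S, ∃ U : S.Opens, IsAffineOpen U ∧ x ∈ U := fun x => by
    obtain ⟨W, hW, hxW, -⟩ := exists_isAffineOpen_mem_and_subset (U := (⊤ : S.Opens)) (x := x) trivial
    exact ⟨W, hW, hxW⟩
  choose U hU hxU using hcov
  obtain ⟨s, hs⟩ := (isCompact_univ (X := S)).elim_finite_subcover (fun x => (U x : Set S)) (fun x => (U x).2)
    (fun x _ => Set.mem_iUnion.2 ⟨x, hxU x⟩)
  let f : ∀ i : s, Spec (CommRingCat.of (AICCover.Pts S (U i.1))) ⟶ S := fun i =>
    Spec.map (CommRingCat.ofHom (AICCover.evalPts S (U i.1))) ≫ (hU i.1).fromSpec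
  have hsurj : ∀ x : S, ∃ i, x ∈ Set.range (f i) := fun x => by
    obtain ⟨y, hy⟩ := Set.mem_iUnion.1 (hs (Set.mem_univ x))
    obtain ⟨hys, hy⟩ := Set.mem_iUnion.1 hy
    refine ⟨⟨y, hys⟩, (⟨RingHom.ker (Pi.evalRingHom (fun z : U y => AlgebraicClosure (S.residueField z.1)) ⟨x, hy⟩),
      RingHom.ker_isPrime _⟩ : PrimeSpectrum (AICCover.Pts S (U y))), ?_⟩
    rw [Scheme.Hom.comp_apply]
    refine (congrArg (hU y).fromSpec ?_).trans ((hU y).fromSpec_primeIdealOf ⟨x, hy⟩)
    refine PrimeSpectrum.ext (Ideal.ext fun a => ?_)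
    show AICCover.evalPts S (U y) a ⟨x, hy⟩ = 0 ↔ _
    rw [AICCover.evalPts_eq_zero_iff, IsAffineOpen.primeIdealOf_eq_map_closedPoint]
    rw [Scheme.mem_basicOpen _ _ x hy]
    show _ ↔ (S.presheaf.germ (U y) x hy) a ∈ IsLocalRing.maximalIdeal _
    rw [IsLocalRing.mem_maximalIdeal]
    exact Iff.rfl
  have hG : ∀ i, EtCoh.KilledBy m ((EtCoh.pull (f i)).obj F) := fun i => by
    haveI : (EtCoh.pull (f i)).IsLeftAdjoint := (EtCoh.pullPushAdj (f i)).isLeftAdjoint
    haveI : (EtCoh.pull (f i)).Additive := (EtCoh.pullPushAdj (f i)).left_adjoint_additive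
    rw [killedBy_iff_nsmul] at hm ⊢
    rw [← CategoryTheory.Functor.map_id, ← Functor.map_nsmul, hm, Functor.map_zero]
  choose κ fκ R iR r hr hopen M iM hcover hfin hkill hiso using fun i =>
    exists_const_cover (monicSplit_pi (fun z : U i.1 => AlgebraicClosure (S.residueField z.1)))
      (vnRegular_pi (fun z : U i.1 => AlgebraicClosure (S.residueField z.1))) _ (isConstructible_pull (f i) hF) m (hG i)
  let K := Σ i : s, κ i
  let η : ∀ k : K, Spec (CommRingCat.of (R k.1 k.2)) ⟶ S := fun k =>
    Spec.map (CommRingCat.ofHom (r k.1 k.2)) ≫ f k.1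
  have hj : ∀ k : K, DenseExt (η k).toNormalization := fun k =>
    denseExt_toNormalization (η k) ((monicSplit_pi _).of_surjective _ (hr k.1 k.2))
      ((vnRegular_pi _).of_surjective _ (hr k.1 k.2))
  haveI : ∀ k : K, IsIso ((EtCoh.pullPushAdj (η k).toNormalization).unit.app
      (EtCoh.const (η k).normalization (M k.1 k.2))) := fun k => (hj k).isIso_unit_const _
  let θ : ∀ k : K, (EtCoh.pull (η k).toNormalization).obj ((EtCoh.pull (η k).fromNormalization).obj F) ≅
      (EtCoh.pull (η k).toNormalization).obj (EtCoh.const (η k).normalization (M k.1 k.2)) := fun k =>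
    (pullCompAb _ _).symm.app F ≪≫ (EtCore.pullCongr (η k).toNormalization_fromNormalization).app F ≪≫
      (pullCompAb (Spec.map (CommRingCat.ofHom (r k.1 k.2))) (f k.1)).app F ≪≫ (hiso k.1 k.2).some ≪≫
        (EtCore.pullConst (η k).toNormalization (M k.1 k.2)).symm
  let u : ∀ k : K, EtCoh.const (η k).normalization (M k.1 k.2) ≅ (EtCoh.push (η k).toNormalization).obj
      ((EtCoh.pull (η k).toNormalization).obj (EtCoh.const (η k).normalization (M k.1 k.2))) := fun k =>
    @asIso _ _ _ _ ((EtCoh.pullPushAdj (η k).toNormalization).unit.app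
      (EtCoh.const (η k).normalization (M k.1 k.2))) ((hj k).isIso_unit_const _)
  let b : ∀ k : K, (EtCoh.pull (η k).fromNormalization).obj F ⟶ EtCoh.const (η k).normalization (M k.1 k.2) := fun k =>
    ((EtCoh.pullPushAdj (η k).toNormalization).homEquiv _ _ (θ k).hom) ≫ (u k).inv
  refine ⟨K, inferInstance, fun k => (η k).normalization, fun k => (η k).fromNormalization, fun k => inferInstance,
    fun k => M k.1 k.2, fun k => iM k.1 k.2, fun k => hfin k.1 k.2, fun k => hkill k.1 k.2,
    fun k => (EtCoh.pullPushAdj (η k).fromNormalization).homEquiv _ _ (b k), fun T t ht => ?_⟩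
  refine eq_zero_of_pull η (fun x => ?_) t fun k => ?_
  · obtain ⟨i, z, hz⟩ := hsurj x
    obtain ⟨k, w, hw⟩ := hcover i z
    exact ⟨⟨i, k⟩, w, by rw [Scheme.Hom.comp_apply, hw, hz]⟩
  · haveI : (EtCoh.pull (η k).toNormalization).IsLeftAdjoint := (EtCoh.pullPushAdj _).isLeftAdjoint
    haveI : (EtCoh.pull (η k).toNormalization).Additive := (EtCoh.pullPushAdj _).left_adjoint_additive
    haveI : (EtCoh.pull (η k).fromNormalization).IsLeftAdjoint := (EtCoh.pullPushAdj _).isLeftAdjoint
    haveI : (EtCoh.pull (η k).fromNormalization).Additive := (EtCoh.pullPushAdj _).left_adjoint_additive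
    have h1 : (EtCoh.pull (η k).fromNormalization).map t ≫ b k = 0 := by
      apply ((EtCoh.pullPushAdj (η k).fromNormalization).homEquiv _ _).injective
      rw [Adjunction.homEquiv_naturality_left, ht k]
      exact (map_zero ((EtCoh.pullPushAdj (η k).fromNormalization).homAddEquiv _ _)).symm
    have h2 : (EtCoh.pull (η k).toNormalization).map ((EtCoh.pull (η k).fromNormalization).map t) ≫ (θ k).hom = 0 := by
      apply ((EtCoh.pullPushAdj (η k).toNormalization).homEquiv _ _).injective
      rw [Adjunction.homEquiv_naturality_left]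
      refine Eq.trans ?_ (map_zero ((EtCoh.pullPushAdj (η k).toNormalization).homAddEquiv _ _)).symm
      exact (cancel_mono (u k).inv).1 ((Category.assoc _ _ _).trans (h1.trans zero_comp.symm))
    have h3 := (cancel_mono (θ k).hom).1 (h2.trans zero_comp.symm)
    rw [← cancel_epi ((pullCompAb (η k).toNormalization (η k).fromNormalization).app T).hom] at h3
    have h4 : (EtCoh.pull ((η k).toNormalization ≫ (η k).fromNormalization)).map t = 0 := by
      rw [← cancel_mono ((pullCompAb (η k).toNormalization (η k).fromNormalization).hom.app F), zero_comp,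
        NatTrans.naturality]
      simpa using h3
    rw [(η k).toNormalization_fromNormalization] at h4
    exact h4

end Groth.Agent.AcycFin
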