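import Groth.Agent.AcycFin.Ring
import Groth.Agent.EtFound.ConstRpush
import Groth.Agent.EtFound.ConstPush
import Mathlib.RingTheory.Spectrum.Prime.Topology
import Mathlib.Topology.LocallyConstant.Basic

/-!
# Constant sheaves extend along integrally closed dense morphisms
-/

set_option autoImplicit false
set_option linter.unusedSectionVars false
set_option linter.style.haveILetI false
set_option backward.isDefEq.respectTransparency false
set_option backward.isDefEq.respectTransparency.types false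

universe u

open CategoryTheory CategoryTheory.Limits AlgebraicGeometry Opposite

noncomputable section

namespace Groth.Agent.AcycFin

/-- Every element has a quasi-inverse. -/
def VNRegular (Q : Type u) [CommRing Q] : Prop := ∀ x : Q, ∃ y, x * y * x = x

theorem vnRegular_pi {ι : Type u} (K : ι → Type u) [∀ i, Field (K i)] : VNRegular (∀ i, K i) :=
  fun x => ⟨fun i => (x i)⁻¹, funext fun i => mul_inv_mul_cancel _⟩

theorem VNRegular.of_surjective {Q R : Type u} [CommRing Q] [CommRing R] (f : Q →+* R)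
    (hf : Function.Surjective f) (h : VNRegular Q) : VNRegular R := fun r => by
  obtain ⟨x, rfl⟩ := hf r
  obtain ⟨y, hy⟩ := h x
  exact ⟨f y, by rw [← map_mul, ← map_mul, hy]⟩

theorem MonicSplit.of_surjective {Q R : Type u} [CommRing Q] [CommRing R] (f : Q →+* R)
    (hf : Function.Surjective f) (h : MonicSplit Q) : MonicSplit R := monicSplit_of_root fun g hg hd => by
  haveI : Nontrivial R := by
    by_contra hR
    rw [not_nontrivial_iff_subsingleton] at hR
    simp [Subsingleton.elim g 0] at hd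
  obtain ⟨G, hG, -, hGm⟩ := Polynomial.lifts_and_natDegree_eq_and_monic
    ((Polynomial.mem_lifts g).mpr (Polynomial.map_surjective f hf g)) hg
  haveI : Nontrivial Q := f.domain_nontrivial
  obtain ⟨r, hr⟩ := h.root G hGm (by rwa [← hGm.natDegree_map f, hG])
  exact ⟨f r, by rw [← hG, Polynomial.eval_map_apply, hr, map_zero]⟩

theorem VNRegular.isNilpotent_eq_zero {Q : Type u} [CommRing Q] (h : VNRegular Q) {x : Q}
    (hx : IsNilpotent x) : x = 0 := by
  obtain ⟨y, hy⟩ := h x
  obtain ⟨n, hn⟩ := hx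
  have key : ∀ m : ℕ, x = x ^ (m + 1) * y ^ m := by
    intro m
    induction m with
    | zero => simp
    | succ m ih =>
      calc x = x ^ (m + 1) * y ^ m := ih
        _ = (x * y * x) * (x ^ m * y ^ m) := by rw [hy]; ring
        _ = x ^ (m + 1 + 1) * y ^ (m + 1) := by ring
  rw [key n, pow_succ, hn, zero_mul, zero_mul]

theorem VNRegular.isClopen_basicOpen {Q : Type u} [CommRing Q] (h : VNRegular Q) (x : Q) :
    IsClopen (PrimeSpectrum.basicOpen x : Set (PrimeSpectrum Q)) := by
  obtain ⟨y, hy⟩ := h x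
  refine PrimeSpectrum.isClopen_iff.2 ⟨x * y, ?_, ?_⟩
  · show (x * y) * (x * y) = x * y
    rw [← mul_assoc, hy]
  · ext p
    show x ∉ p.asIdeal ↔ x * y ∉ p.asIdeal
    refine ⟨fun hx hxy => hx ?_, fun hxy hx => hxy (p.asIdeal.mul_mem_right y hx)⟩
    rw [← hy]
    exact p.asIdeal.mul_mem_right x hxy

/-- The conditions on a dense morphism under which constant sheaves extend. -/
structure DenseExt {X Y : Scheme.{u}} (j : X ⟶ Y) : Prop where
  strict : ∀ y : Y, EtCoh.IsStrictlyHenselianLocalRing (Y.presheaf.stalk y)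
  dense : ∀ O : Y.Opens, (O : Set Y).Nonempty → ∃ x : X, j.base x ∈ O
  extend : ∀ (O : Y.Opens) (y : Y), y ∈ O → ∃ O' : Y.Opens, O' ≤ O ∧ y ∈ O' ∧
    ∀ (M : Type (u + 1)) (F : LocallyConstant (j ⁻¹ᵁ O' : X.Opens) M),
      ∃ F' : LocallyConstant O' M, ∀ x : (j ⁻¹ᵁ O' : X.Opens), F x = F' ⟨j.base x.1, x.2⟩

section Spec

variable {B Q : Type u} [CommRing B] [CommRing Q] (ι : B →+* Q) (hinj : Function.Injective ι)
  (hB : MonicSplit B) (hQ : VNRegular Q) (hid : ∀ e : Q, IsIdempotentElem e → e ∈ ι.range)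

include hinj hB hQ hid in
theorem denseExt_spec : DenseExt (Spec.map (CommRingCat.ofHom ι)) where
  strict := hB.strictlyHenselian_spec
  dense O hO := by
    obtain ⟨y, hy⟩ := hO
    obtain ⟨_, ⟨b, rfl⟩, hyb, hbO⟩ :=
      PrimeSpectrum.isTopologicalBasis_basic_opens.exists_subset_of_mem_open hy O.2
    have hb : ¬ IsNilpotent (ι b) := fun ⟨n, hn⟩ => by
      have : IsNilpotent b := ⟨n, hinj (by rw [map_pow, hn, map_zero])⟩
      rw [← PrimeSpectrum.basicOpen_eq_bot_iff] at this
      exact (this ▸ hyb : y ∈ (⊥ : TopologicalSpace.Opens (PrimeSpectrum B)))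
    rw [← PrimeSpectrum.basicOpen_eq_bot_iff] at hb
    obtain ⟨x, hx⟩ : ∃ x, x ∈ PrimeSpectrum.basicOpen (ι b) := by
      by_contra hne
      exact hb (eq_bot_iff.2 fun x hx => (hne ⟨x, hx⟩).elim)
    exact ⟨x, hbO hx⟩
  extend O y hy := by
    classical
    obtain ⟨_, ⟨b, rfl⟩, hyb, hbO⟩ :=
      PrimeSpectrum.isTopologicalBasis_basic_opens.exists_subset_of_mem_open hy O.2
    refine ⟨PrimeSpectrum.basicOpen b, hbO, hyb, fun M F => ?_⟩
    let D : Set (PrimeSpectrum Q) := PrimeSpectrum.basicOpen (ι b)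
    have hD : IsClopen D := hQ.isClopen_basicOpen _
    let G : PrimeSpectrum Q → Option M := fun p => if hp : p ∈ D then some (F ⟨p, hp⟩) else none
    have hG : IsLocallyConstant G := (IsLocallyConstant.iff_exists_open _).2 fun p => by
      by_cases hp : p ∈ D
      · obtain ⟨W, hW, hpW, hWc⟩ := (IsLocallyConstant.iff_exists_open _).1 F.isLocallyConstant ⟨p, hp⟩
        refine ⟨Subtype.val '' W, hD.2.isOpenMap_subtype_val W hW, ⟨⟨p, hp⟩, hpW, rfl⟩, ?_⟩
        rintro _ ⟨q, hq, rfl⟩
        simp only [G]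
        rw [dif_pos (show (q.1 : PrimeSpectrum Q) ∈ D from q.2), dif_pos hp]
        exact congrArg some (hWc q hq)
      · refine ⟨Dᶜ, hD.1.isOpen_compl, hp, fun q hq => ?_⟩
        simp only [G]
        rw [dif_neg hq, dif_neg hp]
    obtain ⟨vals, hvals⟩ : ∃ s : Finset (Option M), ∀ p, G p ∈ s :=
      ⟨hG.range_finite.toFinset, fun p => hG.range_finite.mem_toFinset.2 ⟨p, rfl⟩⟩
    have hidem : ∀ m : Option M, ∃ ε : B, IsIdempotentElem (ι ε) ∧
        G ⁻¹' {m} = (PrimeSpectrum.basicOpen (ι ε) : Set (PrimeSpectrum Q)) := fun m => by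
      obtain ⟨e, he, hee⟩ := PrimeSpectrum.isClopen_iff.1 (hG.isClopen_fiber m)
      obtain ⟨ε, rfl⟩ := hid e he
      exact ⟨ε, he, hee⟩
    choose ε hε hεG using hidem
    have hεi : ∀ m, IsIdempotentElem (ε m) := fun m => hinj (by
      show ι (ε m * ε m) = ι (ε m)
      rw [map_mul]; exact hε m)
    have memQ : ∀ (m : Option M) (q : PrimeSpectrum Q), ι (ε m) ∉ q.asIdeal ↔ G q = m := fun m q =>
      (Set.ext_iff.1 (hεG m) q).symm
    have huniq : ∀ (p : PrimeSpectrum B) (m m' : Option M), ε m ∉ p.asIdeal → ε m' ∉ p.asIdeal → m = m' := by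
      intro p m m' hm hm'
      by_contra hne
      have h0 : ε m * ε m' = 0 := hinj (by
        rw [map_mul, map_zero]
        refine hQ.isNilpotent_eq_zero ((PrimeSpectrum.basicOpen_eq_bot_iff _).1 (eq_bot_iff.2 fun q hq => ?_))
        have hq' : ι (ε m) * ι (ε m') ∉ q.asIdeal := hq
        exact (hne (((memQ m q).1 fun h => hq' (q.asIdeal.mul_mem_right _ h)).symm.trans
          ((memQ m' q).1 fun h => hq' (q.asIdeal.mul_mem_left _ h)))).elim)
      exact (p.isPrime.mem_or_mem (h0 ▸ p.asIdeal.zero_mem)).elim hm hm'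
    let S : Finset (Option M) := vals.filter fun m => m ≠ none
    have hcov : ∀ p : PrimeSpectrum B, b ∉ p.asIdeal → ∃ m ∈ S, ε m ∉ p.asIdeal := by
      intro p hp
      by_contra hne
      push Not at hne
      have h0 : b * ∏ m ∈ S, (1 - ε m) = 0 := hinj (by
        rw [map_mul, map_zero, map_prod]
        refine hQ.isNilpotent_eq_zero ((PrimeSpectrum.basicOpen_eq_bot_iff _).1 (eq_bot_iff.2 fun q hq => ?_))
        have hq' : ι b * ∏ m ∈ S, ι (1 - ε m) ∉ q.asIdeal := hq
        have hqD : q ∈ D := fun h => hq' (q.asIdeal.mul_mem_right _ h)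
        have hS : G q ∈ S := Finset.mem_filter.2 ⟨hvals q, by simp only [G]; rw [dif_pos hqD]; exact Option.some_ne_none _⟩
        refine (hq' (q.asIdeal.mul_mem_left _ (Ideal.mem_of_dvd _ (Finset.dvd_prod_of_mem _ hS) ?_))).elim
        rw [map_sub, map_one]
        have h1 : ι (ε (G q)) * (1 - ι (ε (G q))) = 0 := by rw [mul_sub, mul_one, (hε _).eq, sub_self]
        exact (q.isPrime.mem_or_mem (h1 ▸ q.asIdeal.zero_mem)).resolve_left ((memQ _ q).2 rfl))
      rcases p.isPrime.mem_or_mem (h0 ▸ p.asIdeal.zero_mem) with h | h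
      · exact hp h
      · obtain ⟨m, hm, hm1⟩ := (Ideal.IsPrime.prod_mem_iff (p := p.asIdeal)).1 h
        have := p.asIdeal.add_mem hm1 (hne m hm)
        rw [sub_add_cancel] at this
        exact p.isPrime.ne_top ((Ideal.eq_top_iff_one _).2 this)
    choose μ hμS hμ using fun p : ↥(PrimeSpectrum.basicOpen b) => hcov p.1 p.2
    have hμsome : ∀ p, (μ p).isSome := fun p => Option.isSome_iff_ne_none.2 (Finset.mem_filter.1 (hμS p)).2
    let F'f : ↥(PrimeSpectrum.basicOpen b) → M := fun p => (μ p).get (hμsome p)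
    have hlc : IsLocallyConstant F'f := (IsLocallyConstant.iff_exists_open _).2 fun p => by
      refine ⟨Subtype.val ⁻¹' (PrimeSpectrum.basicOpen (ε (μ p)) : Set (PrimeSpectrum B)),
        (PrimeSpectrum.basicOpen _).2.preimage continuous_subtype_val, hμ p, fun q hq => ?_⟩
      have e : μ q = μ p := huniq q.1 _ _ (hμ q) hq
      simp only [F'f, e]
    refine ⟨⟨F'f, hlc⟩, fun x => ?_⟩
    have hxD : (x.1 : PrimeSpectrum Q) ∈ D := x.2
    have e : G x.1 = μ ⟨_, x.2⟩ := (memQ _ _).1 (hμ ⟨_, x.2⟩)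
    show F x = (μ ⟨_, x.2⟩).get _
    simp only [G] at e
    rw [dif_pos hxD] at e
    simp only [← e, Option.get_some]

end Spec

/-- Constant sheaves are the direct images of their inverse images. -/
theorem DenseExt.isIso_unit_const {X Y : Scheme.{u}} {j : X ⟶ Y} (h : DenseExt j) (M : Type) [AddCommGroup M] :
    IsIso ((EtCoh.pullPushAdj j).unit.app (EtCoh.const Y M)) := by
  refine EtFound.ConstVal.isIso_unit_const j M (fun V ⟨v⟩ => ?_) fun V v => ?_
  · haveI : Etale V.hom := V.prop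
    obtain ⟨W, σ, -, ⟨w, -⟩, hσ⟩ := EtFound.ConstRpush.exists_section_through h.strict V.hom v
    obtain ⟨x, hx⟩ := h.dense W ⟨w.1, w.2⟩
    obtain ⟨z, -, -⟩ := Scheme.Pullback.exists_preimage_pullback (f := V.hom) (g := j) (σ ⟨j.base x, hx⟩) x
      (by rw [← Scheme.Hom.comp_apply, hσ]; rfl)
    exact ⟨z⟩
  · haveI : Etale V.hom := V.prop
    obtain ⟨W, σ, -, ⟨w, hw⟩, hσ⟩ := EtFound.ConstRpush.exists_section_through h.strict V.hom v
    obtain ⟨O', hle, hwO, hO'⟩ := h.extend W w.1 w.2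
    refine ⟨Scheme.Etale.mk O'.ι, MorphismProperty.Over.homMk (Y.homOfLE hle ≫ σ)
      (by show (Y.homOfLE hle ≫ σ) ≫ V.hom = O'.ι; rw [Category.assoc, hσ]; exact Scheme.homOfLE_ι _ _) trivial,
      ⟨w.1, hwO⟩, ?_, fun M' F => ?_⟩
    · show (Y.homOfLE hle ≫ σ) ⟨w.1, hwO⟩ = v
      rw [Scheme.Hom.comp_apply, ← hw]
      refine congrArg σ (W.ι.isOpenEmbedding.injective ?_)
      rw [← Scheme.Hom.comp_apply, Scheme.homOfLE_ι]
      rfl
    · let e := (isPullback_morphismRestrict j O').isoPullback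
      obtain ⟨F', hF'⟩ := hO' M' (F.comap ⟨fun x => e.hom x, e.hom.continuous⟩)
      refine ⟨F', fun p => ?_⟩
      have hp : e.hom (e.inv p) = p :=
        (Scheme.Hom.comp_apply _ _ _).symm.trans (congrArg (fun k : _ ⟶ pullback O'.ι j => k p) e.inv_hom_id)
      have h1 := hF' (e.inv p)
      change F (e.hom (e.inv p)) = _ at h1
      rw [hp] at h1
      refine h1.trans (congrArg F' (Subtype.ext ?_))
      show j.base (e.inv p).1 = O'.ι (pullback.fst O'.ι j p)
      rw [show (e.inv p).1 = (j ⁻¹ᵁ O').ι (e.inv p) from rfl, ← Scheme.Hom.comp_apply, ← Scheme.Hom.comp_apply,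
        ← Scheme.Hom.comp_apply]
      refine congrArg (fun k : pullback O'.ι j ⟶ Y => k p) ?_
      rw [(isPullback_morphismRestrict j O').isoPullback_inv_snd_assoc, pullback.condition]

end Groth.Agent.AcycFin
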