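import Groth.Agent.AcycFin.ConstPull
import Groth.Agent.AcycFin.Compare
import Groth.Agent.EtFound.ConstFlasque
import Groth.Agent.EtFound.ConstAcyclic
import Groth.Prelude.Def_EtAcyc
import Mathlib.Algebra.Homology.ShortComplex.ExactFunctor
import Mathlib.Algebra.Homology.ShortComplex.Ab

/-!
# Constant coefficients on an acyclic scheme
-/

set_option autoImplicit false
set_option linter.unusedSectionVars false
set_option linter.style.haveILetI false
set_option backward.isDefEq.respectTransparency false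
set_option backward.isDefEq.respectTransparency.types false

universe u

open CategoryTheory CategoryTheory.Limits AlgebraicGeometry Opposite Abelian

noncomputable section

namespace Groth.Agent.AcycFin

attribute [local instance] EtFound.pull_preservesFiniteLimits

/-- Pullback along a surjection is injective in degree zero. -/
theorem injective_Hpull_zero {X Y : Scheme.{u}} (g : X ⟶ Y) [Surjective g] (F : EtCoh.Ab Y) :
    Function.Injective (EtCore.Hpull g F 0) := by
  haveI := mono_unit g F
  refine (injective_iff_map_eq_zero _).2 fun z hz =>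
    BcQCalc.eq_zero_of_comp_mono ((EtCoh.pullPushAdj g).unit.app F) z ?_
  refine (BcQCalc.HofPush_bijective_zero g _).1 ?_
  rw [← EtAcycLib.UnitRpush.Hpull_eq_HofPush, hz, map_zero]

/-- Global sections of finite constant coefficients do not see a surjection of connected schemes. -/
theorem surjective_zero_of_connected {P S : Scheme.{u}} (f : P ⟶ S) [Surjective f] [ConnectedSpace P] [ConnectedSpace S]
    (M : Type) [AddCommGroup M] [Finite M] : Function.Surjective (EtCore.Hpull f (EtCoh.const S M) 0) := by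
  refine (Kc_surjective_iff f M 0).2 ?_
  have h1 := EtFound.ConstVal.natCard_H0_const S M
  have h2 := EtFound.ConstVal.natCard_H0_const P M
  haveI : Finite (EtCoh.H P (EtCoh.const P M) 0) := Nat.finite_of_card_ne_zero (h2 ▸ Nat.card_pos.ne')
  haveI : Finite (EtCoh.H S (EtCoh.const S M) 0) := Nat.finite_of_card_ne_zero (h1 ▸ Nat.card_pos.ne')
  have hi : Function.Injective (Kc f M 0) :=
    (EtAcycLib.bijective_comp_mk₀ (EtCore.pullConst f M)).1.comp (injective_Hpull_zero f _)
  exact ((Nat.bijective_iff_injective_and_card (Kc f M 0)).2 ⟨hi, h1.trans h2.symm⟩).2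

/-- Cohomology of a trivial constant sheaf vanishes. -/
theorem subsingleton_const (P : Scheme.{u}) (M : Type) [AddCommGroup M] [Subsingleton M] (q : ℕ) :
    Subsingleton (EtCoh.H P (EtCoh.const P M) q) := by
  refine ⟨fun x y => ?_⟩
  haveI : (constantSheaf P.smallEtaleTopology AddCommGrpCat.{u + 1}).IsLeftAdjoint := (EtCore.constAdj P).isLeftAdjoint
  have h : 𝟙 (EtCoh.const P M) = 0 :=
    (IsZero.iff_id_eq_zero _).1 (Functor.map_isZero (constantSheaf P.smallEtaleTopology AddCommGrpCat.{u + 1})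
      (AddCommGrpCat.isZero_of_subsingleton (AddCommGrpCat.of (ULift.{u + 1} M))))
  rw [← Ext.comp_mk₀_id x, ← Ext.comp_mk₀_id y, h, Ext.mk₀_zero, Ext.comp_zero, Ext.comp_zero]

/-- The constant sheaves on an exact sequence form an exact sequence. -/
theorem shortExact_const (P : Scheme.{u}) {S : ShortComplex AddCommGrpCat.{u + 1}} (hS : S.ShortExact)
    [(constantSheaf P.smallEtaleTopology AddCommGrpCat.{u + 1}).PreservesZeroMorphisms] :
    (S.map (constantSheaf P.smallEtaleTopology AddCommGrpCat.{u + 1})).ShortExact := by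
  haveI : (constantSheaf P.smallEtaleTopology AddCommGrpCat.{u + 1}).IsLeftAdjoint := (EtCore.constAdj P).isLeftAdjoint
  have : PreservesFiniteLimits (constantSheaf P.smallEtaleTopology AddCommGrpCat.{u + 1}) :=
    comp_preservesFiniteLimits _ _
  have : PreservesColimitsOfSize.{0, 0} (constantSheaf P.smallEtaleTopology AddCommGrpCat.{u + 1}) :=
    (EtCore.constAdj P).leftAdjoint_preservesColimits
  have : PreservesFiniteColimits (constantSheaf P.smallEtaleTopology AddCommGrpCat.{u + 1}) := ⟨fun _ => inferInstance⟩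
  exact hS.map_of_exact _

/-- Vanishing with coefficients `ℤ/ℓ` gives vanishing with coefficients `ℤ/ℓ^ν`. -/
theorem subsingleton_zmod_pow (P : Scheme.{u}) (ℓ : ℕ) (hℓ : 0 < ℓ) (q : ℕ)
    (h : Subsingleton (EtCoh.H P (EtCoh.const P (ZMod ℓ)) q)) :
    ∀ ν : ℕ, Subsingleton (EtCoh.H P (EtCoh.const P (ZMod (ℓ ^ ν))) q) := by
  intro ν
  induction ν with
  | zero =>
    haveI : Subsingleton (ZMod (ℓ ^ 0)) := by rw [pow_zero]; infer_instance
    exact subsingleton_const P _ q
  | succ ν ih =>
    let a : ZMod (ℓ ^ ν) →+ ZMod (ℓ ^ (ν + 1)) := ZMod.lift (ℓ ^ ν)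
      ⟨(AddMonoidHom.mulLeft (ℓ : ZMod (ℓ ^ (ν + 1)))).comp (Int.castAddHom _), by
        show (ℓ : ZMod (ℓ ^ (ν + 1))) * ((ℓ ^ ν : ℕ) : ℤ) = 0
        rw [Int.cast_natCast, ← Nat.cast_mul, ← pow_succ']
        exact ZMod.natCast_self _⟩
    let b : ZMod (ℓ ^ (ν + 1)) →+ ZMod ℓ := (ZMod.castHom (dvd_pow_self ℓ (Nat.succ_ne_zero ν)) (ZMod ℓ)).toAddMonoidHom
    have ha : ∀ z : ℤ, a (z : ZMod (ℓ ^ ν)) = (ℓ : ZMod (ℓ ^ (ν + 1))) * (z : ZMod (ℓ ^ (ν + 1))) := fun z =>
      ZMod.lift_coe _ _ z
    have hb : ∀ z : ℤ, b (z : ZMod (ℓ ^ (ν + 1))) = (z : ZMod ℓ) := fun z =>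
      map_intCast (ZMod.castHom (dvd_pow_self ℓ (Nat.succ_ne_zero ν)) (ZMod ℓ)) z
    let up : ∀ {M N : Type}, [AddCommGroup M] → [AddCommGroup N] → (M →+ N) →
        (AddCommGrpCat.of (ULift.{u + 1} M) ⟶ AddCommGrpCat.of (ULift.{u + 1} N)) := fun φ =>
      AddCommGrpCat.ofHom ((AddEquiv.ulift.symm.toAddMonoidHom.comp φ).comp AddEquiv.ulift.toAddMonoidHom)
    let S : ShortComplex AddCommGrpCat.{u + 1} := ShortComplex.mk (up a) (up b) (AddCommGrpCat.hom_ext
      (AddMonoidHom.ext fun x => ULift.down_injective (by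
        show b (a x.down) = 0
        obtain ⟨z, hz⟩ := ZMod.intCast_surjective x.down
        rw [← hz, ha, ← Int.cast_natCast (R := ZMod (ℓ ^ (ν + 1))) ℓ, ← Int.cast_mul, hb, Int.cast_mul,
          Int.cast_natCast, ZMod.natCast_self, zero_mul])))
    have hS : S.ShortExact := by
      refine ShortComplex.ShortExact.mk' ?_ ?_ ?_
      · refine (ShortComplex.ab_exact_iff S).2 fun x hx => ?_
        obtain ⟨z, hz⟩ := ZMod.intCast_surjective x.down
        have h0 : b x.down = 0 := congrArg ULift.down hx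
        rw [← hz, hb] at h0
        obtain ⟨w, rfl⟩ := (ZMod.intCast_zmod_eq_zero_iff_dvd _ _).1 h0
        refine ⟨ULift.up (w : ZMod (ℓ ^ ν)), ULift.down_injective ?_⟩
        show a (w : ZMod (ℓ ^ ν)) = x.down
        rw [ha, ← hz, Int.cast_mul, Int.cast_natCast]
      · refine (AddCommGrpCat.mono_iff_injective _).2 ((injective_iff_map_eq_zero _).2 fun x hx => ?_)
        obtain ⟨z, hz⟩ := ZMod.intCast_surjective x.down
        refine ULift.down_injective ?_
        have h0 : a x.down = 0 := congrArg ULift.down hx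
        rw [← hz, ha, ← Int.cast_natCast (R := ZMod (ℓ ^ (ν + 1))) ℓ, ← Int.cast_mul,
          ZMod.intCast_zmod_eq_zero_iff_dvd, pow_succ', Nat.cast_mul] at h0
        show x.down = 0
        rw [← hz, ZMod.intCast_zmod_eq_zero_iff_dvd]
        exact (mul_dvd_mul_iff_left (by exact_mod_cast hℓ.ne')).1 h0
      · refine (AddCommGrpCat.epi_iff_surjective _).2 fun y => ?_
        obtain ⟨z, hz⟩ := ZMod.intCast_surjective y.down
        exact ⟨ULift.up (z : ZMod (ℓ ^ (ν + 1))), ULift.down_injective ((hb z).trans hz)⟩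
    haveI : (constantSheaf P.smallEtaleTopology AddCommGrpCat.{u + 1}).IsLeftAdjoint := (EtCore.constAdj P).isLeftAdjoint
    refine ⟨fun x y => sub_eq_zero.1 ?_⟩
    obtain ⟨w, hw⟩ := Ext.covariant_sequence_exact₂ _ (shortExact_const P hS) (x - y) (@Subsingleton.elim _ h _ _)
    rw [← hw, @Subsingleton.elim _ ih w 0, Ext.zero_comp]

end Groth.Agent.AcycFin
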