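import Groth.Agent.AcycFin.Stages
import Groth.Agent.AcycFin.Hereditary

/-!
# The range of the pullback is detected on geometric fibres, for locally acyclic morphisms
-/

set_option autoImplicit false
set_option linter.unusedSectionVars false
set_option linter.style.haveILetI false
set_option backward.isDefEq.respectTransparency false
set_option backward.isDefEq.respectTransparency.types false

universe u

open CategoryTheory CategoryTheory.Limits AlgebraicGeometry Opposite Abelian

noncomputable section

namespace Groth.Agent.AcycFin

attribute [local instance] EtFound.pull_preservesFiniteLimits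

/-- For a locally acyclic morphism a class which is in the range on all geometric fibres is in the range. -/
theorem mem_range_of_fibres {X Y : Scheme.{u}} (g : X ⟶ Y) [QuasiCompact g] [QuasiSeparated g] [Surjective g]
    [CompactSpace Y] [QuasiSeparatedSpace Y] (L : Set ℕ) (k : ℕ) (hloc : EtAcyc.IsLocAcyclicN g L k) {q : ℕ}
    (hq : q ≤ k + 1) (hh : ∀ m, m + 1 = q → EtAcyc.CompN g L m) (F : EtCoh.Ab Y) (hF : EtAcyc.IsLTorsion L F)
    (ξ : EtCoh.H X ((EtCoh.pull g).obj F) q)
    (hfib : ∀ (y : Y) (Ω : Type u) [Field Ω] [IsSepClosed Ω] [Algebra (Y.residueField y) Ω]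
      [Algebra.IsAlgebraic (Y.residueField y) Ω], InR g F ξ (EtAcyc.geomPt Y y Ω)) :
    ξ ∈ Set.range (EtCore.Hpull g F q) := by
  obtain ⟨T, a, hT, hqf, hft, hsurj, hr⟩ := exists_cover_inR g F ξ hfib
  haveI := hT
  haveI := hqf
  haveI := hft
  haveI := hsurj
  haveI : QuasiCompact a := quasiCompact_of_compactSpace a
  haveI : QuasiSeparated a := inferInstance
  haveI : CompactSpace X := QuasiCompact.compactSpace_of_compactSpace g
  haveI : QuasiSeparatedSpace X := quasiSeparatedSpace_of_quasiSeparated g
  have w : g ≫ 𝟙 Y = 𝟙 X ≫ g := by simp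
  have h1 : InRange g F ξ (𝟙 Y) g (𝟙 X) w :=
    InRange.descend (T := Y) (XT := X) (T' := T) (XT' := pullback a g) g F ξ w a (pullback.fst a g)
      (pullback.snd a g) pullback.condition (a' := a) (pT' := pullback.snd a g) (w' := pullback.condition)
      (Category.comp_id a) (Category.comp_id _) L hh
      (fun M hM i hi => isIso_bcQ_of_isLocAcyclicN g a (pullback.snd a g) (pullback.fst a g)
        (IsPullback.of_hasPullback a g) hloc M hM i (by omega))
      hF hr
  exact mem_range_of_inRange g F ξ h1 (𝟙 Y) (𝟙 X) (Category.id_comp _) (Category.id_comp _) (by simp)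

end Groth.Agent.AcycFin
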