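import Groth.Agent.AcycFin.Via
import Groth.Agent.S8551
import Groth.Agent.EtAcycLib.UnitRpush
import Groth.Agent.S14622
import Groth.Agent.EtFound.Basic

/-!
# Classes in the range of the pullback after a base change
-/

set_option autoImplicit false
set_option linter.unusedSectionVars false
set_option linter.style.haveILetI false
set_option backward.isDefEq.respectTransparency false
set_option backward.isDefEq.respectTransparency.types false

universe u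

open CategoryTheory CategoryTheory.Limits AlgebraicGeometry Opposite Abelian

noncomputable section

namespace Groth.Agent.AcycFin

open Groth.Agent.EtLim8

attribute [local instance] EtFound.pull_preservesFiniteLimits

variable {X Y : Scheme.{u}} (g : X ⟶ Y) (F : EtCoh.Ab Y) {q : ℕ} (ξ : EtCoh.H X ((EtCoh.pull g).obj F) q)

/-- The class, restricted to `X_T`, comes from `T`. -/
def InRange {T XT : Scheme.{u}} (a : T ⟶ Y) (gT : XT ⟶ T) (pT : XT ⟶ X) (w : gT ≫ a = pT ≫ g) : Prop :=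
  EtCore.HpullVia pT g (pT ≫ g) rfl F q ξ ∈ Set.range (EtCore.HpullVia gT a (pT ≫ g) w F q)

/-- A class in the range stays there after a further base change. -/
theorem InRange.mono {T XT : Scheme.{u}} {a : T ⟶ Y} {gT : XT ⟶ T} {pT : XT ⟶ X} {w : gT ≫ a = pT ≫ g}
    (h : InRange g F ξ a gT pT w) {T' XT' : Scheme.{u}} {a' : T' ⟶ Y} {gT' : XT' ⟶ T'} {pT' : XT' ⟶ X}
    (w' : gT' ≫ a' = pT' ≫ g) (b : T' ⟶ T) (k : XT' ⟶ XT) (hb : b ≫ a = a') (hk : k ≫ pT = pT')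
    (hs : k ≫ gT = gT' ≫ b) : InRange g F ξ a' gT' pT' w' := by
  obtain ⟨x, hx⟩ := h
  have h4 : k ≫ pT ≫ g = pT' ≫ g := by rw [← Category.assoc, hk]
  refine ⟨EtCore.HpullVia b a a' hb F q x, ?_⟩
  rw [via_via b a' gT' (k ≫ gT) (pT' ≫ g) hb hs.symm (by rw [Category.assoc, w, h4]) w' F q x,
    ← via_via gT (pT ≫ g) k (k ≫ gT) (pT' ≫ g) w rfl _ h4 F q x, hx,
    via_via pT (pT ≫ g) k pT' (pT' ≫ g) rfl hk rfl h4 F q ξ]

theorem inRange_of_mem_range {T XT : Scheme.{u}} (a : T ⟶ Y) (gT : XT ⟶ T) (pT : XT ⟶ X) (w : gT ≫ a = pT ≫ g)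
    (h : ξ ∈ Set.range (EtCore.Hpull g F q)) : InRange g F ξ a gT pT w := by
  obtain ⟨x, rfl⟩ := h
  refine ⟨EtCore.Hpull a F q x, ?_⟩
  rw [via_Hpull gT (pT ≫ g) w F q x, via_Hpull pT (pT ≫ g) rfl F q x]

theorem mem_range_of_inRange {T XT : Scheme.{u}} {a : T ⟶ Y} {gT : XT ⟶ T} {pT : XT ⟶ X}
    {w : gT ≫ a = pT ≫ g} (h : InRange g F ξ a gT pT w) (b : Y ⟶ T) (k : X ⟶ XT) (hb : b ≫ a = 𝟙 Y)
    (hk : k ≫ pT = 𝟙 X) (hs : k ≫ gT = g ≫ b) : ξ ∈ Set.range (EtCore.Hpull g F q) := by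
  obtain ⟨x, hx⟩ := h.mono g F ξ (show g ≫ 𝟙 Y = 𝟙 X ≫ g by simp) b k hb hk hs
  obtain ⟨y, rfl⟩ := (EtAcycLib.bijective_Hpull_of_isIso (𝟙 Y) F q).2 x
  have hx2 : EtCore.Hpull (𝟙 X ≫ g) F q y = EtCore.HpullVia (𝟙 X) g (𝟙 X ≫ g) rfl F q ξ :=
    (via_Hpull g (𝟙 X ≫ g) _ F q y).symm.trans hx
  rw [← via_Hpull (𝟙 X) (𝟙 X ≫ g) rfl F q y] at hx2
  refine ⟨y, ?_⟩
  rw [via_eq_comp, via_eq_comp] at hx2
  exact (EtAcycLib.bijective_Hpull_of_isIso (𝟙 X) _ q).1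
    ((EtAcycLib.bijective_comp_mk₀ (pullCmp g (𝟙 X) (𝟙 X ≫ g) rfl F)).1 hx2)

section Descent

variable {S T S' T' : Scheme.{u}} (h : T ⟶ S) (p : S' ⟶ S) (hb : T' ⟶ S') (pT : T' ⟶ T) (w : hb ≫ p = pT ≫ h)

/-- Descent of the range in degree zero. -/
theorem backward_zero [Surjective h] [Surjective p] (G : EtCoh.Ab S)
    [IsIso (EtCoh.baseChange0 p h pT hb w ((EtCoh.pull p).obj G))]
    (ζ : EtCoh.H T ((EtCoh.pull h).obj G) 0) (x : EtCoh.H S' ((EtCoh.pull p).obj G) 0)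
    (hx : EtCore.HpullVia hb p (pT ≫ h) w G 0 x = EtCore.HpullVia pT h (pT ≫ h) rfl G 0 ζ) :
    ζ ∈ Set.range (EtCore.Hpull h G 0) := by
  let M := (EtCoh.pull p).obj G
  let u : G ⟶ (EtCoh.push p).obj M := (EtCoh.pullPushAdj p).unit.app G
  haveI : Mono u := S14622.result p G
  haveI := EtFound.pull_preservesFiniteLimits h
  have hinj : ∀ A : EtCoh.Ab S, Function.Injective (EtCore.Hpull h A 0) := fun A => by
    haveI := S14622.result h A
    refine (injective_iff_map_eq_zero _).2 fun z hz =>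
      BcQCalc.eq_zero_of_comp_mono ((EtCoh.pullPushAdj h).unit.app A) z ?_
    refine (BcQCalc.HofPush_bijective_zero h _).1 ?_
    rw [← EtAcycLib.UnitRpush.Hpull_eq_HofPush, hz, map_zero]
  let β := EtCoh.baseChange0 p h pT hb w M
  let γ0 := (EtCore.pullCongr w.symm ≪≫ EtCore.pullComp hb p).hom.app G
  have e := S8551.HofPush_of_via pT h (pT ≫ h) rfl G ((EtCoh.pull h).map u ≫ β) γ0
    (S8551.transpose_eq pT h G _ γ0 (S8551.compat_unit_bc h p hb pT w G γ0 rfl)) 0 ζ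
  rw [← hx, S8551.via_cancel hb p (pT ≫ h) w G 0 x γ0 rfl] at e
  obtain ⟨y, rfl⟩ := (BcQCalc.HofPush_bijective_zero p M).2 x
  rw [BcQCalc.Hpull_HofPush_square p h pT hb w M 0 y, ← Ext.mk₀_comp_mk₀,
    ← Ext.comp_assoc_of_third_deg_zero] at e
  have e2 : ζ.comp (Ext.mk₀ ((EtCoh.pull h).map u)) (add_zero 0) = EtCore.Hpull h _ 0 y :=
    (EtAcycLib.bijective_comp_mk₀ (asIso β)).1 ((BcQCalc.HofPush_bijective_zero pT _).1 e)
  let K : ShortComplex (EtCoh.Ab S) := ShortComplex.mk u (cokernel.π u) (cokernel.condition _)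
  have hK : K.ShortExact := { exact := ShortComplex.exact_of_g_is_cokernel _ (cokernelIsCokernel _) }
  have h0 : y.comp (Ext.mk₀ K.g) (add_zero 0) = 0 := hinj _ (by
    rw [map_zero, S8536.Hpull_comp_mk₀, ← e2, Ext.comp_assoc_of_third_deg_zero, Ext.mk₀_comp_mk₀,
      ← Functor.map_comp, show u ≫ K.g = 0 from cokernel.condition u, Functor.map_zero, Ext.mk₀_zero, Ext.comp_zero])
  obtain ⟨x₀, hx₀⟩ := Ext.covariant_sequence_exact₂ _ hK y h0
  refine ⟨x₀, sub_eq_zero.1 (BcQCalc.eq_zero_of_comp_mono ((EtCoh.pull h).map u) _ ?_)⟩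
  rw [sub_eq_add_neg, Ext.add_comp, Ext.neg_comp, ← S8536.Hpull_comp_mk₀ h u 0 x₀, e2,
    show x₀.comp (Ext.mk₀ u) (add_zero 0) = y from hx₀, add_neg_cancel]

/-- Descent of the range along a surjective morphism. -/
theorem backward_any [Surjective h] [Surjective p] [CompactSpace S] [QuasiSeparatedSpace S] [CompactSpace T]
    [QuasiSeparatedSpace T] [CompactSpace S'] [QuasiSeparatedSpace S'] [QuasiCompact p] [QuasiSeparated p]
    (L : Set ℕ) (hh : ∀ m, m + 1 = q → EtAcyc.CompN h L m)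
    (hbc : ∀ M : EtCoh.Ab S', EtAcyc.IsLTorsion L M → ∀ i, i + 1 ≤ q ∨ i = 0 → IsIso (EtBC.bcQ p h pT hb w i M))
    (G : EtCoh.Ab S) (hG : EtAcyc.IsLTorsion L G)
    (ζ : EtCoh.H T ((EtCoh.pull h).obj G) q) (x : EtCoh.H S' ((EtCoh.pull p).obj G) q)
    (hx : EtCore.HpullVia hb p (pT ≫ h) w G q x = EtCore.HpullVia pT h (pT ≫ h) rfl G q ζ) :
    ζ ∈ Set.range (EtCore.Hpull h G q) := by
  rcases q with _ | m
  · haveI := S8537.isIso_baseChange0 h p hb pT w ((EtCoh.pull p).obj G)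
      (hbc _ (EtAcycLib.isLTorsion_pull p hG) 0 (Or.inr rfl))
    exact backward_zero h p hb pT w G ζ x hx
  · haveI := S14622.result p G
    exact S8551.backward h p hb pT w L m (hh m rfl) (fun M hM i hi => hbc M hM i (Or.inl (by omega))) G hG ζ x hx

end Descent

/-- Descent of `InRange` along a surjective morphism. -/
theorem InRange.descend {T XT T' XT' : Scheme.{u}} {a : T ⟶ Y} {gT : XT ⟶ T} {pT : XT ⟶ X}
    (w : gT ≫ a = pT ≫ g) (p : T' ⟶ T) (gT' : XT' ⟶ T') (k : XT' ⟶ XT) (hs : gT' ≫ p = k ≫ gT)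
    {a' : T' ⟶ Y} {pT' : XT' ⟶ X} {w' : gT' ≫ a' = pT' ≫ g} (ha : p ≫ a = a') (hk : k ≫ pT = pT')
    [Surjective gT] [Surjective p] [CompactSpace T] [QuasiSeparatedSpace T] [CompactSpace XT]
    [QuasiSeparatedSpace XT] [CompactSpace T'] [QuasiSeparatedSpace T'] [QuasiCompact p] [QuasiSeparated p]
    (L : Set ℕ) (hh : ∀ m, m + 1 = q → EtAcyc.CompN gT L m)
    (hbc : ∀ M : EtCoh.Ab T', EtAcyc.IsLTorsion L M → ∀ i, i + 1 ≤ q ∨ i = 0 → IsIso (EtBC.bcQ p gT k gT' hs i M))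
    (hF : EtAcyc.IsLTorsion L F) (h : InRange g F ξ a' gT' pT' w') : InRange g F ξ a gT pT w := by
  obtain ⟨x', hx'⟩ := h
  let θ := pullCmp a gT (pT ≫ g) w F
  let R := EtCore.HpullVia pT g (pT ≫ g) rfl F q ξ
  obtain ⟨z, hz⟩ := (EtAcycLib.bijective_comp_mk₀ θ).2 R
  have h4 : k ≫ pT ≫ g = pT' ≫ g := by rw [← Category.assoc, hk]
  have h3 : (k ≫ gT) ≫ a = pT' ≫ g := by rw [Category.assoc, w, h4]
  obtain ⟨x, hx⟩ := (EtAcycLib.bijective_comp_mk₀ (pullCmp a p a' ha F)).2 x'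
  have key : EtCore.HpullVia gT' p (k ≫ gT) hs ((EtCoh.pull a).obj F) q x =
      EtCore.HpullVia k gT (k ≫ gT) rfl ((EtCoh.pull a).obj F) q z := by
    refine (EtAcycLib.bijective_comp_mk₀ (pullCmp a (k ≫ gT) (pT' ≫ g) h3 F)).1 ?_
    dsimp only at hz hx ⊢
    rw [via_comp_pullCmp p a' gT' (k ≫ gT) (pT' ≫ g) ha hs h3 w' F q x, hx, hx',
      via_comp_pullCmp gT (pT ≫ g) k (k ≫ gT) (pT' ≫ g) w rfl h3 h4 F q z, hz,
      via_via pT (pT ≫ g) k pT' (pT' ≫ g) rfl hk rfl h4 F q ξ]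
  obtain ⟨y, hy⟩ := backward_any gT p gT' k hs L hh hbc _ (EtAcycLib.isLTorsion_pull a hF) z x key
  refine ⟨y, ?_⟩
  rw [via_eq_comp, hy]
  exact hz

end Groth.Agent.AcycFin
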