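import Mathlib.AlgebraicGeometry.Pullbacks
import Mathlib.CategoryTheory.Limits.Shapes.Pullback.Connected
import Mathlib.AlgebraicGeometry.Limits
import Mathlib.CategoryTheory.Filtered.Connected

/-!
# Base change of an inverse system over a scheme
-/

set_option autoImplicit false
set_option linter.unusedSectionVars false
set_option linter.style.haveILetI false
set_option backward.isDefEq.respectTransparency false
set_option backward.isDefEq.respectTransparency.types false

universe u

open CategoryTheory CategoryTheory.Limits AlgebraicGeometry Opposite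

noncomputable section

namespace Groth.Agent.AcycFin

section Limit

variable {X W : Scheme.{u}} (g : X ⟶ W) {ι : Type u} [Preorder ι] {Xs : ιᵒᵖ ⥤ Scheme.{u}}
  (t : Xs ⟶ (Functor.const ιᵒᵖ).obj W)

/-- The base changes of a system. -/
def pbSys : ιᵒᵖ ⥤ Scheme.{u} where
  obj a := pullback (t.app a) g
  map {a b} h := pullback.lift (pullback.fst (t.app a) g ≫ Xs.map h) (pullback.snd (t.app a) g) (by
    have hn : Xs.map h ≫ t.app b = t.app a := (t.naturality h).trans (Category.comp_id _)
    rw [Category.assoc, hn]
    exact pullback.condition)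
  map_id a := pullback.hom_ext (by simp) (by simp)
  map_comp {a b c} h k := pullback.hom_ext (by simp) (by simp)

/-- The projection to the system. -/
def pbFst : pbSys g t ⟶ Xs where
  app a := pullback.fst (t.app a) g
  naturality a b h := pullback.lift_fst _ _ _

theorem isPullback_pbSys {a b : ιᵒᵖ} (h : a ⟶ b) :
    IsPullback ((pbSys g t).map h) (pullback.fst (t.app a) g) (pullback.fst (t.app b) g) (Xs.map h) := by
  refine IsPullback.of_right (h₁₂ := pullback.snd (t.app b) g) (h₂₂ := t.app b) (v₁₃ := g) ?_ (pullback.lift_fst _ _ _)
    (IsPullback.of_hasPullback (t.app b) g).flip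
  have hn : Xs.map h ≫ t.app b = t.app a := (t.naturality h).trans (Category.comp_id _)
  rw [hn, show (pbSys g t).map h ≫ pullback.snd (t.app b) g = pullback.snd (t.app a) g from pullback.lift_snd _ _ _]
  exact (IsPullback.of_hasPullback (t.app a) g).flip

variable (c : Cone Xs) (π : c.pt ⟶ W) (hπ : ∀ a, c.π.app a ≫ t.app a = π)

/-- The base changed cone. -/
def pbCone : Cone (pbSys g t) where
  pt := pullback π g
  π :=
    { app := fun a => pullback.lift (pullback.fst π g ≫ c.π.app a) (pullback.snd π g) (by
        rw [Category.assoc, hπ a]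
        exact pullback.condition)
      naturality := fun a b h => by
        refine pullback.hom_ext ?_ ?_
        · simp [pbSys, c.w h]
        · simp [pbSys] }

theorem pbCone_fst (a : ιᵒᵖ) :
    (pbCone g t c π hπ).π.app a ≫ pullback.fst (t.app a) g = pullback.fst π g ≫ c.π.app a := pullback.lift_fst _ _ _

/-- It is a limit. -/
def isLimitPbCone [IsDirected ι (· ≤ ·)] [Nonempty ι] (hc : IsLimit c) : IsLimit (pbCone g t c π hπ) :=
  haveI : IsCofiltered ιᵒᵖ := inferInstance
  haveI : CategoryTheory.IsConnected ιᵒᵖ := IsCofiltered.isConnected _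
  isLimitOfIsPullbackOfIsConnected (pbFst g t) (pbCone g t c π hπ) c
    { hom := (pullback.fst π g : (pbCone g t c π hπ).pt ⟶ c.pt)
      w := fun a => (pbCone_fst g t c π hπ a).symm }
    (fun a => IsPullback.of_right (h₁₂ := pullback.snd (t.app a) g) (h₂₂ := t.app a) (v₁₃ := g)
      (by
        rw [hπ a, show (pbCone g t c π hπ).π.app a ≫ pullback.snd (t.app a) g = pullback.snd π g from
          pullback.lift_snd _ _ _]
        exact (IsPullback.of_hasPullback π g).flip)
      (pbCone_fst g t c π hπ a) (IsPullback.of_hasPullback (t.app a) g).flip)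
    hc

end Limit

end Groth.Agent.AcycFin
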