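import Groth.Agent.AcycFin.StageRing
import Groth.Agent.AcycFin.InRange
import Groth.Agent.AcycFin.PbSys
import Groth.Agent.ProConsLib.Basic
import Groth.Agent.EtMVLib.MV
import Groth.Agent.EtFound.ConstAcyclic
import Groth.Agent.S0646
import Groth.Prelude.Def_EtAcyc
import Mathlib.AlgebraicGeometry.Morphisms.QuasiFinite
import Mathlib.AlgebraicGeometry.Morphisms.FinitePresentation

/-!
# Classes in the range on a geometric fibre are in the range on a quasi-finite stage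
-/

set_option autoImplicit false
set_option linter.unusedSectionVars false
set_option linter.style.haveILetI false
set_option backward.isDefEq.respectTransparency false
set_option backward.isDefEq.respectTransparency.types false

universe u

open CategoryTheory CategoryTheory.Limits AlgebraicGeometry Opposite Abelian

noncomputable section

namespace Groth.Agent.AcycFin

open Groth.Agent.EtLim8

attribute [local instance] EtFound.pull_preservesFiniteLimits

/-- On a scheme with two complementary opens the cohomology is the product. -/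
theorem bijective_prod_of_isCompl {T : Scheme.{u}} (U V : T.Opens) (hs : U ⊔ V = ⊤) (hi : U ⊓ V = ⊥)
    (G : EtCoh.Ab T) (q : ℕ) :
    Function.Bijective (AddMonoidHom.prod (EtCore.Hpull U.ι G q) (EtCore.Hpull V.ι G q)) := by
  obtain ⟨δ, h0, h1, h2, -⟩ := EtMVLib.mayerVietoris T U V hs G
  haveI : IsEmpty ↑(U ⊓ V : T.Opens) := by
    rw [hi]
    exact ⟨fun x => x.2⟩
  haveI := fun n => EtFound.ConstAcyclic.subsingleton_H_of_isEmpty ((EtCoh.pull (U ⊓ V).ι).obj G) n
  refine ⟨(AddMonoidHom.ker_eq_bot_iff _).1 ?_, fun p => ?_⟩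
  · cases q with
    | zero => exact h0
    | succ n =>
      rw [h1 n, eq_bot_iff]
      rintro - ⟨z, rfl⟩
      rw [Subsingleton.elim z 0, map_zero]
      exact AddSubgroup.zero_mem _
  · have := h2 q
    have hp : p ∈ (AddMonoidHom.prod (EtCore.Hpull U.ι G q) (EtCore.Hpull V.ι G q)).range := by
      rw [← h2 q]
      exact AddMonoidHom.mem_ker.2 (Subsingleton.elim _ _)
    exact hp

variable {X Y : Scheme.{u}} (g : X ⟶ Y) (F : EtCoh.Ab Y) {q : ℕ} (ξ : EtCoh.H X ((EtCoh.pull g).obj F) q)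

/-- The class comes from `T` after the base change along `a`. -/
def InR {T : Scheme.{u}} (a : T ⟶ Y) : Prop :=
  InRange g F ξ a (pullback.fst a g) (pullback.snd a g) pullback.condition

theorem InRange.inR {T XT : Scheme.{u}} {a : T ⟶ Y} {gT : XT ⟶ T} {pT : XT ⟶ X}
    (h : IsPullback gT pT a g) (hr : InRange g F ξ a gT pT h.w) : InR g F ξ a :=
  hr.mono g F ξ pullback.condition (𝟙 T) h.isoPullback.inv (Category.id_comp _) h.isoPullback_inv_snd
    (by rw [h.isoPullback_inv_fst, Category.comp_id])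

theorem InR.inRange {T XT : Scheme.{u}} {a : T ⟶ Y} {gT : XT ⟶ T} {pT : XT ⟶ X}
    (h : InR g F ξ a) (w : gT ≫ a = pT ≫ g) : InRange g F ξ a gT pT w :=
  h.mono g F ξ w (𝟙 T) (pullback.lift gT pT w) (Category.id_comp _) (pullback.lift_snd _ _ _)
    (by rw [pullback.lift_fst, Category.comp_id])

theorem InR.comp {T T' : Scheme.{u}} {a : T ⟶ Y} (h : InR g F ξ a) (b : T' ⟶ T) : InR g F ξ (b ≫ a) :=
  h.mono g F ξ pullback.condition b
    (pullback.lift (pullback.fst (b ≫ a) g ≫ b) (pullback.snd (b ≫ a) g)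
      ((Category.assoc _ _ _).trans pullback.condition))
    rfl (pullback.lift_snd _ _ _) (pullback.lift_fst _ _ _)

theorem InR.of_eq {T T' : Scheme.{u}} {a : T ⟶ Y} (h : InR g F ξ a) (b : T' ⟶ T) {a' : T' ⟶ Y}
    (hb : b ≫ a = a') : InR g F ξ a' := hb ▸ h.comp g F ξ b

theorem inR_of_mem_range {T : Scheme.{u}} (a : T ⟶ Y) (h : ξ ∈ Set.range (EtCore.Hpull g F q)) : InR g F ξ a :=
  inRange_of_mem_range g F ξ a _ _ _ h

theorem mem_range_of_inR (h : InR g F ξ (𝟙 Y)) : ξ ∈ Set.range (EtCore.Hpull g F q) :=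
  mem_range_of_inRange g F ξ h (𝟙 Y) (pullback.lift g (𝟙 X) (by simp)) (Category.id_comp _)
    (pullback.lift_snd _ _ _) (by simp)

/-- The range is detected on two complementary opens. -/
theorem inR_of_isCompl {T : Scheme.{u}} (a : T ⟶ Y) (U V : T.Opens) (hs : U ⊔ V = ⊤) (hi : U ⊓ V = ⊥)
    (hU : InR g F ξ (U.ι ≫ a)) (hV : InR g F ξ (V.ι ≫ a)) : InR g F ξ a := by
  let gT := pullback.fst a g
  let pT := pullback.snd a g
  let UX : (pullback a g).Opens := gT ⁻¹ᵁ U
  let VX : (pullback a g).Opens := gT ⁻¹ᵁ V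
  have hsX : UX ⊔ VX = ⊤ := top_unique fun x _ => (show gT.base x ∈ U ⊔ V by rw [hs]; trivial)
  have hiX : UX ⊓ VX = ⊥ := bot_unique fun x hx =>
    (show gT.base x ∈ (⊥ : T.Opens) from hi ▸ ⟨hx.1, hx.2⟩ : False).elim
  have hwU : (gT ∣_ U) ≫ U.ι ≫ a = (UX.ι ≫ pT) ≫ g := by
    rw [morphismRestrict_ι_assoc, Category.assoc, pullback.condition]
  have hwV : (gT ∣_ V) ≫ V.ι ≫ a = (VX.ι ≫ pT) ≫ g := by
    rw [morphismRestrict_ι_assoc, Category.assoc, pullback.condition]
  obtain ⟨xU, hxU⟩ := hU.inRange g F ξ hwU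
  obtain ⟨xV, hxV⟩ := hV.inRange g F ξ hwV
  obtain ⟨eU, heU⟩ := (EtAcycLib.bijective_comp_mk₀ (pullCmp a U.ι (U.ι ≫ a) rfl F)).2 xU
  obtain ⟨eV, heV⟩ := (EtAcycLib.bijective_comp_mk₀ (pullCmp a V.ι (V.ι ≫ a) rfl F)).2 xV
  obtain ⟨x, hx⟩ := (bijective_prod_of_isCompl U V hs hi ((EtCoh.pull a).obj F) q).2 (eU, eV)
  have hx1 : EtCore.HpullVia U.ι a (U.ι ≫ a) rfl F q x = xU := by
    rw [via_eq_comp, show EtCore.Hpull U.ι _ q x = eU from congrArg Prod.fst hx]
    exact heU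
  have hx2 : EtCore.HpullVia V.ι a (V.ι ≫ a) rfl F q x = xV := by
    rw [via_eq_comp, show EtCore.Hpull V.ι _ q x = eV from congrArg Prod.snd hx]
    exact heV
  refine ⟨x, ?_⟩
  refine (bijective_prod_of_isCompl UX VX hsX hiX _ q).1 (Prod.ext ?_ ?_)
  · refine (EtAcycLib.bijective_comp_mk₀ (pullCmp (pT ≫ g) UX.ι ((UX.ι ≫ pT) ≫ g) (Category.assoc _ _ _).symm F)).1 ?_
    refine ((via_eq_comp UX.ι (pT ≫ g) _ _ F q _).symm.trans ?_).trans (via_eq_comp UX.ι (pT ≫ g) _ _ F q _)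
    rw [via_via gT (pT ≫ g) UX.ι ((gT ∣_ U) ≫ U.ι) ((UX.ι ≫ pT) ≫ g) pullback.condition
        (morphismRestrict_ι gT U).symm ((Category.assoc _ _ _).trans hwU) (Category.assoc _ _ _).symm F q x,
      ← via_via U.ι (U.ι ≫ a) (gT ∣_ U) ((gT ∣_ U) ≫ U.ι) ((UX.ι ≫ pT) ≫ g) rfl rfl
        ((Category.assoc _ _ _).trans hwU) hwU F q x, hx1, hxU,
      via_via pT (pT ≫ g) UX.ι (UX.ι ≫ pT) ((UX.ι ≫ pT) ≫ g) rfl rfl rfl (Category.assoc _ _ _).symm F q ξ]
  · refine (EtAcycLib.bijective_comp_mk₀ (pullCmp (pT ≫ g) VX.ι ((VX.ι ≫ pT) ≫ g) (Category.assoc _ _ _).symm F)).1 ?_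
    refine ((via_eq_comp VX.ι (pT ≫ g) _ _ F q _).symm.trans ?_).trans (via_eq_comp VX.ι (pT ≫ g) _ _ F q _)
    rw [via_via gT (pT ≫ g) VX.ι ((gT ∣_ V) ≫ V.ι) ((VX.ι ≫ pT) ≫ g) pullback.condition
        (morphismRestrict_ι gT V).symm ((Category.assoc _ _ _).trans hwV) (Category.assoc _ _ _).symm F q x,
      ← via_via V.ι (V.ι ≫ a) (gT ∣_ V) ((gT ∣_ V) ≫ V.ι) ((VX.ι ≫ pT) ≫ g) rfl rfl
        ((Category.assoc _ _ _).trans hwV) hwV F q x, hx2, hxV,
      via_via pT (pT ≫ g) VX.ι (VX.ι ≫ pT) ((VX.ι ≫ pT) ≫ g) rfl rfl rfl (Category.assoc _ _ _).symm F q ξ]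

/-- The range is detected on the summands. -/
theorem InR.coprod {T₁ T₂ : Scheme.{u}} {a₁ : T₁ ⟶ Y} {a₂ : T₂ ⟶ Y} (h₁ : InR g F ξ a₁) (h₂ : InR g F ξ a₂) :
    InR g F ξ (coprod.desc a₁ a₂) := by
  let i₁ : T₁ ⟶ T₁ ⨿ T₂ := coprod.inl
  let i₂ : T₂ ⟶ T₁ ⨿ T₂ := coprod.inr
  have hc : IsCompl i₁.opensRange i₂.opensRange := isCompl_opensRange_inl_inr T₁ T₂
  refine inR_of_isCompl g F ξ _ i₁.opensRange i₂.opensRange hc.sup_eq_top hc.inf_eq_bot
    (h₁.of_eq g F ξ i₁.isoOpensRange.inv ?_) (h₂.of_eq g F ξ i₂.isoOpensRange.inv ?_)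
  · refine (Iso.inv_comp_eq _).2 ?_
    rw [Scheme.Hom.isoOpensRange_hom_ι_assoc, coprod.inl_desc]
  · refine (Iso.inv_comp_eq _).2 ?_
    rw [Scheme.Hom.isoOpensRange_hom_ι_assoc, coprod.inr_desc]

section Limit

variable {ι : Type u} [Preorder ι] [IsDirected ι (· ≤ ·)] [Nonempty ι] {Xs : ιᵒᵖ ⥤ Scheme.{u}}
  (t : Xs ⟶ (Functor.const ιᵒᵖ).obj Y) (c : Cone Xs) (π : c.pt ⟶ Y) (hπ : ∀ a, c.π.app a ≫ t.app a = π)

/-- A class in the range on the limit is in the range at some stage, for any compatible systems. -/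
theorem exists_stage_inRange {Ps : ιᵒᵖ ⥤ Scheme.{u}} (a : ∀ i, Xs.obj i ⟶ Y)
    (ha : ∀ {i i' : ιᵒᵖ} (h : i ⟶ i'), Xs.map h ≫ a i' = a i)
    (gs : ∀ i, Ps.obj i ⟶ Xs.obj i) (hgs : ∀ {i i' : ιᵒᵖ} (h : i ⟶ i'), Ps.map h ≫ gs i' = gs i ≫ Xs.map h)
    (ps : ∀ i, Ps.obj i ⟶ X) (hps : ∀ {i i' : ιᵒᵖ} (h : i ⟶ i'), Ps.map h ≫ ps i' = ps i)
    (w : ∀ i, gs i ≫ a i = ps i ≫ g) (ca : ∀ i, c.π.app i ≫ a i = π) (hc : IsLimit c)
    (cP : Cone Ps) (hcP : IsLimit cP) (gL : cP.pt ⟶ c.pt) (pL : cP.pt ⟶ X) (wL : gL ≫ π = pL ≫ g)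
    (hgL : ∀ i, cP.π.app i ≫ gs i = gL ≫ c.π.app i) (hpL : ∀ i, cP.π.app i ≫ ps i = pL)
    (haffX : ∀ ⦃i i' : ιᵒᵖ⦄ (h : i ⟶ i'), IsAffineHom (Xs.map h)) (hqcX : ∀ i, CompactSpace (Xs.obj i))
    (hqsX : ∀ i, QuasiSeparatedSpace (Xs.obj i))
    (haffP : ∀ ⦃i i' : ιᵒᵖ⦄ (h : i ⟶ i'), IsAffineHom (Ps.map h)) (hqcP : ∀ i, CompactSpace (Ps.obj i))
    (hqsP : ∀ i, QuasiSeparatedSpace (Ps.obj i))
    (h : InRange g F ξ π gL pL wL) :
    ∃ j : ι, InRange g F ξ (a (op j)) (gs (op j)) (ps (op j)) (w _) := by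
  obtain ⟨i₀⟩ := ‹Nonempty ι›
  obtain ⟨x, hx⟩ := h
  -- the class on the limit comes from a stage
  obtain ⟨x', hx'⟩ := (EtAcycLib.bijective_comp_mk₀ (pullCmp (a (op i₀)) (c.π.app (op i₀)) π (ca _) F)).2 x
  obtain ⟨j, hj, ξj, hξj⟩ := (S0646.result Xs haffX hqcX hqsX c hc i₀ ((EtCoh.pull (a (op i₀))).obj F) q).1 x'
  let f := (homOfLE hj).op
  let xj : EtCoh.H (Xs.obj (op j)) ((EtCoh.pull (a (op j))).obj F) q :=
    ξj.comp (Ext.mk₀ (pullCmp (a (op i₀)) (Xs.map f) (a (op j)) (ha f) F).hom) (add_zero q)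
  have hxj : EtCore.HpullVia (c.π.app (op j)) (a (op j)) π (ca _) F q xj = x :=
    (via_comp_pullCmp (Xs.map f) (a (op j)) (c.π.app (op j)) (c.π.app (op i₀)) π (ha f) (c.w f)
      (ca (op i₀)) (ca (op j)) F q ξj).symm.trans ((congrArg (fun r => Ext.comp r
        (Ext.mk₀ (pullCmp (a (op i₀)) (c.π.app (op i₀)) π (ca _) F).hom) (add_zero q)) hξj).trans hx')
  -- the difference at stage `j`
  let d : EtCoh.H (Ps.obj (op j)) ((EtCoh.pull (ps (op j) ≫ g)).obj F) q :=
    EtCore.HpullVia (gs (op j)) (a (op j)) (ps (op j) ≫ g) (w _) F q xj -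
      EtCore.HpullVia (ps (op j)) g (ps (op j) ≫ g) rfl F q ξ
  let pj := cP.π.app (op j)
  have e0 : pj ≫ ps (op j) ≫ g = pL ≫ g := by rw [← Category.assoc, hpL]
  have e1 : (gL ≫ c.π.app (op j)) ≫ a (op j) = pL ≫ g := by rw [Category.assoc, ca, wL]
  have hd : EtCore.HpullVia pj (ps (op j) ≫ g) (pL ≫ g) e0 F q d = 0 := by
    rw [map_sub, sub_eq_zero]
    refine (via_via (gs (op j)) _ pj (gL ≫ c.π.app (op j)) (pL ≫ g) (w _) (hgL _) e1 e0 F q xj).trans ?_
    refine (via_via (c.π.app (op j)) π gL (gL ≫ c.π.app (op j)) (pL ≫ g) (ca _) rfl e1 wL F q xj).symm.trans ?_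
    refine ((congrArg _ hxj).trans hx).trans ?_
    exact (via_via (ps (op j)) _ pj pL (pL ≫ g) rfl (hpL _) rfl e0 F q ξ).symm
  have hd' : EtCore.Hpull pj _ q d = 0 := by
    refine (EtAcycLib.bijective_comp_mk₀ (pullCmp _ pj (pL ≫ g) e0 F)).1 ?_
    dsimp only
    rw [Ext.zero_comp]
    exact (via_eq_comp pj _ _ e0 F q d).symm.trans hd
  let f₀ := Ps.map (homOfLE (le_refl j)).op
  obtain ⟨k, hk, hk0⟩ := (S0646.result Ps haffP hqcP hqsP cP hcP j
    ((EtCoh.pull (ps (op j) ≫ g)).obj F) q).2 j le_rfl (EtCore.Hpull f₀ _ q d) (by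
      rw [via_Hpull pj (cP.π.app (op j)) (cP.w _) _ q d]
      exact hd')
  refine ⟨k, ?_⟩
  let m := Ps.map (homOfLE hk).op
  have hm : m ≫ f₀ = m := by
    rw [show f₀ = 𝟙 _ from Ps.map_id _, Category.comp_id]
  have hmd : EtCore.Hpull m _ q d = 0 := by
    have h := via_Hpull (t₁ := f₀) m m hm ((EtCoh.pull (ps (op j) ≫ g)).obj F) q d
    rw [via_eq_comp, hk0, Ext.zero_comp] at h
    exact h.symm
  have e2 : m ≫ ps (op j) ≫ g = ps (op k) ≫ g := by rw [← Category.assoc, hps]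
  have e3 : (gs (op k) ≫ Xs.map (homOfLE hk).op) ≫ a (op j) = ps (op k) ≫ g := by rw [Category.assoc, ha, w]
  have hvia : EtCore.HpullVia m (ps (op j) ≫ g) (ps (op k) ≫ g) e2 F q d = 0 := by
    rw [via_eq_comp, hmd, Ext.zero_comp]
  rw [map_sub, sub_eq_zero] at hvia
  refine ⟨EtCore.HpullVia (Xs.map (homOfLE hk).op) (a (op j)) (a (op k)) (ha _) F q xj, ?_⟩
  rw [via_via (Xs.map (homOfLE hk).op) (a (op k)) (gs (op k)) _ (ps (op k) ≫ g) (ha _) rfl e3 (w _) F q xj,
    ← via_via (gs (op j)) _ m (gs (op k) ≫ Xs.map (homOfLE hk).op) (ps (op k) ≫ g) (w _) (hgs _) e3 e2 F q xj, hvia,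
    via_via (ps (op j)) _ m (ps (op k)) (ps (op k) ≫ g) rfl (hps _) rfl e2 F q ξ]

include hπ in
/-- A class in the range on the limit is in the range at some stage. -/
theorem exists_stage_inR (hc : IsLimit c) [QuasiCompact g] [QuasiSeparated g]
    [∀ ⦃a b : ιᵒᵖ⦄ (h : a ⟶ b), IsAffineHom (Xs.map h)] [∀ a, CompactSpace (Xs.obj a)]
    [∀ a, QuasiSeparatedSpace (Xs.obj a)] (h : InR g F ξ π) : ∃ j : ι, InR g F ξ (t.app (op j)) :=
  exists_stage_inRange g F ξ c π (Ps := pbSys g t) (fun i => t.app i)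
    (fun h => (t.naturality h).trans (Category.comp_id _))
    (fun i => pullback.fst (t.app i) g) (fun _ => pullback.lift_fst _ _ _)
    (fun i => pullback.snd (t.app i) g) (fun _ => pullback.lift_snd _ _ _)
    (fun _ => pullback.condition) hπ hc (pbCone g t c π hπ) (isLimitPbCone g t c π hπ hc)
    (pullback.fst π g) (pullback.snd π g) pullback.condition
    (fun i => pbCone_fst g t c π hπ i) (fun i => pullback.lift_snd _ _ _)
    inferInstance (fun i => inferInstance) (fun i => inferInstance)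
    (fun a b h => MorphismProperty.of_isPullback (P := @IsAffineHom) (isPullback_pbSys g t h).flip inferInstance)
    (fun i => QuasiCompact.compactSpace_of_compactSpace (pullback.fst (t.app i) g))
    (fun i => quasiSeparatedSpace_of_quasiSeparated (pullback.fst (t.app i) g))
    h

end Limit

section Field

variable {U : Y.Opens} (hU : IsAffineOpen U) (y : Y) (hy : y ∈ U) (Ω : Type u) [Field Ω]
  [Algebra (Y.residueField y) Ω]

/-- The ring map from the functions on an affine neighbourhood of a point. -/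
def toOmega : Γ(Y, U) →+* Ω :=
  ((algebraMap (Y.residueField y) Ω).comp (Y.residue y).hom).comp (Y.presheaf.germ U y hy).hom

theorem specMap_toOmega :
    Spec.map (CommRingCat.ofHom (toOmega y hy Ω)) ≫ hU.fromSpec = EtAcyc.geomPt Y y Ω := by
  show Spec.map (Y.presheaf.germ U y hy ≫ Y.residue y ≫ CommRingCat.ofHom (algebraMap (Y.residueField y) Ω)) ≫ _ = _
  rw [EtAcyc.geomPt, Scheme.fromSpecResidueField, ← IsAffineOpen.fromSpecStalk_eq_fromSpecStalk hU hy,
    IsAffineOpen.fromSpecStalk, Spec.map_comp, Spec.map_comp]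
  simp only [Category.assoc]

include hU in
theorem exists_fraction (k : Y.residueField y) :
    ∃ a b : Γ(Y, U), toOmega y hy Ω b ≠ 0 ∧ algebraMap (Y.residueField y) Ω k * toOmega y hy Ω b = toOmega y hy Ω a := by
  obtain ⟨z, rfl⟩ := IsLocalRing.residue_surjective k
  letI := TopCat.Presheaf.algebra_section_stalk Y.presheaf (⟨y, hy⟩ : U)
  haveI := hU.isLocalization_stalk ⟨y, hy⟩
  obtain ⟨⟨a, b⟩, hab⟩ := IsLocalization.surj (hU.primeIdealOf ⟨y, hy⟩).asIdeal.primeCompl z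
  refine ⟨a, b, fun h0 => ?_, ?_⟩
  · have hu : IsUnit ((Y.presheaf.germ U y hy).hom b) := IsLocalization.map_units (Y.presheaf.stalk y) b
    exact (hu.map ((algebraMap (Y.residueField y) Ω).comp (Y.residue y).hom)).ne_zero h0
  · have h := congrArg ((algebraMap (Y.residueField y) Ω).comp (Y.residue y).hom) hab
    rw [map_mul] at h
    exact h

include hU in
theorem exists_polynomial [Algebra.IsAlgebraic (Y.residueField y) Ω] (x : Ω) :
    ∃ P : Polynomial Γ(Y, U), toOmega y hy Ω P.leadingCoeff ≠ 0 ∧ P.eval₂ (toOmega y hy Ω) x = 0 := by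
  set φ := toOmega y hy Ω
  obtain ⟨p, hp0, hpx⟩ := Algebra.IsAlgebraic.isAlgebraic (R := Y.residueField y) x
  have key : ∀ r : Polynomial (Y.residueField y), ∃ b : Γ(Y, U), φ b ≠ 0 ∧
      Polynomial.C (φ b) * r.map (algebraMap (Y.residueField y) Ω) ∈ Polynomial.lifts φ := by
    intro r
    induction r using Polynomial.induction_on' with
    | add p q hp hq =>
      obtain ⟨b, hb, hbp⟩ := hp
      obtain ⟨b', hb', hbq⟩ := hq
      refine ⟨b * b', by rw [map_mul]; exact mul_ne_zero hb hb', ?_⟩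
      rw [Polynomial.map_add, mul_add]
      refine add_mem ?_ ?_
      · rw [map_mul, Polynomial.C_mul, mul_right_comm]
        exact mul_mem hbp (Polynomial.C_mem_lifts _ _)
      · rw [map_mul, Polynomial.C_mul, mul_assoc]
        exact mul_mem (Polynomial.C_mem_lifts _ _) hbq
    | monomial n k =>
      obtain ⟨a, b, hb, hab⟩ := exists_fraction hU y hy Ω k
      refine ⟨b, hb, ?_⟩
      rw [Polynomial.map_monomial, Polynomial.C_mul_monomial, mul_comm, hab]
      exact Polynomial.monomial_mem_lifts n ⟨a, rfl⟩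
  obtain ⟨b, hb, hl⟩ := key p
  obtain ⟨P, hP, hdeg⟩ := Polynomial.mem_lifts_and_degree_eq hl
  have hne : P.map φ ≠ 0 := by
    rw [hP]
    exact mul_ne_zero (Polynomial.C_ne_zero.2 hb)
      ((Polynomial.map_ne_zero_iff (algebraMap (Y.residueField y) Ω).injective).2 hp0)
  refine ⟨P, fun h0 => hne ?_, ?_⟩
  · rw [hP]
    have : (P.map φ).degree = P.degree := by rw [hP, hdeg]
    by_contra hc
    exact (Polynomial.degree_map_eq_iff.1 this).elim (fun h => h h0) fun h => hc (by rw [← hP, h, Polynomial.map_zero])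
  · rw [← Polynomial.eval_map, hP, Polynomial.eval_mul, Polynomial.eval_map, ← Polynomial.aeval_def, hpx, mul_zero]

variable [Algebra.IsAlgebraic (Y.residueField y) Ω]

include hy in
/-- A class in the range on a geometric fibre is in the range on a quasi-finite neighbourhood. -/
theorem exists_qf_inR [QuasiSeparatedSpace Y] [QuasiCompact g] [QuasiSeparated g] (hU : IsAffineOpen U)
    (h : InR g F ξ (EtAcyc.geomPt Y y Ω)) :
    ∃ (T : Scheme.{u}) (a : T ⟶ Y), IsAffine T ∧ LocallyQuasiFinite a ∧ LocallyOfFinitePresentation a ∧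
      y ∈ Set.range a.base ∧ InR g F ξ a := by
  letI : Algebra Γ(Y, U) Ω := (toOmega y hy Ω).toAlgebra
  have hc := Stage.isColimitCocone (A := Γ(Y, U)) (Ω := Ω) fun x => by
    obtain ⟨P, h1, h2⟩ := exists_polynomial hU y hy Ω x
    exact ⟨P, h1, h2⟩
  let F₀ := Stage.rings Γ(Y, U) Ω
  have hl : IsLimit (Scheme.Spec.mapCone (Stage.cocone Γ(Y, U) Ω).op) := isLimitOfPreserves Scheme.Spec hc.op
  let t : F₀.op ⋙ Scheme.Spec ⟶ (Functor.const (Stage.Idx Γ(Y, U) Ω)ᵒᵖ).obj Y :=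
    { app := fun i => Spec.map (CommRingCat.ofHom (algebraMap Γ(Y, U) (Stage.B i.unop))) ≫ hU.fromSpec
      naturality := fun i j f => by
        refine Eq.trans ?_ (Category.comp_id _).symm
        refine (Category.assoc _ _ _).symm.trans (congrArg (· ≫ hU.fromSpec) ?_)
        refine (Spec.map_comp _ _).symm.trans (congrArg Spec.map ?_)
        exact CommRingCat.hom_ext (RingHom.ext fun a => (Stage.tr (leOfHom f.unop)).commutes a) }
  let c := Scheme.Spec.mapCone (Stage.cocone Γ(Y, U) Ω).op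
  have hπ : ∀ i, c.π.app i ≫ t.app i = EtAcyc.geomPt Y y Ω := fun i => by
    rw [← specMap_toOmega hU y hy Ω]
    refine (Category.assoc _ _ _).symm.trans (congrArg (· ≫ hU.fromSpec) ?_)
    refine (Spec.map_comp _ _).symm.trans (congrArg Spec.map ?_)
    exact CommRingCat.hom_ext (RingHom.ext fun a => (Stage.toField i.unop).commutes a)
  haveI : ∀ ⦃a b : (Stage.Idx Γ(Y, U) Ω)ᵒᵖ⦄ (f : a ⟶ b), IsAffineHom ((F₀.op ⋙ Scheme.Spec).map f) :=
    fun a b f => inferInstanceAs (IsAffineHom (Spec.map _))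
  haveI : ∀ a, CompactSpace ((F₀.op ⋙ Scheme.Spec).obj a) := fun a => inferInstanceAs (CompactSpace (Spec _))
  haveI : ∀ a, QuasiSeparatedSpace ((F₀.op ⋙ Scheme.Spec).obj a) := fun a =>
    inferInstanceAs (QuasiSeparatedSpace (Spec _))
  obtain ⟨j, hj⟩ := exists_stage_inR g F ξ t c (EtAcyc.geomPt Y y Ω) hπ hl h
  haveI := Stage.finitePresentation j
  haveI : LocallyOfFinitePresentation (Spec.map (CommRingCat.ofHom (algebraMap Γ(Y, U) (Stage.B j)))) :=
    (LocallyOfFinitePresentation.SpecMap_iff _).2 (RingHom.finitePresentation_algebraMap.2 inferInstance)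
  haveI : LocallyQuasiFinite (Spec.map (CommRingCat.ofHom (algebraMap Γ(Y, U) (Stage.B j)))) :=
    (HasRingHomProperty.Spec_iff (P := @LocallyQuasiFinite)).2
      (RingHom.quasiFinite_algebraMap.2 inferInstance)
  refine ⟨Spec (CommRingCat.of (Stage.B j)), t.app (op j), inferInstance,
    inferInstanceAs (LocallyQuasiFinite (_ ≫ hU.fromSpec)),
    inferInstanceAs (LocallyOfFinitePresentation (_ ≫ hU.fromSpec)), ?_, hj⟩
  refine ⟨(c.π.app (op j)).base (IsLocalRing.closedPoint Ω), ?_⟩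
  refine (congrArg (fun φ : Spec (CommRingCat.of Ω) ⟶ Y => φ.base (IsLocalRing.closedPoint Ω)) (hπ (op j))).trans ?_
  exact Scheme.fromSpecResidueField_apply y _

end Field

/-- Classes in the range on all geometric fibres are in the range after a quasi-finite surjective base change. -/
theorem exists_cover_inR [CompactSpace Y] [QuasiSeparatedSpace Y] [QuasiCompact g] [QuasiSeparated g]
    (h : ∀ (y : Y) (Ω : Type u) [Field Ω] [IsSepClosed Ω] [Algebra (Y.residueField y) Ω]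
      [Algebra.IsAlgebraic (Y.residueField y) Ω], InR g F ξ (EtAcyc.geomPt Y y Ω)) :
    ∃ (T : Scheme.{u}) (a : T ⟶ Y), IsAffine T ∧ LocallyQuasiFinite a ∧ LocallyOfFiniteType a ∧ Surjective a ∧
      InR g F ξ a := by
  classical
  have h1 : ∀ y : Y, ∃ (T : Scheme.{u}) (a : T ⟶ Y), IsAffine T ∧ LocallyQuasiFinite a ∧
      LocallyOfFinitePresentation a ∧ y ∈ Set.range a.base ∧ InR g F ξ a := fun y => by
    obtain ⟨U, hU, hyU, -⟩ := exists_isAffineOpen_mem_and_subset (U := (⊤ : Y.Opens)) (x := y) trivial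
    exact exists_qf_inR g F ξ y hyU (SeparableClosure (Y.residueField y)) hU (h y _)
  choose T a hT hqf hfp hy hr using h1
  have hopen : ∀ y, @IsOpen Y (constructibleTopology Y) (Set.range (a y).base) := fun y => by
    haveI := hT y
    haveI := hfp y
    haveI : QuasiCompact (a y) := quasiCompact_of_compactSpace (a y)
    have hc : Topology.IsConstructible ((a y).base '' Set.univ) := Scheme.Hom.isConstructible_image _ .univ
    rw [Set.image_univ] at hc
    exact compl_compl (Set.range (a y).base) ▸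
      @IsClosed.isOpen_compl Y (constructibleTopology Y) _ (ProConsLib.consClosed_of_isConstructible hc.compl)
  obtain ⟨s, hs⟩ := @IsCompact.elim_finite_subcover Y (constructibleTopology Y) Set.univ Y
    (@isCompact_univ Y (constructibleTopology Y) ProConsLib.compactSpace_cons)
    (fun y => Set.range (a y).base) hopen (fun y _ => Set.mem_iUnion.2 ⟨y, hy y⟩)
  suffices key : ∀ s : Finset Y, ∃ (T' : Scheme.{u}) (a' : T' ⟶ Y), IsAffine T' ∧ LocallyQuasiFinite a' ∧
      LocallyOfFiniteType a' ∧ InR g F ξ a' ∧ ∀ y ∈ s, Set.range (a y).base ⊆ Set.range a'.base by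
    obtain ⟨T', a', h1, h2, h3, h4, h5⟩ := key s
    refine ⟨T', a', h1, h2, h3, ⟨fun y => ?_⟩, h4⟩
    obtain ⟨z, hz, hyz⟩ := Set.mem_iUnion₂.1 (hs (Set.mem_univ y))
    exact h5 z hz hyz
  intro s
  induction s using Finset.induction with
  | empty =>
    refine ⟨(∅ : Scheme.{u}), Scheme.emptyTo Y, inferInstance, inferInstance, inferInstance, ?_, by simp⟩
    haveI : IsEmpty (pullback (Scheme.emptyTo Y) g : Scheme.{u}) := Function.isEmpty (pullback.fst (Scheme.emptyTo Y) g).base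
    haveI := EtFound.ConstAcyclic.subsingleton_H_of_isEmpty
      ((EtCoh.pull (pullback.snd (Scheme.emptyTo Y) g ≫ g)).obj F) q
    exact ⟨0, Subsingleton.elim _ _⟩
  | insert z s hz ih =>
    obtain ⟨T', a', h1, h2, h3, h4, h5⟩ := ih
    haveI := hT z
    haveI := hqf z
    haveI := hfp z
    refine ⟨T z ⨿ T', coprod.desc (a z) a', inferInstance, ?_, ?_, (hr z).coprod g F ξ h4, ?_⟩
    · refine (IsZariskiLocalAtSource.iff_of_openCover (P := @LocallyQuasiFinite) (coprodOpenCover.{u, u} (T z) T')).2 ?_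
      rintro (_ | _)
      · show LocallyQuasiFinite ((coprod.inl : T z ⟶ T z ⨿ T') ≫ coprod.desc (a z) a')
        rw [coprod.inl_desc]
        infer_instance
      · show LocallyQuasiFinite ((coprod.inr : T' ⟶ T z ⨿ T') ≫ coprod.desc (a z) a')
        rw [coprod.inr_desc]
        infer_instance
    · refine (IsZariskiLocalAtSource.iff_of_openCover (P := @LocallyOfFiniteType) (coprodOpenCover.{u, u} (T z) T')).2 ?_
      rintro (_ | _)
      · show LocallyOfFiniteType ((coprod.inl : T z ⟶ T z ⨿ T') ≫ coprod.desc (a z) a')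
        rw [coprod.inl_desc]
        infer_instance
      · show LocallyOfFiniteType ((coprod.inr : T' ⟶ T z ⨿ T') ≫ coprod.desc (a z) a')
        rw [coprod.inr_desc]
        infer_instance
    · intro w hw
      rcases Finset.mem_insert.1 hw with rfl | hw
      · rintro - ⟨v, rfl⟩
        exact ⟨(coprod.inl : T w ⟶ T w ⨿ T').base v,
          congrArg (fun φ : T w ⟶ Y => φ.base v) (coprod.inl_desc (a w) a')⟩
      · rintro v hv
        obtain ⟨v', rfl⟩ := h5 w hw hv
        exact ⟨(coprod.inr : T' ⟶ T z ⨿ T').base v',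
          congrArg (fun φ : T' ⟶ Y => φ.base v') (coprod.inr_desc (a z) a')⟩

end Groth.Agent.AcycFin
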