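import Groth.Agent.AcycFin.InRange
import Groth.Agent.AcycFin.Stages
import Groth.Agent.AcycFin.BcMono
import Groth.Agent.AcycFin.HereditarySurj

/-!
# The range of the pullback in degree zero is detected on geometric fibres
-/

set_option autoImplicit false
set_option linter.unusedSectionVars false
set_option linter.style.haveILetI false
set_option backward.isDefEq.respectTransparency false
set_option backward.isDefEq.respectTransparency.types false

universe u

open CategoryTheory CategoryTheory.Limits AlgebraicGeometry Opposite Abelian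

noncomputable section

namespace Groth.Agent.AcycFin

open Groth.Agent.EtLim8

attribute [local instance] EtFound.pull_preservesFiniteLimits

section Descent

variable {S T S' T' : Scheme.{u}} (h : T ⟶ S) (p : S' ⟶ S) (hb : T' ⟶ S') (pT : T' ⟶ T) (w : hb ≫ p = pT ≫ h)

/-- Descent of the range in degree zero. -/
theorem backward_zero_mono [Surjective h] [Surjective p] (G : EtCoh.Ab S)
    [Mono (EtCoh.baseChange0 p h pT hb w ((EtCoh.pull p).obj G))]
    (ζ : EtCoh.H T ((EtCoh.pull h).obj G) 0) (x : EtCoh.H S' ((EtCoh.pull p).obj G) 0)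
    (hx : EtCore.HpullVia hb p (pT ≫ h) w G 0 x = EtCore.HpullVia pT h (pT ≫ h) rfl G 0 ζ) :
    ζ ∈ Set.range (EtCore.Hpull h G 0) := by
  let M := (EtCoh.pull p).obj G
  let u : G ⟶ (EtCoh.push p).obj M := (EtCoh.pullPushAdj p).unit.app G
  haveI : Mono u := S14622.result p G
  haveI := EtFound.pull_preservesFiniteLimits h
  have hinj : ∀ A : EtCoh.Ab S, Function.Injective (EtCore.Hpull h A 0) := fun A => by
    haveI := S14622.result h A
    refine (injective_iff_map_eq_zero _).2 fun z hz =>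
      BcQCalc.eq_zero_of_comp_mono ((EtCoh.pullPushAdj h).unit.app A) z ?_
    refine (BcQCalc.HofPush_bijective_zero h _).1 ?_
    rw [← EtAcycLib.UnitRpush.Hpull_eq_HofPush, hz, map_zero]
  let β := EtCoh.baseChange0 p h pT hb w M
  let γ0 := (EtCore.pullCongr w.symm ≪≫ EtCore.pullComp hb p).hom.app G
  have e := S8551.HofPush_of_via pT h (pT ≫ h) rfl G ((EtCoh.pull h).map u ≫ β) γ0
    (S8551.transpose_eq pT h G _ γ0 (S8551.compat_unit_bc h p hb pT w G γ0 rfl)) 0 ζ
  rw [← hx, S8551.via_cancel hb p (pT ≫ h) w G 0 x γ0 rfl] at e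
  obtain ⟨y, rfl⟩ := (BcQCalc.HofPush_bijective_zero p M).2 x
  rw [BcQCalc.Hpull_HofPush_square p h pT hb w M 0 y, ← Ext.mk₀_comp_mk₀,
    ← Ext.comp_assoc_of_third_deg_zero] at e
  have e2 : ζ.comp (Ext.mk₀ ((EtCoh.pull h).map u)) (add_zero 0) = EtCore.Hpull h _ 0 y :=
    sub_eq_zero.1 (BcQCalc.eq_zero_of_comp_mono β _ (by
      rw [sub_eq_add_neg, Ext.add_comp, Ext.neg_comp, ← sub_eq_add_neg, sub_eq_zero]
      exact (BcQCalc.HofPush_bijective_zero pT _).1 e))
  let K : ShortComplex (EtCoh.Ab S) := ShortComplex.mk u (cokernel.π u) (cokernel.condition _)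
  have hK : K.ShortExact := { exact := ShortComplex.exact_of_g_is_cokernel _ (cokernelIsCokernel _) }
  have h0 : y.comp (Ext.mk₀ K.g) (add_zero 0) = 0 := hinj _ (by
    rw [map_zero, S8536.Hpull_comp_mk₀, ← e2, Ext.comp_assoc_of_third_deg_zero, Ext.mk₀_comp_mk₀,
      ← Functor.map_comp, show u ≫ K.g = 0 from cokernel.condition u, Functor.map_zero, Ext.mk₀_zero, Ext.comp_zero])
  obtain ⟨x₀, hx₀⟩ := Ext.covariant_sequence_exact₂ _ hK y h0
  refine ⟨x₀, sub_eq_zero.1 (BcQCalc.eq_zero_of_comp_mono ((EtCoh.pull h).map u) _ ?_)⟩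
  rw [sub_eq_add_neg, Ext.add_comp, Ext.neg_comp, ← S8536.Hpull_comp_mk₀ h u 0 x₀, e2,
    show x₀.comp (Ext.mk₀ u) (add_zero 0) = y from hx₀, add_neg_cancel]

end Descent

variable {X Y : Scheme.{u}} (g : X ⟶ Y) (F : EtCoh.Ab Y) (ξ : EtCoh.H X ((EtCoh.pull g).obj F) 0)

/-- Descent of `InRange` along a surjective morphism. -/
theorem descend_zero {T XT T' XT' : Scheme.{u}} {a : T ⟶ Y} {gT : XT ⟶ T} {pT : XT ⟶ X}
    (w : gT ≫ a = pT ≫ g) (p : T' ⟶ T) (gT' : XT' ⟶ T') (k : XT' ⟶ XT) (hs : gT' ≫ p = k ≫ gT)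
    {a' : T' ⟶ Y} {pT' : XT' ⟶ X} {w' : gT' ≫ a' = pT' ≫ g} (ha : p ≫ a = a') (hk : k ≫ pT = pT')
    [Surjective gT] [Surjective p] [CompactSpace T] [QuasiSeparatedSpace T] [CompactSpace XT]
    [QuasiSeparatedSpace XT] [CompactSpace T'] [QuasiSeparatedSpace T'] [QuasiCompact p] [QuasiSeparated p]
    (hbc : ∀ M : EtCoh.Ab T', Mono (EtCoh.baseChange0 p gT k gT' hs M))
    (h : InRange g F ξ a' gT' pT' w') : InRange g F ξ a gT pT w := by
  obtain ⟨x', hx'⟩ := h
  let θ := pullCmp a gT (pT ≫ g) w F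
  let R := EtCore.HpullVia pT g (pT ≫ g) rfl F 0 ξ
  obtain ⟨z, hz⟩ := (EtAcycLib.bijective_comp_mk₀ θ).2 R
  have h4 : k ≫ pT ≫ g = pT' ≫ g := by rw [← Category.assoc, hk]
  have h3 : (k ≫ gT) ≫ a = pT' ≫ g := by rw [Category.assoc, w, h4]
  obtain ⟨x, hx⟩ := (EtAcycLib.bijective_comp_mk₀ (pullCmp a p a' ha F)).2 x'
  have key : EtCore.HpullVia gT' p (k ≫ gT) hs ((EtCoh.pull a).obj F) 0 x =
      EtCore.HpullVia k gT (k ≫ gT) rfl ((EtCoh.pull a).obj F) 0 z := by
    refine (EtAcycLib.bijective_comp_mk₀ (pullCmp a (k ≫ gT) (pT' ≫ g) h3 F)).1 ?_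
    dsimp only at hz hx ⊢
    rw [via_comp_pullCmp p a' gT' (k ≫ gT) (pT' ≫ g) ha hs h3 w' F 0 x, hx, hx',
      via_comp_pullCmp gT (pT ≫ g) k (k ≫ gT) (pT' ≫ g) w rfl h3 h4 F 0 z, hz,
      via_via pT (pT ≫ g) k pT' (pT' ≫ g) rfl hk rfl h4 F 0 ξ]
  haveI := hbc ((EtCoh.pull p).obj ((EtCoh.pull a).obj F))
  obtain ⟨y, hy⟩ := backward_zero_mono gT p gT' k hs _ z x key
  refine ⟨y, ?_⟩
  rw [via_eq_comp, hy]
  exact hz

/-- For surjective strict localizations a global section which is in the range on all geometric fibres is in the range. -/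
theorem mem_range_zero_of_fibres [QuasiCompact g] [QuasiSeparated g] [Surjective g]
    [CompactSpace Y] [QuasiSeparatedSpace Y] (hs : EtAcyc.OnStrictLocalizations g (fun _ _ m => Surjective m))
    (hfib : ∀ (y : Y) (Ω : Type u) [Field Ω] [IsSepClosed Ω] [Algebra (Y.residueField y) Ω]
      [Algebra.IsAlgebraic (Y.residueField y) Ω], InR g F ξ (EtAcyc.geomPt Y y Ω)) :
    ξ ∈ Set.range (EtCore.Hpull g F 0) := by
  obtain ⟨T, a, hT, hqf, hft, hsurj, hr⟩ := exists_cover_inR g F ξ hfib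
  haveI := hT
  haveI := hqf
  haveI := hft
  haveI := hsurj
  haveI : QuasiCompact a := quasiCompact_of_compactSpace a
  haveI : QuasiSeparated a := inferInstance
  haveI : CompactSpace X := QuasiCompact.compactSpace_of_compactSpace g
  haveI : QuasiSeparatedSpace X := quasiSeparatedSpace_of_quasiSeparated g
  have w : g ≫ 𝟙 Y = 𝟙 X ≫ g := by simp
  have h1 : InRange g F ξ (𝟙 Y) g (𝟙 X) w :=
    descend_zero (T := Y) (XT := X) (T' := T) (XT' := pullback a g) g F ξ w a (pullback.fst a g)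
      (pullback.snd a g) pullback.condition (a' := a) (pT' := pullback.snd a g) (w' := pullback.condition)
      (Category.comp_id a) (Category.comp_id _)
      (fun M => mono_baseChange0 g a (pullback.snd a g) (pullback.fst a g) (IsPullback.of_hasPullback a g) hs M) hr
  exact mem_range_of_inRange g F ξ h1 (𝟙 Y) (𝟙 X) (Category.id_comp _) (Category.id_comp _) (by simp)

end Groth.Agent.AcycFin
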