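import Groth.Agent.S3471

/-!
# Schemes over a separably closed field are locally acyclic
-/

set_option autoImplicit false
set_option linter.unusedSectionVars false
set_option linter.style.haveILetI false
set_option backward.isDefEq.respectTransparency false
set_option backward.isDefEq.respectTransparency.types false

universe u

open CategoryTheory CategoryTheory.Limits AlgebraicGeometry IsLocalRing TensorProduct

noncomputable section

namespace Groth.Agent.AcycFin

attribute [local instance] EtFound.pull_preservesFiniteLimits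

/-- The spectrum of a local ring is connected. -/
theorem connectedSpace_primeSpectrum (A : Type u) [CommRing A] [IsLocalRing A] : ConnectedSpace (PrimeSpectrum A) := by
  refine connectedSpace_iff_clopen.2 ⟨inferInstance, fun s hs => ?_⟩
  by_cases hc : closedPoint A ∈ s
  · exact Or.inr (Set.eq_univ_of_forall fun p => (IsLocalRing.specializes_closedPoint p).mem_open hs.isOpen hc)
  · refine Or.inl (Set.eq_empty_of_forall_notMem fun p hp => hc ?_)
    exact (IsLocalRing.specializes_closedPoint p).mem_closed hs.isClosed hp

/-- Strictly henselian algebras over a separably closed field stay so after an algebraic field extension. -/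
theorem isAcyclicSchemeN_tensor {K : Type u} [Field K] [IsSepClosed K] (R : Type u) [CommRing R] [Algebra K R]
    [HenselianLocalRing R] [IsSepClosed (ResidueField R)] (Ω : Type u) [Field Ω] [Algebra K Ω]
    [Algebra.IsAlgebraic K Ω] (L : Set ℕ) (n : ℕ) :
    EtAcyc.IsAcyclicSchemeN L n (Spec (CommRingCat.of (R ⊗[K] Ω))) := by
  haveI : IsSepClosed (ResidueField K) := isSepClosed_of_equiv
    (RingEquiv.ofBijective (residue K) ⟨(residue K).injective, residue_surjective⟩)
  haveI : IsLocalHom (algebraMap K R) :=
    ⟨fun a ha => isUnit_iff_ne_zero.2 fun h => not_isUnit_zero (by rwa [h, map_zero] at ha)⟩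
  haveI : Algebra.IsIntegral K Ω := Algebra.IsAlgebraic.isIntegral
  obtain ⟨hloc, -⟩ := WEtLib.isLocalRing_tensor (A := K) (B := R) Ω
  haveI := hloc
  haveI : IsLocalRing (R ⊗[K] Ω) := (Algebra.TensorProduct.comm K Ω R).toRingEquiv.isLocalRing
  haveI : Algebra.IsIntegral R (R ⊗[K] Ω) := inferInstance
  haveI : IsLocalHom (algebraMap R (R ⊗[K] Ω)) := Hensel.isLocalHom_of_isIntegral_local R _
  haveI : HenselianLocalRing (R ⊗[K] Ω) := Hensel.henselianLocalRing_of_isIntegral_local R _
  haveI := (Hensel.residueField_of_isIntegral R (R ⊗[K] Ω)).1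
  refine ⟨inferInstanceAs (Nonempty (PrimeSpectrum (R ⊗[K] Ω))), ?_, fun ℓ _ _ q h1 _ => S0073.result _ _ q h1⟩
  exact connectedSpace_primeSpectrum (R ⊗[K] Ω)

/-- The residue field of a point of the spectrum of a field is algebraic over the field. -/
theorem isAlgebraic_comp {K : Type u} [Field K] (y : Spec (CommRingCat.of K)) (Ω : Type u) [Field Ω]
    [Algebra ((Spec (CommRingCat.of K)).residueField y) Ω]
    [Algebra.IsAlgebraic ((Spec (CommRingCat.of K)).residueField y) Ω] [Algebra K Ω]
    (h : algebraMap K Ω = (algebraMap ((Spec (CommRingCat.of K)).residueField y) Ω).comp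
      (Spec.preimage ((Spec (CommRingCat.of K)).fromSpecResidueField y)).hom) :
    Algebra.IsAlgebraic K Ω := by
  let σ := Spec.preimage ((Spec (CommRingCat.of K)).fromSpecResidueField y)
  letI : Algebra K ((Spec (CommRingCat.of K)).residueField y) := σ.hom.toAlgebra
  haveI : LocallyQuasiFinite (Spec.map σ) := by rw [Spec.map_preimage]; infer_instance
  have hq : σ.hom.QuasiFinite := (HasRingHomProperty.Spec_iff (P := @LocallyQuasiFinite)).1 ‹_›
  haveI : Algebra.QuasiFinite K ((Spec (CommRingCat.of K)).residueField y) := hq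
  haveI : Module.Finite K ((Spec (CommRingCat.of K)).residueField y) := Module.Finite.of_quasiFinite
  haveI : IsScalarTower K ((Spec (CommRingCat.of K)).residueField y) Ω :=
    IsScalarTower.of_algebraMap_eq fun a => RingHom.congr_fun h a
  exact Algebra.IsAlgebraic.trans K ((Spec (CommRingCat.of K)).residueField y) Ω

/-- A strictly henselian algebra over a separably closed field has acyclic geometric fibres. -/
theorem geomFibres_strictLocal_field {K : Type u} [Field K] [IsSepClosed K] (R : Type u) [CommRing R] [Algebra K R]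
    [HenselianLocalRing R] [IsSepClosed (ResidueField R)] (L : Set ℕ) (n : ℕ) :
    EtAcyc.GeomFibresAcyclicN L n (Spec.map (CommRingCat.ofHom (algebraMap K R))) := by
  intro y Ω _ _ _ _
  letI : Algebra K Ω := ((algebraMap ((Spec (CommRingCat.of K)).residueField y) Ω).comp
    (Spec.preimage ((Spec (CommRingCat.of K)).fromSpecResidueField y)).hom).toAlgebra
  haveI := isAlgebraic_comp y Ω (RingHom.algebraMap_toAlgebra _)
  have e : EtAcyc.geomPt (Spec (CommRingCat.of K)) y Ω = Spec.map (CommRingCat.ofHom (algebraMap K Ω)) := by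
    rw [RingHom.algebraMap_toAlgebra, CommRingCat.ofHom_comp, CommRingCat.ofHom_hom, Spec.map_comp, Spec.map_preimage]
  exact isAcyclicSchemeN_of_iso ((pullback.congrHom rfl e).hom ≫ (pullbackSpecIso K R Ω).hom)
    (isAcyclicSchemeN_tensor R Ω L n)

/-- Every scheme over a separably closed field has surjective strict localizations with acyclic geometric fibres. -/
theorem onStrict_geomFibres_field {P : Scheme.{u}} (K : Type u) [Field K] [IsSepClosed K]
    (f : P ⟶ Spec (CommRingCat.of K)) (L : Set ℕ) (n : ℕ) :
    EtAcyc.OnStrictLocalizations f (fun _ _ h => EtAcyc.GeomFibresAcyclicN L n h) := by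
  intro x RS RX _ _ _ _ _ _ _ _ _ _ _ _ _
  haveI : IsSepClosed (ResidueField K) := isSepClosed_of_equiv
    (RingEquiv.ofBijective (residue K) ⟨(residue K).injective, residue_surjective⟩)
  let S := Spec (CommRingCat.of K)
  haveI := S0754.result S (f x) RS
  let t := Spec.preimage (Hens2.specOf S (f x) RS)
  letI : Algebra K RS := t.hom.toAlgebra
  haveI : WeaklyEtale (Spec.map t) := by rw [Spec.map_preimage]; infer_instance
  haveI : Algebra.WeaklyEtale K RS := (WEtLib.weaklyEtale_Spec_iff t).1 ‹_›
  haveI : IsLocalHom (algebraMap K RS) :=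
    ⟨fun a ha => isUnit_iff_ne_zero.2 fun h => not_isUnit_zero (by rwa [h, map_zero] at ha)⟩
  have hb := WEtLib.bijective_algebraMap (A := K) (B := RS)
  letI : Field RS := ((RingEquiv.ofBijective (algebraMap K RS) hb).symm.toMulEquiv.isField (Field.toIsField K)).toField
  haveI : IsSepClosed RS := isSepClosed_of_equiv (RingEquiv.ofBijective (algebraMap K RS) hb)
  haveI : HenselianLocalRing RX := _root_.Hensel.IsStrictHenselization.henselian (R := P.presheaf.stalk x)
  haveI : IsSepClosed (ResidueField RX) := BcQCalc.isSepClosed_residueField_of_strict (P.presheaf.stalk x) RX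
  exact geomFibres_strictLocal_field RX L n

/-- Over a separably closed field acyclic fibres give acyclicity. -/
theorem isAcyclicN_over_sepClosed {P : Scheme.{u}} (K : Type u) [Field K] [IsSepClosed K]
    (f : P ⟶ Spec (CommRingCat.of K)) [QuasiCompact f] [QuasiSeparated f] (L : Set ℕ) (hL : ∃ ℓ ∈ L, ℓ.Prime) (n : ℕ)
    (hfib : EtAcyc.GeomFibresAcyclicN L n f) : EtAcyc.IsAcyclicN f L n := by
  rcases Nat.eq_zero_or_pos n with rfl | hn
  · refine S3471.isAcyclicN_zero f L ?_ hfib
    intro x RY RX _ _ _ _ _ _ _ _ _ _ _ _ hc
    exact S3470.surjective_of_geomFibres _ L 0 (onStrict_geomFibres_field K f L 0 x RY RX hc)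
  · exact (S3470.result f L hL n hn ((S3471.result f L hL (n - 1)).2 (onStrict_geomFibres_field K f L (n - 1)))).2 hfib

end Groth.Agent.AcycFin
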