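import Groth.Agent.AcycFin.LimitLocal
import Groth.Agent.SymSh.SubAlg
import Mathlib.AlgebraicGeometry.Morphisms.Finite
import Mathlib.CategoryTheory.Limits.Types.Filtered

/-!
# An integral scheme over a quasi-compact quasi-separated scheme is a limit of finite ones
-/

set_option autoImplicit false
set_option linter.style.haveILetI false
set_option backward.isDefEq.respectTransparency false
set_option backward.isDefEq.respectTransparency.types false

universe u

open CategoryTheory CategoryTheory.Limits AlgebraicGeometry Opposite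

noncomputable section

namespace Groth.Agent.AcycFin

open Groth.Agent

namespace IntLim

variable {S : Scheme.{u}} (B : RelSpec.QCAlg S)

/-- Submodules of finite type. -/
abbrev Idx : Type u := {N : QCoh.SubMod B.toModule // QCoh.FTOn N ⊤}

instance : Preorder (Idx B) := Preorder.lift fun N O => N.1.mem O

theorem isDirected : IsDirected (Idx B) (· ≤ ·) := ⟨fun N N' => by
  let F : ULift.{u} Bool → QCoh.SubMod B.toModule := fun b => cond b.down N.1 N'.1
  refine ⟨⟨QCoh.sumSub F, QCoh.ftOn_sumSub F fun b => ?_⟩, fun O => QCoh.le_sumSub F ⟨true⟩ O,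
    fun O => QCoh.le_sumSub F ⟨false⟩ O⟩
  rcases b with ⟨_ | _⟩
  · exact N'.2
  · exact N.2⟩

theorem nonempty : Nonempty (Idx B) :=
  ⟨⟨QCoh.sumSub (fun e : PEmpty.{u + 1} => e.elim), QCoh.ftOn_sumSub _ fun e => e.elim⟩⟩

theorem ofHom_inclusion_comp {R : Type u} [CommRing R] {a b c : Subring R} (h : a ≤ b) (h' : b ≤ c) :
    CommRingCat.ofHom (Subring.inclusion h) ≫ CommRingCat.ofHom (Subring.inclusion h') =
      CommRingCat.ofHom (Subring.inclusion (h.trans h')) := rfl

theorem ofHom_inclusion_subtype {R : CommRingCat.{u}} {a b : Subring R} (h : a ≤ b) :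
    CommRingCat.ofHom (Subring.inclusion h) ≫ (CommRingCat.ofHom b.subtype : CommRingCat.of b ⟶ R) =
      (CommRingCat.ofHom a.subtype : CommRingCat.of a ⟶ R) := rfl

theorem ofHom_inclusion_refl {R : Type u} [CommRing R] (a : Subring R) :
    CommRingCat.ofHom (Subring.inclusion (le_refl a)) = 𝟙 (CommRingCat.of a) := rfl

theorem genRing_mono {N N' : Idx B} (h : N ≤ N') (U : S.Opens) :
    QCoh.genRing B N.1 U ≤ QCoh.genRing B N'.1 U :=
  Subring.closure_mono (Set.union_subset_union_right _ fun _ hx => h U hx)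

/-- The inclusions of the generated algebras. -/
def incl {N N' : Idx B} (h : N ≤ N') : SymSh.genF B N.1 ⟶ SymSh.genF B N'.1 where
  app U := CommRingCat.ofHom (Subring.inclusion (genRing_mono B h U.unop.1))
  naturality U V i := rfl

/-- The inclusion in the whole algebra. -/
def inclTop (N : Idx B) : SymSh.genF B N.1 ⟶ (Scheme.AffineZariskiSite.toOpensFunctor S).op ⋙ B.presheaf where
  app U := CommRingCat.ofHom (QCoh.genRing B N.1 U.unop.1).subtype
  naturality U V i := rfl

/-- The gluing datum of a generated algebra. -/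
def gl (N : Idx B) : (Scheme.AffineZariskiSite.directedCover S).RelativeGluingData :=
  Scheme.AffineZariskiSite.relativeGluingData (SymSh.gen_coequifibered B N.1 N.2)

instance (N : Idx B) : ((gl B N).functor ⋙ Scheme.forget).IsLocallyDirected :=
  Scheme.Cover.RelativeGluingData.instIsLocallyDirectedI₀CompFunctorForgetOfIsThin ..

/-- The charts. -/
def ch (N : Idx B) (U : S.AffineZariskiSite) : Spec ((SymSh.genF B N.1).obj (op U)) ⟶ (gl B N).glued :=
  colimit.ι (gl B N).functor U

theorem gl_hom_ext {N : Idx B} {Z : Scheme.{u}} {a b : (gl B N).glued ⟶ Z}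
    (h : ∀ U : S.AffineZariskiSite, ch B N U ≫ a = ch B N U ≫ b) : a = b := colimit.hom_ext h

theorem spec_hom_ext' {Z : Scheme.{u}} {a b : B.spec ⟶ Z}
    (h : ∀ U : S.AffineZariskiSite, B.ι U.1 U.2 ≫ a = B.ι U.1 U.2 ≫ b) : a = b := colimit.hom_ext h

theorem ch_toBase (N : Idx B) (U : S.AffineZariskiSite) :
    ch B N U ≫ (gl B N).toBase = (Spec.map ((SymSh.genα B N.1).app (op U)) ≫ U.2.isoSpec.inv) ≫ U.1.ι :=
  (gl B N).ι_toBase U

/-- The transition morphisms. -/
def trans {N N' : Idx B} (h : N ≤ N') : (gl B N').glued ⟶ (gl B N).glued :=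
  colimMap (Functor.whiskerRight (NatTrans.rightOp (incl B h)) Scheme.Spec)

theorem ch_trans {N N' : Idx B} (h : N ≤ N') (U : S.AffineZariskiSite) :
    ch B N' U ≫ trans B h = Spec.map ((incl B h).app (op U)) ≫ ch B N U := ι_colimMap _ U

theorem incl_comp {L M N : Idx B} (h : L ≤ M) (h' : M ≤ N) (U : S.AffineZariskiSite) :
    (incl B h).app (op U) ≫ (incl B h').app (op U) = (incl B (h.trans h')).app (op U) :=
  ofHom_inclusion_comp (genRing_mono B h U.1) (genRing_mono B h' U.1)

theorem incl_refl (N : Idx B) (U : S.AffineZariskiSite) : (incl B (le_refl N)).app (op U) = 𝟙 _ :=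
  ofHom_inclusion_refl (QCoh.genRing B N.1 U.1)

theorem genα_incl {N N' : Idx B} (h : N ≤ N') (U : S.AffineZariskiSite) :
    (SymSh.genα B N.1).app (op U) ≫ (incl B h).app (op U) = (SymSh.genα B N'.1).app (op U) := rfl

theorem incl_inclTop {N N' : Idx B} (h : N ≤ N') (U : S.AffineZariskiSite) :
    (incl B h).app (op U) ≫ (inclTop B N').app (op U) = (inclTop B N).app (op U) :=
  ofHom_inclusion_subtype (genRing_mono B h U.1)

theorem genα_inclTop (N : Idx B) (U : S.AffineZariskiSite) :
    (SymSh.genα B N.1).app (op U) ≫ (inclTop B N).app (op U) = B.str.app (op U.1) := rfl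

theorem trans_refl (N : Idx B) : trans B (le_refl N) = 𝟙 _ := gl_hom_ext B fun U => by
  rw [ch_trans, Category.comp_id]
  rw [show (incl B (le_refl N)).app (op U) = 𝟙 _ from rfl, Spec.map_id, Category.id_comp]

theorem trans_trans {L M N : Idx B} (h : L ≤ M) (h' : M ≤ N) :
    trans B h' ≫ trans B h = trans B (h.trans h') := gl_hom_ext B fun U => by
  rw [← Category.assoc, ch_trans, Category.assoc, ch_trans, ← Category.assoc, ← Spec.map_comp, incl_comp, ch_trans]

theorem trans_toBase {N N' : Idx B} (h : N ≤ N') : trans B h ≫ (gl B N).toBase = (gl B N').toBase :=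
  gl_hom_ext B fun U => by
    rw [← Category.assoc, ch_trans, Category.assoc, ch_toBase, ch_toBase, ← Category.assoc, ← Category.assoc,
      ← Spec.map_comp, genα_incl]

/-- The relative spectra of the generated algebras. -/
def sys : (Idx B)ᵒᵖ ⥤ Scheme.{u} where
  obj N := (gl B N.unop).glued
  map h := trans B (leOfHom h.unop)
  map_id N := trans_refl B N.unop
  map_comp g h := (trans_trans B (leOfHom h.unop) (leOfHom g.unop)).symm

/-- The structure maps. -/
def str : sys B ⟶ (Functor.const (Idx B)ᵒᵖ).obj S where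
  app N := (gl B N.unop).toBase
  naturality N M h := (trans_toBase B (leOfHom h.unop)).trans (Category.comp_id _).symm

/-- The map of the relative spectrum to a generated one. -/
def proj (N : Idx B) : B.spec ⟶ (gl B N).glued :=
  colimMap (Functor.whiskerRight (NatTrans.rightOp (inclTop B N)) Scheme.Spec)

theorem ι_proj (N : Idx B) (U : S.AffineZariskiSite) :
    B.ι U.1 U.2 ≫ proj B N = Spec.map ((inclTop B N).app (op U)) ≫ ch B N U :=
  ι_colimMap _ U

theorem proj_trans {N N' : Idx B} (h : N ≤ N') : proj B N' ≫ trans B h = proj B N :=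
  spec_hom_ext' B fun U => by
    rw [← Category.assoc, ι_proj, Category.assoc, ch_trans, ← Category.assoc, ← Spec.map_comp, incl_inclTop, ι_proj]

theorem proj_toBase (N : Idx B) : proj B N ≫ (gl B N).toBase = B.π :=
  spec_hom_ext' B fun U => by
    rw [← Category.assoc, ι_proj, Category.assoc, ch_toBase, B.ι_π U.1 U.2, ← U.2.isoSpec_inv_ι,
      ← Category.assoc, ← Category.assoc, ← Spec.map_comp, genα_inclTop, Category.assoc]

/-- The cone. -/
def cone : Cone (sys B) where
  pt := B.spec
  π :=
    { app := fun N => proj B N.unop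
      naturality := fun N M h => (Category.id_comp _).trans (proj_trans B (leOfHom h.unop)).symm }

theorem proj_str (N : (Idx B)ᵒᵖ) : (cone B).π.app N ≫ (str B).app N = B.π := proj_toBase B N.unop

theorem finiteType_gen (N : Idx B) (U : S.AffineZariskiSite) :
    ((SymSh.genα B N.1).app (op U)).hom.FiniteType := by
  obtain ⟨V, hV⟩ := U
  haveI : Module.Finite Γ(S, V) Γ(N.1.toModules, V) :=
    QCoh.finite_of_isFT (QCoh.isQCoh_of_ftOn (QCoh.isQCoh_toModule B) N.2)
      (QCoh.isFT_of_ftOn (QCoh.isQCoh_toModule B) N.2) hV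
  classical
  obtain ⟨s, hs⟩ := Module.Finite.fg_top (R := Γ(S, V)) (M := Γ(N.1.toModules, V))
  let g : Γ(N.1.toModules, V) → QCoh.genRing B N.1 V := fun t =>
    ⟨N.1.ι.app V t, Subring.subset_closure (Or.inr (N.1.ι_app_mem V t))⟩
  let strV := (B.str.app (op V)).hom.codRestrict (QCoh.genRing B N.1 V) fun a => QCoh.str_mem_genRing B N.1 a
  letI : Algebra Γ(S, V) (QCoh.genRing B N.1 V) := strV.toAlgebra
  show strV.FiniteType
  refine RingHom.finiteType_algebraMap.2 ⟨⟨s.image g, ?_⟩⟩
  refine eq_top_iff.2 fun b _ => ?_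
  obtain ⟨b, hb⟩ := b
  induction hb using Subring.closure_induction with
  | mem x hx =>
    rcases hx with ⟨a, rfl⟩ | hx
    · exact Subalgebra.algebraMap_mem (Algebra.adjoin _ _) a
    · obtain ⟨t, ht⟩ := N.1.exists_app_eq hx
      have htm : t ∈ Submodule.span Γ(S, V) (s : Set Γ(N.1.toModules, V)) := hs ▸ trivial
      suffices h : g t ∈ Algebra.adjoin Γ(S, V) (s.image g : Set (QCoh.genRing B N.1 V)) by
        convert h using 1
        exact Subtype.ext ht.symm
      clear ht
      induction htm using Submodule.span_induction with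
      | mem y hy => exact Algebra.subset_adjoin (by simpa using ⟨y, hy, rfl⟩)
      | zero =>
        rw [show g 0 = 0 from Subtype.ext (map_zero _)]; exact zero_mem _
      | add p q _ _ hp hq =>
        rw [show g (p + q) = g p + g q from Subtype.ext (map_add _ _ _)]; exact add_mem hp hq
      | smul c y _ hy =>
        rw [show g (c • y) = strV c * g y from Subtype.ext (QCoh.ι_app_smul c y)]
        exact mul_mem (Subalgebra.algebraMap_mem (Algebra.adjoin _ _) c) hy
  | zero => exact zero_mem _
  | one => exact one_mem _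
  | add x y hx hy ihx ihy => exact add_mem (ihx trivial) (ihy trivial)
  | neg x hx ihx => exact neg_mem (ihx trivial)
  | mul x y hx hy ihx ihy => exact mul_mem (ihx trivial) (ihy trivial)

theorem isPullback_ch (N : Idx B) (U : S.AffineZariskiSite) :
    IsPullback (ch B N U) (Spec.map ((SymSh.genα B N.1).app (op U)) ≫ U.2.isoSpec.inv) (gl B N).toBase U.1.ι :=
  ((gl B N).isPullback_natTrans_ι_toBase U).flip

theorem isAffineHom_str (N : (Idx B)ᵒᵖ) : IsAffineHom ((str B).app N) := by
  refine (IsZariskiLocalAtTarget.iff_of_openCover (P := @IsAffineHom)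
    (Scheme.AffineZariskiSite.directedCover S)).2 fun U => ?_
  haveI : IsAffine U.1.toScheme := U.2
  show IsAffineHom (pullback.snd (gl B N.unop).toBase U.1.ι)
  rw [← (isPullback_ch B N.unop U).isoPullback_inv_snd]
  have h1 : IsAffineHom (Spec.map ((SymSh.genα B N.unop.1).app (op U)) ≫ U.2.isoSpec.inv) :=
    isAffineHom_of_isAffine _
  exact MorphismProperty.comp_mem _ _ _ (inferInstance : IsAffineHom (isPullback_ch B N.unop U).isoPullback.inv) h1

theorem isIntegral_gen (hB : ∀ U : S.AffineZariskiSite, (B.str.app (op U.1)).hom.IsIntegral) (N : Idx B)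
    (U : S.AffineZariskiSite) : ((SymSh.genα B N.1).app (op U)).hom.IsIntegral := fun x => by
  obtain ⟨p, hp, hpx⟩ := hB U ((QCoh.genRing B N.1 U.1).subtype x)
  refine ⟨p, hp, (QCoh.genRing B N.1 U.1).subtype_injective ?_⟩
  erw [Polynomial.hom_eval₂]
  exact hpx.trans (map_zero _).symm

theorem isFinite_str (hB : ∀ U : S.AffineZariskiSite, (B.str.app (op U.1)).hom.IsIntegral) (N : (Idx B)ᵒᵖ) :
    IsFinite ((str B).app N) := by
  refine (IsZariskiLocalAtTarget.iff_of_openCover (P := @IsFinite)
    (Scheme.AffineZariskiSite.directedCover S)).2 fun U => ?_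
  show IsFinite (pullback.snd (gl B N.unop).toBase U.1.ι)
  rw [← (isPullback_ch B N.unop U).isoPullback_inv_snd]
  have h1 : IsFinite (Spec.map ((SymSh.genα B N.unop.1).app (op U)) ≫ U.2.isoSpec.inv) :=
    MorphismProperty.comp_mem _ _ _
      ((IsFinite.SpecMap_iff _).2 (RingHom.IsIntegral.to_finite (isIntegral_gen B hB N.unop U) (finiteType_gen B N.unop U)))
      (inferInstance : IsFinite U.2.isoSpec.inv)
  exact MorphismProperty.comp_mem _ _ _ (inferInstance : IsFinite (isPullback_ch B N.unop U).isoPullback.inv) h1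

variable [CompactSpace S] [QuasiSeparatedSpace S]

/-- The rings on an affine open. -/
def rings (U : S.AffineZariskiSite) : Idx B ⥤ CommRingCat.{u} where
  obj N := (SymSh.genF B N.1).obj (op U)
  map h := (incl B (leOfHom h)).app (op U)
  map_id N := incl_refl B N U
  map_comp g h := (incl_comp B (leOfHom g) (leOfHom h) U).symm

/-- The cocone of rings on an affine open. -/
def ringCocone (U : S.AffineZariskiSite) : Cocone (rings B U) where
  pt := B.presheaf.obj (op U.1)
  ι :=
    { app := fun N => (inclTop B N).app (op U)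
      naturality := fun N M h => (incl_inclTop B (leOfHom h) U).trans (Category.comp_id _).symm }

/-- It is a colimit. -/
def isColimitRingCocone (U : S.AffineZariskiSite) : IsColimit (ringCocone B U) := by
  haveI := isDirected B
  haveI := nonempty B
  haveI : IsFiltered (Idx B) := inferInstance
  haveI : ReflectsColimit (rings B U) (forget CommRingCat.{u}) := reflectsColimit_of_reflectsIsomorphisms _ _
  refine isColimitOfReflects (forget CommRingCat.{u}) ?_
  refine Types.FilteredColimit.isColimitOf' _ _ (fun z => ?_) fun N x y h => ⟨N, 𝟙 N, ?_⟩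
  · obtain ⟨N, hN, hz⟩ := QCoh.exists_ftOn_contains (G := B.toModule) (QCoh.isQCoh_toModule B) U.2
      (QCoh.extStep_qcqs U.2.isCompact) {z} (Set.finite_singleton _)
    exact ⟨⟨N, hN⟩, ⟨z, Subring.subset_closure (Or.inr (hz rfl))⟩, rfl⟩
  · exact congrArg _ ((QCoh.genRing B N.1 U.1).subtype_injective h)

theorem isLimit_cone : Nonempty (IsLimit (cone B)) := by
  haveI := isDirected B
  haveI := nonempty B
  haveI := isAffineHom_str B
  refine isLimit_of_affine_locally (str B) (cone B) B.π (proj_str B) fun U₀ => ?_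
  let U : S.AffineZariskiSite := ⟨U₀.1, U₀.2⟩
  have hl := isLimitOfPreserves Scheme.Spec (isColimitRingCocone B U).op
  let e : ∀ N : (Idx B)ᵒᵖ, Spec ((SymSh.genF B N.unop.1).obj (op U)) ≅ pullback ((str B).app N) U.1.ι :=
    fun N => (isPullback_ch B N.unop U).isoPullback
  have he : ∀ N : (Idx B)ᵒᵖ, (e N).hom ≫ pullback.fst ((str B).app N) U.1.ι = ch B N.unop U := fun N =>
    (isPullback_ch B N.unop U).isoPullback_hom_fst
  have he' : ∀ N : (Idx B)ᵒᵖ, (e N).hom ≫ pullback.snd ((str B).app N) U.1.ι =
      Spec.map ((SymSh.genα B N.unop.1).app (op U)) ≫ U.2.isoSpec.inv := fun N =>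
    (isPullback_ch B N.unop U).isoPullback_hom_snd
  let α := NatIso.ofComponents (F := (rings B U).op ⋙ Scheme.Spec) (G := pbSys U.1.ι (str B)) e fun {N M} h => by
    have hle : M.unop ≤ N.unop := leOfHom h.unop
    refine pullback.hom_ext ?_ ?_
    · refine ((Category.assoc _ _ _).trans ((congrArg (_ ≫ ·) (he M)).trans ?_)).trans (Category.assoc _ _ _).symm
      refine Eq.trans ?_ (congrArg (_ ≫ ·) (pullback.lift_fst _ _ _)).symm
      refine Eq.trans ?_ ((congrArg (· ≫ _) (he N)).symm.trans (Category.assoc _ _ _))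
      exact (ch_trans B hle U).symm
    · refine ((Category.assoc _ _ _).trans ((congrArg (_ ≫ ·) (he' M)).trans ?_)).trans (Category.assoc _ _ _).symm
      refine Eq.trans ?_ (congrArg (_ ≫ ·) (pullback.lift_snd _ _ _)).symm
      refine Eq.trans ?_ (he' N).symm
      refine (Category.assoc _ _ _).symm.trans (congrArg (· ≫ U.2.isoSpec.inv) ?_)
      exact (Spec.map_comp _ _).symm.trans (congrArg Spec.map (genα_incl B hle U))
  have sq : IsPullback (B.ι U.1 U.2) (Spec.map (B.str.app (op U.1)) ≫ U.2.isoSpec.inv) B.π U.1.ι :=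
    (B.glueData.isPullback_natTrans_ι_toBase U).flip
  refine ⟨IsLimit.ofIsoLimit ((IsLimit.postcomposeHomEquiv α _).symm hl)
    (Cone.ext sq.isoPullback fun N => ?_)⟩
  refine pullback.hom_ext ?_ ?_
  · refine ((Category.assoc _ _ _).trans ((congrArg (_ ≫ ·) (he N)).trans ?_)).trans (Category.assoc _ _ _).symm
    refine Eq.trans ?_ (congrArg (_ ≫ ·) (pbCone_fst U.1.ι (str B) (cone B) B.π (proj_str B) N)).symm
    refine Eq.trans ?_ ((congrArg (· ≫ _) sq.isoPullback_hom_fst).symm.trans (Category.assoc _ _ _))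
    exact (ι_proj B N.unop U).symm
  · refine ((Category.assoc _ _ _).trans ((congrArg (_ ≫ ·) (he' N)).trans ?_)).trans (Category.assoc _ _ _).symm
    refine Eq.trans ?_ (congrArg (_ ≫ ·) (pullback.lift_snd _ _ _)).symm
    refine Eq.trans ?_ sq.isoPullback_hom_snd.symm
    refine (Category.assoc _ _ _).symm.trans (congrArg (· ≫ U.2.isoSpec.inv) ?_)
    exact (Spec.map_comp _ _).symm.trans (congrArg Spec.map (genα_inclTop B N.unop U))

end IntLim

section

variable {T S : Scheme.{u}} (f : T ⟶ S) [IsAffineHom f]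

/-- The relative spectrum of the direct image algebra of an affine morphism. -/
def fromSpecDirectImage : (RelSpec.QCAlg.directImage f).spec ⟶ T :=
  colimit.desc _
    { pt := T
      ι :=
        { app := fun U => (U.2.preimage f).fromSpec
          naturality := fun U V i => by
            refine Eq.trans ?_ (Category.comp_id _).symm
            exact (V.2.preimage f).map_fromSpec (U.2.preimage f) _ } }

theorem ι_fromSpecDirectImage (U : S.AffineZariskiSite) :
    (RelSpec.QCAlg.directImage f).ι U.1 U.2 ≫ fromSpecDirectImage f = (U.2.preimage f).fromSpec :=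
  colimit.ι_desc _ U

theorem fromSpecDirectImage_comp : fromSpecDirectImage f ≫ f = (RelSpec.QCAlg.directImage f).π := by
  refine IntLim.spec_hom_ext' _ fun U => ?_
  rw [← Category.assoc, ι_fromSpecDirectImage, RelSpec.QCAlg.ι_π]
  rw [← IsAffineOpen.SpecMap_appLE_fromSpec f U.2 (U.2.preimage f) le_rfl]
  refine congrArg (fun φ => Spec.map φ ≫ U.2.fromSpec) ?_
  exact (Scheme.Hom.app_eq_appLE (f := f) (U := U.1)).symm

theorem isIso_fromSpecDirectImage : IsIso (fromSpecDirectImage f) := by
  let B := RelSpec.QCAlg.directImage f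
  let cov := T.openCoverOfIsOpenCover (fun U : S.AffineZariskiSite => f ⁻¹ᵁ U.1)
    (TopologicalSpace.IsOpenCover.comap (iSup_affineOpens_eq_top S) f.base.1)
  refine (IsZariskiLocalAtTarget.iff_of_openCover (P := MorphismProperty.isomorphisms Scheme.{u}) cov).2
    fun U => ?_
  let W := f ⁻¹ᵁ U.1
  let k : W.toScheme ⟶ B.spec := (U.2.preimage f).isoSpec.hom ≫ B.ι U.1 U.2
  have hk : k ≫ fromSpecDirectImage f = W.ι := by
    rw [Category.assoc, ι_fromSpecDirectImage, ← IsAffineOpen.isoSpec_inv_ι, Iso.hom_inv_id_assoc]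
  have sq : IsPullback (𝟙 W.toScheme) k W.ι (fromSpecDirectImage f) := by
    refine IsOpenImmersion.isPullback _ _ _ _ ?_ ?_
    · rw [hk, Category.id_comp]
    · rw [Scheme.Opens.opensRange_ι]
      have h1 : k.opensRange = B.π ⁻¹ᵁ U.1 := by
        rw [B.π_preimage U.1 U.2, Scheme.Hom.opensRange_comp_of_isIso]
      rw [h1, ← fromSpecDirectImage_comp]
      rfl
  show IsIso (pullback.snd (fromSpecDirectImage f) W.ι)
  rw [← sq.flip.isoPullback_inv_snd]
  infer_instance

end

/-- An integral scheme over a quasi-compact quasi-separated scheme is a limit of finite ones. -/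
theorem exists_finite_limit_qcqs {T S : Scheme.{u}} [CompactSpace S] [QuasiSeparatedSpace S] (f : T ⟶ S)
    [IsIntegralHom f] :
    ∃ (ι : Type u) (_ : Preorder ι) (_ : IsDirected ι (· ≤ ·)) (_ : Nonempty ι) (Xs : ιᵒᵖ ⥤ Scheme.{u})
      (c : Cone Xs) (_ : IsLimit c) (e : c.pt ≅ T) (t : Xs ⟶ (Functor.const ιᵒᵖ).obj S),
      (∀ a, IsFinite (t.app a)) ∧ ∀ a, c.π.app a ≫ t.app a = e.hom ≫ f := by
  let B := RelSpec.QCAlg.directImage f
  haveI := isIso_fromSpecDirectImage f
  obtain ⟨hl⟩ := IntLim.isLimit_cone B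
  refine ⟨_, inferInstance, IntLim.isDirected B, IntLim.nonempty B, _, IntLim.cone B, hl,
    asIso (fromSpecDirectImage f), IntLim.str B,
    IntLim.isFinite_str B fun U => IsIntegralHom.isIntegral_app f U.1 U.2, fun a => ?_⟩
  exact (IntLim.proj_str B a).trans (fromSpecDirectImage_comp f).symm

end Groth.Agent.AcycFin
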