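import Groth.Agent.AcycFin.Compare
import Groth.Agent.AcycFin.ConstPull
import Groth.Agent.AcycFin.PbSys
import Groth.Agent.AcycFin.IntegralLim
import Groth.Agent.S0646

/-!
# Constant coefficients on integral schemes from finite ones
-/

set_option autoImplicit false
set_option linter.unusedSectionVars false
set_option linter.style.haveILetI false
set_option backward.isDefEq.respectTransparency false
set_option backward.isDefEq.respectTransparency.types false

universe u

open CategoryTheory CategoryTheory.Limits AlgebraicGeometry Opposite Abelian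

noncomputable section

namespace Groth.Agent.AcycFin

section Limit

variable {X W : Scheme.{u}} (g : X ⟶ W) {ι : Type u} [Preorder ι] {Xs : ιᵒᵖ ⥤ Scheme.{u}}
  (t : Xs ⟶ (Functor.const ιᵒᵖ).obj W)

variable (c : Cone Xs) (π : c.pt ⟶ W) (hπ : ∀ a, c.π.app a ≫ t.app a = π)

include hπ in
theorem surjective_limit [IsDirected ι (· ≤ ·)] [Nonempty ι] (hc : IsLimit c) [QuasiCompact g] [QuasiSeparated g]
    [∀ ⦃a b : ιᵒᵖ⦄ (h : a ⟶ b), IsAffineHom (Xs.map h)] [∀ a, CompactSpace (Xs.obj a)]
    [∀ a, QuasiSeparatedSpace (Xs.obj a)] (M : Type) [AddCommGroup M] (q : ℕ)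
    [PreservesFiniteLimits (EtCoh.pull (pullback.fst π g))]
    (h : ∀ a, ∀ [PreservesFiniteLimits (EtCoh.pull (pullback.fst (t.app a) g))],
      Function.Surjective (EtCore.Hpull (pullback.fst (t.app a) g) (EtCoh.const (Xs.obj a) M) q)) :
    Function.Surjective (EtCore.Hpull (pullback.fst π g) (EtCoh.const c.pt M) q) := by
  obtain ⟨i₀⟩ := ‹Nonempty ι›
  let c' := pbCone g t c π hπ
  haveI := fun a => EtFound.pull_preservesFiniteLimits (pullback.fst (t.app a) g)
  haveI := fun a => EtFound.pull_preservesFiniteLimits (c.π.app a)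
  haveI := fun a => EtFound.pull_preservesFiniteLimits (c'.π.app a)
  haveI : ∀ ⦃a b : ιᵒᵖ⦄ (h : a ⟶ b), PreservesFiniteLimits (EtCoh.pull ((pbSys g t).map h)) :=
    fun a b h => EtFound.pull_preservesFiniteLimits _
  have haff : ∀ ⦃a b : ιᵒᵖ⦄ (h : a ⟶ b), IsAffineHom ((pbSys g t).map h) := fun a b h =>
    MorphismProperty.of_isPullback (P := @IsAffineHom) (isPullback_pbSys g t h).flip inferInstance
  refine (Kc_surjective_iff _ M q).2 fun z => ?_
  obtain ⟨j, hj, ξj, hξj⟩ := (S0646.result (pbSys g t) haff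
    (fun a => QuasiCompact.compactSpace_of_compactSpace (pullback.fst (t.app a) g))
    (fun a => quasiSeparatedSpace_of_quasiSeparated (pullback.fst (t.app a) g))
    c' (isLimitPbCone g t c π hπ hc) i₀ (EtCoh.const _ M) q).1
    (z.comp (Ext.mk₀ (EtCore.pullConst (c'.π.app (op i₀)) M).inv) (add_zero q))
  have hz := congrArg (fun r => Ext.comp r (Ext.mk₀ (EtCore.pullConst (c'.π.app (op i₀)) M).hom) (add_zero q)) hξj
  simp only [Ext.comp_assoc_of_third_deg_zero, Ext.mk₀_comp_mk₀, Iso.inv_hom_id, Ext.comp_mk₀_id] at hz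
  rw [Kc_HpullVia] at hz
  obtain ⟨y, hy⟩ := (Kc_surjective_iff _ M q).1 (h (op j))
    (ξj.comp (Ext.mk₀ (EtCore.pullConst ((pbSys g t).map (homOfLE hj).op) M).hom) (add_zero q))
  haveI := EtFound.pull_preservesFiniteLimits (pullback.fst π g ≫ c.π.app (op j))
  refine ⟨Kc (c.π.app (op j)) M q y, ?_⟩
  rw [Kc_comp (pullback.fst π g) (c.π.app (op j)) _ rfl]
  refine Eq.trans ?_ hz
  refine (Kc_comp (c'.π.app (op j)) (pullback.fst (t.app (op j)) g) _ (pbCone_fst g t c π hπ (op j)) M q y).symm.trans ?_
  exact congrArg (Kc (c'.π.app (op j)) M q) hy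

end Limit

/-- Constant coefficients on integral schemes over a quasi-compact quasi-separated base, from finite ones. -/
theorem intConstSurj_of_finite {X W : Scheme.{u}} (g : X ⟶ W) [CompactSpace W] [QuasiSeparatedSpace W] [QuasiCompact g] [QuasiSeparated g]
    (L : Set ℕ) (n : ℕ)
    (hfin : ∀ (Y' : Scheme.{u}) (p : Y' ⟶ W) [IsFinite p] (ℓ : ℕ), ℓ.Prime → ℓ ∈ L → ∀ (ν : ℕ), 1 ≤ ν →
      ∀ [PreservesFiniteLimits (EtCoh.pull (pullback.fst p g))] (q : ℕ), q ≤ n →
        Function.Surjective (EtCore.Hpull (pullback.fst p g) (EtCoh.const Y' (ZMod (ℓ ^ ν))) q)) :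
    IntConstSurj g L n := by
  intro Y π hπint M _ _ m hm hkill _ q hq
  classical
  obtain ⟨κ, hκ, p, hp, e, ⟨eq⟩⟩ := AddCommGroup.equiv_directSum_zmod_of_finite M
  let D := fun i : κ => ZMod (p i ^ e i)
  refine surjective_of_decomp (pullback.fst π g) (N := D)
    (fun i => (DFinsupp.evalAddMonoidHom i).comp eq.toAddMonoidHom)
    (fun i => eq.symm.toAddMonoidHom.comp (DirectSum.of D i)) ?_ q fun i z => ?_
  · refine AddMonoidHom.ext fun a => ?_
    rw [AddMonoidHom.finsetSum_apply]
    refine Eq.trans ?_ (eq.symm_apply_apply a)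
    refine Eq.trans ?_ (congrArg eq.symm (DirectSum.sum_univ_of (eq a)))
    rw [map_sum]
    exact Finset.sum_congr rfl fun i _ => rfl
  · by_cases he : e i = 0
    · haveI : Subsingleton (D i) := by
        show Subsingleton (ZMod (p i ^ e i))
        rw [he, pow_zero]
        infer_instance
      have h0 : constHom Y ((DFinsupp.evalAddMonoidHom i).comp eq.toAddMonoidHom : M →+ D i) = 0 := by
        haveI : (constantSheaf Y.smallEtaleTopology AddCommGrpCat.{u + 1}).IsLeftAdjoint := (EtCore.constAdj Y).isLeftAdjoint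
        haveI : (constantSheaf Y.smallEtaleTopology AddCommGrpCat.{u + 1}).PreservesZeroMorphisms := inferInstance
        unfold constHom
        refine (congrArg _ ?_).trans ((constantSheaf Y.smallEtaleTopology AddCommGrpCat.{u + 1}).map_zero _ _)
        exact AddCommGrpCat.hom_ext (AddMonoidHom.ext fun a => ULift.down_injective (Subsingleton.elim _ _))
      haveI : (EtCoh.pull (pullback.fst π g)).IsLeftAdjoint := (EtCoh.pullPushAdj _).isLeftAdjoint
      exact ⟨0, by rw [map_zero, h0, Functor.map_zero, Ext.mk₀_zero, Ext.comp_zero]⟩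
    · have hℓ : p i ∈ L := by
        refine hm.2 (p i) (hp i) ?_
        have h1 : m • (DirectSum.of D i 1 : DirectSum κ D) = 0 := by
          have := congrArg eq (hkill (eq.symm (DirectSum.of D i 1)))
          rwa [map_nsmul, map_zero, eq.apply_symm_apply] at this
        rw [← map_nsmul] at h1
        have h2 : (m • (1 : ZMod (p i ^ e i))) = 0 :=
          DirectSum.of_injective (β := D) i (h1.trans (map_zero _).symm)
        rw [nsmul_one] at h2
        exact (dvd_pow_self (p i) he).trans ((ZMod.natCast_eq_zero_iff _ _).1 h2)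
      obtain ⟨ι, _, _, _, Xs, c, hc, ec, t, hfinX, hcomp⟩ := exists_finite_limit_qcqs π
      let c' := c.extend ec.inv
      have hc' : IsLimit c' := hc.extendIso ec.inv
      haveI : ∀ ⦃a b : ιᵒᵖ⦄ (h : a ⟶ b), IsAffineHom (Xs.map h) := fun a b h => by
        haveI := hfinX a
        haveI := hfinX b
        haveI : IsAffineHom (Xs.map h ≫ t.app b) := by
          rw [(t.naturality h).trans (Category.comp_id _)]
          infer_instance
        exact IsAffineHom.of_comp (Xs.map h) (t.app b)
      haveI : ∀ a, CompactSpace (Xs.obj a) := fun a => by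
        haveI := hfinX a
        haveI : CompactSpace ↥(((Functor.const ιᵒᵖ).obj W).obj a) := ‹CompactSpace W›
        exact QuasiCompact.compactSpace_of_compactSpace (t.app a)
      haveI : ∀ a, QuasiSeparatedSpace (Xs.obj a) := fun a => by
        haveI := hfinX a
        haveI : QuasiSeparatedSpace ↥(((Functor.const ιᵒᵖ).obj W).obj a) := ‹QuasiSeparatedSpace W›
        exact quasiSeparatedSpace_of_quasiSeparated (t.app a)
      have hπ' : ∀ a, c'.π.app a ≫ t.app a = π := fun a => by
        show (ec.inv ≫ c.π.app a) ≫ t.app a = π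
        rw [Category.assoc, hcomp a, Iso.inv_hom_id_assoc]
      refine surjective_limit g t c' π hπ' hc' (D i) q (fun a => ?_) _
      intro _
      haveI := hfinX a
      exact hfin (Xs.obj a) (t.app a) (p i) (hp i) hℓ (e i) (Nat.one_le_iff_ne_zero.2 he) q hq

end Groth.Agent.AcycFin
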