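import Groth.Agent.AcycFin.ConstPull
import Groth.Agent.EtFound.Basic

/-!
# Nonvanishing of global sections of nonzero constant sheaves
-/

set_option autoImplicit false
set_option linter.style.haveILetI false
set_option backward.isDefEq.respectTransparency false
set_option backward.isDefEq.respectTransparency.types false

universe u

open CategoryTheory CategoryTheory.Limits AlgebraicGeometry Opposite Abelian

noncomputable section

namespace Groth.Agent.AcycFin

theorem constHom_eq_zero {X : Scheme.{u}} [Nonempty X] {M N : Type} [AddCommGroup M] [AddCommGroup N] (φ : M →+ N)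
    (h : constHom X φ = 0) : φ = 0 := by
  haveI : (EtCore.gsec X).Additive :=
    inferInstanceAs (sheafToPresheaf X.smallEtaleTopology AddCommGrpCat.{u + 1} ⋙
      (evaluation X.Etaleᵒᵖ AddCommGrpCat.{u + 1}).obj (op (EtCoh.top X))).Additive
  refine AddMonoidHom.ext fun m => ?_
  let φ' : AddCommGrpCat.of (ULift.{u + 1} M) ⟶ AddCommGrpCat.of (ULift.{u + 1} N) := AddCommGrpCat.ofHom
    ((AddEquiv.ulift.symm.toAddMonoidHom.comp φ).comp AddEquiv.ulift.toAddMonoidHom)
  have hn := (EtCore.constAdj X).unit.naturality φ'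
  have h0 : φ' ≫ (EtCore.constAdj X).unit.app (AddCommGrpCat.of (ULift.{u + 1} N)) = 0 := by
    refine hn.trans ?_
    refine Eq.trans ?_ (comp_zero (f := (EtCore.constAdj X).unit.app (AddCommGrpCat.of (ULift.{u + 1} M))))
    refine congrArg ((EtCore.constAdj X).unit.app _ ≫ ·) ?_
    exact (congrArg (EtCore.gsec X).map h).trans (Functor.map_zero _ _ _)
  let P : X.Etaleᵒᵖ ⥤ AddCommGrpCat.{u + 1} := (Functor.const _).obj (AddCommGrpCat.of (ULift.{u + 1} N))
  have h1 : (toSheafify X.smallEtaleTopology P).app (op (EtCoh.top X)) (φ'.hom (ULift.up m)) =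
      (toSheafify X.smallEtaleTopology P).app (op (EtCoh.top X)) 0 :=
    (ConcreteCategory.congr_hom h0 (ULift.up m)).trans (map_zero _).symm
  have hS := Presheaf.equalizerSieve_mem X.smallEtaleTopology (toSheafify X.smallEtaleTopology P) _ _ h1
  obtain ⟨x⟩ := ‹Nonempty X›
  obtain ⟨V, f, v, hf, -⟩ := (EtFound.mem_topology_iff _).1 hS x
  exact congrArg ULift.down hf

/-- The unit section of a nonzero constant sheaf is a nonzero class in degree zero. -/
theorem exists_H0_ne_zero (X : Scheme.{u}) [Nonempty X] (ℓ : ℕ) (hℓ : ℓ.Prime) :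
    ∃ x : EtCoh.H X (EtCoh.const X (ZMod ℓ)) 0, x ≠ 0 := by
  refine ⟨Ext.mk₀ (constHom X (Int.castAddHom (ZMod ℓ))), fun h => ?_⟩
  have h1 := constHom_eq_zero _ ((Ext.mk₀_bijective _ _).1 (h.trans (Ext.mk₀_zero _ _).symm))
  haveI : Fact ℓ.Prime := ⟨hℓ⟩
  exact one_ne_zero ((Int.cast_one (R := ZMod ℓ)).symm.trans (DFunLike.congr_fun h1 1))

end Groth.Agent.AcycFin
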