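import Groth.Agent.AcycFin.Stages
import Groth.Agent.AcycFin.FibreConst
import Groth.Agent.AcycFin.Limit
import Groth.Agent.AcycFin.Transport
import Groth.Agent.AcycFin.Nonzero
import Groth.Agent.LocAcycLib.Main
import Groth.Agent.S0073

/-!
# Geometric fibres of acyclic morphisms
-/

set_option autoImplicit false
set_option linter.unusedSectionVars false
set_option linter.style.haveILetI false
set_option backward.isDefEq.respectTransparency false
set_option backward.isDefEq.respectTransparency.types false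

universe u

open CategoryTheory CategoryTheory.Limits AlgebraicGeometry Opposite Abelian

noncomputable section

namespace Groth.Agent.AcycFin

attribute [local instance] EtFound.pull_preservesFiniteLimits

theorem isSepClosed_of_equiv {K L : Type u} [Field K] [Field L] (e : K ≃+* L) [IsSepClosed K] : IsSepClosed L := by
  refine IsSepClosed.of_exists_root (k := L) fun p hm hi hs => ?_
  have hd : (p.map e.symm.toRingHom).degree ≠ 0 := by
    rw [Polynomial.degree_map_eq_of_injective e.symm.injective]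
    exact (Polynomial.degree_pos_of_irreducible hi).ne'
  obtain ⟨x, hx⟩ := IsSepClosed.exists_root (p.map e.symm.toRingHom) hd hs.map
  refine ⟨e x, ?_⟩
  have h : e.toRingHom ((p.map e.symm.toRingHom).eval x) = 0 := by rw [hx.eq_zero, map_zero]
  rw [Polynomial.eval_map, Polynomial.hom_eval₂] at h
  rw [← h]
  have : e.toRingHom.comp e.symm.toRingHom = RingHom.id L := RingHom.ext e.apply_symm_apply
  rw [this]
  rfl

/-- Positive degree cohomology of a separably closed field vanishes. -/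
theorem subsingleton_H_sepClosed (Ω : Type u) [Field Ω] [IsSepClosed Ω] (F : EtCoh.Ab (Spec (CommRingCat.of Ω)))
    (q : ℕ) (hq : 1 ≤ q) : Subsingleton (EtCoh.H (Spec (CommRingCat.of Ω)) F q) := by
  haveI : IsSepClosed (IsLocalRing.ResidueField Ω) := by
    refine isSepClosed_of_equiv (RingEquiv.ofBijective (IsLocalRing.residue Ω) ⟨?_, IsLocalRing.residue_surjective⟩)
    exact RingHom.injective _
  exact S0073.result Ω F q hq

theorem connectedSpace_specField (Ω : Type u) [Field Ω] : ConnectedSpace (Spec (CommRingCat.of Ω)) := by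
  haveI : Nonempty (Spec (CommRingCat.of Ω)) := inferInstanceAs (Nonempty (PrimeSpectrum Ω))
  haveI : Subsingleton (Spec (CommRingCat.of Ω)) := inferInstanceAs (Subsingleton (PrimeSpectrum Ω))
  haveI : PreconnectedSpace (Spec (CommRingCat.of Ω)) := ⟨Set.subsingleton_univ.isPreconnected⟩
  exact ⟨inferInstance⟩

/-- Acyclicity of schemes transports along isomorphisms. -/
theorem isAcyclicSchemeN_of_iso {L : Set ℕ} {n : ℕ} {A B : Scheme.{u}} (e : A ⟶ B) [IsIso e]
    (h : EtAcyc.IsAcyclicSchemeN L n B) : EtAcyc.IsAcyclicSchemeN L n A := by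
  obtain ⟨h1, h2, h3⟩ := h
  haveI := h1
  haveI := h2
  have hne : Nonempty A := ⟨(Scheme.homeoOfIso (asIso e)).symm (Classical.arbitrary B)⟩
  refine ⟨hne,
    (Scheme.homeoOfIso (asIso e)).symm.surjective.connectedSpace (Scheme.homeoOfIso (asIso e)).symm.continuous,
    fun ℓ hℓ hℓL q hq hqn => ?_⟩
  obtain ⟨E, -⟩ := LocAcycLib.bijective_pull_const e (ZMod ℓ) q
  haveI := h3 ℓ hℓ hℓL q hq hqn
  exact E.symm.toEquiv.subsingleton

/-- The finite residue extension of a quasi-finite morphism. -/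
theorem finite_residueFieldMap {X Y : Scheme.{u}} (f : X ⟶ Y) [LocallyQuasiFinite f] (x : X) :
    (f.residueFieldMap x).hom.Finite := by
  haveI : LocallyQuasiFinite (Spec.map (f.residueFieldMap x) ≫ Y.fromSpecResidueField (f x)) := by
    rw [Scheme.Hom.SpecMap_residueFieldMap_fromSpecResidueField]
    infer_instance
  haveI := LocallyQuasiFinite.of_comp (Spec.map (f.residueFieldMap x)) (Y.fromSpecResidueField (f x))
  have h : (f.residueFieldMap x).hom.QuasiFinite := (HasRingHomProperty.Spec_iff (P := @LocallyQuasiFinite)).1 ‹_›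
  letI := (f.residueFieldMap x).hom.toAlgebra
  haveI : Algebra.QuasiFinite (Y.residueField (f x)) (X.residueField x) := h
  exact (Module.Finite.of_quasiFinite : Module.Finite (Y.residueField (f x)) (X.residueField x))

theorem isAcyclicSchemeN_of_factor {L : Set ℕ} {n : ℕ} {X Y Y' T : Scheme.{u}} (g : X ⟶ Y) (i : Y' ⟶ Y)
    (j : T ⟶ Y') (a : T ⟶ Y) (ha : a = j ≫ i) (h : EtAcyc.IsAcyclicSchemeN L n (pullback g a)) :
    EtAcyc.IsAcyclicSchemeN L n (pullback (pullback.snd g i) j) := by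
  subst ha
  exact isAcyclicSchemeN_of_iso (pullbackLeftPullbackSndIso g i j).hom h

theorem geomPt_factor {Y Y' : Scheme.{u}} (i : Y' ⟶ Y) (y' : Y') (Ω : Type u) [Field Ω]
    [Algebra (Y'.residueField y') Ω] [Algebra (Y.residueField (i y')) Ω]
    (h : algebraMap (Y.residueField (i y')) Ω =
      (algebraMap (Y'.residueField y') Ω).comp (i.residueFieldMap y').hom) :
    EtAcyc.geomPt Y (i y') Ω = EtAcyc.geomPt Y' y' Ω ≫ i := by
  show Spec.map (CommRingCat.ofHom (algebraMap (Y.residueField (i y')) Ω)) ≫ _ = (_ ≫ _) ≫ _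
  rw [h, CommRingCat.ofHom_comp, CommRingCat.ofHom_hom, Spec.map_comp, Category.assoc,
    Scheme.Hom.SpecMap_residueFieldMap_fromSpecResidueField, Category.assoc]

theorem isAlgebraic_residue {Y Y' : Scheme.{u}} (i : Y' ⟶ Y) [LocallyQuasiFinite i] (y' : Y') (Ω : Type u) [Field Ω]
    [Algebra (Y'.residueField y') Ω] [Algebra.IsAlgebraic (Y'.residueField y') Ω]
    [Algebra (Y.residueField (i y')) Ω]
    (h : algebraMap (Y.residueField (i y')) Ω =
      (algebraMap (Y'.residueField y') Ω).comp (i.residueFieldMap y').hom) :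
    Algebra.IsAlgebraic (Y.residueField (i y')) Ω := by
  letI : Algebra (Y.residueField (i y')) (Y'.residueField y') := (i.residueFieldMap y').hom.toAlgebra
  haveI : IsScalarTower (Y.residueField (i y')) (Y'.residueField y') Ω :=
    IsScalarTower.of_algebraMap_eq fun a => RingHom.congr_fun h a
  haveI : Module.Finite (Y.residueField (i y')) (Y'.residueField y') := finite_residueFieldMap i y'
  exact Algebra.IsAlgebraic.trans (Y.residueField (i y')) (Y'.residueField y') Ω

theorem acyclicFibre_of_algebra {L : Set ℕ} {n : ℕ} {X Y Y' : Scheme.{u}} (g : X ⟶ Y) (i : Y' ⟶ Y)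
    [LocallyQuasiFinite i] (h : EtAcyc.GeomFibresAcyclicN L n g) (y' : Y') (Ω : Type u) [Field Ω] [IsSepClosed Ω]
    [Algebra (Y'.residueField y') Ω] [Algebra.IsAlgebraic (Y'.residueField y') Ω]
    [Algebra (Y.residueField (i y')) Ω]
    (hc : algebraMap (Y.residueField (i y')) Ω =
      (algebraMap (Y'.residueField y') Ω).comp (i.residueFieldMap y').hom) :
    EtAcyc.IsAcyclicSchemeN L n (pullback (pullback.snd g i) (EtAcyc.geomPt Y' y' Ω)) :=
  haveI := isAlgebraic_residue i y' Ω hc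
  isAcyclicSchemeN_of_factor g i _ _ (geomPt_factor i y' Ω hc) (h (i y') Ω)

/-- The geometric fibres of a base change along a quasi-finite morphism are geometric fibres. -/
theorem geomFibres_baseChange {L : Set ℕ} {n : ℕ} {X Y Y' : Scheme.{u}} (g : X ⟶ Y) (i : Y' ⟶ Y)
    [LocallyQuasiFinite i] (h : EtAcyc.GeomFibresAcyclicN L n g) :
    EtAcyc.GeomFibresAcyclicN L n (pullback.snd g i) := by
  intro y' Ω _ _ _ _
  letI : Algebra (Y.residueField (i y')) Ω :=
    ((algebraMap (Y'.residueField y') Ω).comp (i.residueFieldMap y').hom).toAlgebra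
  exact acyclicFibre_of_algebra g i h y' Ω (RingHom.algebraMap_toAlgebra _)

theorem surjective_Hpull_of_coeff_iso {A B : Scheme.{u}} (f : A ⟶ B) {G G' : EtCoh.Ab B} (c : G ≅ G') (q : ℕ)
    (h : Function.Surjective (EtCore.Hpull f G' q)) : Function.Surjective (EtCore.Hpull f G q) := fun z => by
  obtain ⟨x, hx⟩ := h (z.comp (Ext.mk₀ ((EtCoh.pull f).map c.hom)) (add_zero q))
  refine ⟨x.comp (Ext.mk₀ c.inv) (add_zero q), ?_⟩
  rw [S8536.Hpull_comp_mk₀, hx, Ext.comp_assoc_of_third_deg_zero, Ext.mk₀_comp_mk₀, ← Functor.map_comp,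
    Iso.hom_inv_id, CategoryTheory.Functor.map_id, Ext.comp_mk₀_id]

theorem inR_of_surjective {X Y T : Scheme.{u}} (g : X ⟶ Y) (F : EtCoh.Ab Y) {q : ℕ}
    (ξ : EtCoh.H X ((EtCoh.pull g).obj F) q) (a : T ⟶ Y)
    (h : Function.Surjective (EtCore.Hpull (pullback.fst a g) ((EtCoh.pull a).obj F) q)) : InR g F ξ a := by
  obtain ⟨z, hz⟩ := (EtAcycLib.bijective_comp_mk₀
    (EtLim8.pullCmp a (pullback.fst a g) (pullback.snd a g ≫ g) pullback.condition F)).2
      (EtCore.HpullVia (pullback.snd a g) g (pullback.snd a g ≫ g) rfl F q ξ)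
  obtain ⟨x, rfl⟩ := h z
  exact ⟨x, (via_eq_comp _ _ _ _ _ _ _).trans hz⟩

theorem inR_const_of_surjective {X Y T : Scheme.{u}} (g : X ⟶ Y) (M : Type) [AddCommGroup M] {q : ℕ}
    (ξ : EtCoh.H X ((EtCoh.pull g).obj (EtCoh.const Y M)) q) (a : T ⟶ Y)
    (h : Function.Surjective (EtCore.Hpull (pullback.fst a g) (EtCoh.const T M) q)) :
    InR g (EtCoh.const Y M) ξ a :=
  inR_of_surjective g _ ξ a (surjective_Hpull_of_coeff_iso _ (EtCore.pullConst a M) q h)

theorem surjective_const_of_subsingleton {A B : Scheme.{u}} (f : A ⟶ B) (M : Type) [AddCommGroup M] (q : ℕ)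
    [Subsingleton (EtCoh.H A (EtCoh.const A M) q)] : Function.Surjective (EtCore.Hpull f (EtCoh.const B M) q) :=
  (Kc_surjective_iff f M q).2 fun z => ⟨0, Subsingleton.elim _ _⟩

theorem surjective_const_fibre {L : Set ℕ} {n : ℕ} {P : Scheme.{u}} (Ω : Type u) [Field Ω]
    (f : P ⟶ Spec (CommRingCat.of Ω)) (h : EtAcyc.IsAcyclicSchemeN L n P) (ℓ : ℕ) (hℓ : ℓ.Prime) (hℓL : ℓ ∈ L) (ν : ℕ)
    {q : ℕ} (hq : q ≤ n) : Function.Surjective (EtCore.Hpull f (EtCoh.const _ (ZMod (ℓ ^ ν))) q) := by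
  obtain ⟨h1, h2, h3⟩ := h
  haveI := h1
  haveI := h2
  haveI : NeZero (ℓ ^ ν) := ⟨pow_ne_zero _ hℓ.ne_zero⟩
  rcases Nat.eq_zero_or_pos q with rfl | hq1
  · haveI := connectedSpace_specField Ω
    haveI : Surjective f := ⟨fun z => ⟨Classical.arbitrary _, by
      haveI : Subsingleton (Spec (CommRingCat.of Ω)) := inferInstanceAs (Subsingleton (PrimeSpectrum Ω))
      exact Subsingleton.elim _ _⟩⟩
    exact surjective_zero_of_connected f (ZMod (ℓ ^ ν))
  · haveI := subsingleton_zmod_pow P ℓ hℓ.pos q (h3 ℓ hℓ hℓL q hq1 hq) ν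
    exact surjective_const_of_subsingleton f _ q

/-- On an acyclic geometric fibre constant classes are in the range. -/
theorem inR_const_of_acyclic {L : Set ℕ} {n : ℕ} {X Y : Scheme.{u}} (g : X ⟶ Y) (y : Y) (Ω : Type u) [Field Ω]
    [Algebra (Y.residueField y) Ω] (h : EtAcyc.IsAcyclicSchemeN L n (pullback g (EtAcyc.geomPt Y y Ω)))
    (ℓ : ℕ) (hℓ : ℓ.Prime) (hℓL : ℓ ∈ L) (ν : ℕ) {q : ℕ} (hq : q ≤ n)
    (ξ : EtCoh.H X ((EtCoh.pull g).obj (EtCoh.const Y (ZMod (ℓ ^ ν)))) q) :
    InR g (EtCoh.const Y (ZMod (ℓ ^ ν))) ξ (EtAcyc.geomPt Y y Ω) :=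
  inR_const_of_surjective g _ ξ _ (surjective_const_fibre Ω _
    (isAcyclicSchemeN_of_iso (pullbackSymmetry (EtAcyc.geomPt Y y Ω) g).hom h) ℓ hℓ hℓL ν hq)

/-- An algebraic geometric point of an affine neighbourhood is a limit of quasi-finite schemes over the base. -/
theorem exists_stage_system {Y : Scheme.{u}} (y : Y) (Ω : Type u) [Field Ω] [Algebra (Y.residueField y) Ω]
    [Algebra.IsAlgebraic (Y.residueField y) Ω] :
    ∃ (ι : Type u) (_ : Preorder ι) (_ : IsDirected ι (· ≤ ·)) (_ : Nonempty ι) (Xs : ιᵒᵖ ⥤ Scheme.{u})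
      (t : Xs ⟶ (Functor.const ιᵒᵖ).obj Y) (c : Cone Xs) (_ : IsLimit c) (e : c.pt ≅ Spec (CommRingCat.of Ω)),
      (∀ i, c.π.app i ≫ t.app i = e.hom ≫ EtAcyc.geomPt Y y Ω) ∧ (∀ i, IsAffine (Xs.obj i)) ∧
      (∀ i, LocallyQuasiFinite (t.app i)) ∧ ∀ i, LocallyOfFiniteType (t.app i) := by
  obtain ⟨U, hU, hy, -⟩ := exists_isAffineOpen_mem_and_subset (U := (⊤ : Y.Opens)) (x := y) trivial
  letI : Algebra Γ(Y, U) Ω := (toOmega y hy Ω).toAlgebra
  have hc := Stage.isColimitCocone (A := Γ(Y, U)) (Ω := Ω) fun x => by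
    obtain ⟨P, h1, h2⟩ := exists_polynomial hU y hy Ω x
    exact ⟨P, h1, h2⟩
  let F₀ := Stage.rings Γ(Y, U) Ω
  let t : F₀.op ⋙ Scheme.Spec ⟶ (Functor.const (Stage.Idx Γ(Y, U) Ω)ᵒᵖ).obj Y :=
    { app := fun i => Spec.map (CommRingCat.ofHom (algebraMap Γ(Y, U) (Stage.B i.unop))) ≫ hU.fromSpec
      naturality := fun i j f => by
        refine Eq.trans ?_ (Category.comp_id _).symm
        refine (Category.assoc _ _ _).symm.trans (congrArg (· ≫ hU.fromSpec) ?_)
        refine (Spec.map_comp _ _).symm.trans (congrArg Spec.map ?_)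
        exact CommRingCat.hom_ext (RingHom.ext fun a => (Stage.tr (leOfHom f.unop)).commutes a) }
  refine ⟨Stage.Idx Γ(Y, U) Ω, inferInstance, inferInstance, inferInstance, F₀.op ⋙ Scheme.Spec, t,
    Scheme.Spec.mapCone (Stage.cocone Γ(Y, U) Ω).op, isLimitOfPreserves Scheme.Spec hc.op, Iso.refl _,
    fun i => ?_, fun i => inferInstanceAs (IsAffine (Spec _)), fun i => ?_, fun i => ?_⟩
  · rw [← specMap_toOmega hU y hy Ω]
    refine Eq.trans ?_ (Category.id_comp _).symm
    refine (Category.assoc _ _ _).symm.trans (congrArg (· ≫ hU.fromSpec) ?_)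
    refine (Spec.map_comp _ _).symm.trans (congrArg Spec.map ?_)
    exact CommRingCat.hom_ext (RingHom.ext fun a => (Stage.toField i.unop).commutes a)
  · haveI : LocallyQuasiFinite (Spec.map (CommRingCat.ofHom (algebraMap Γ(Y, U) (Stage.B i.unop)))) :=
      (HasRingHomProperty.Spec_iff (P := @LocallyQuasiFinite)).2 (RingHom.quasiFinite_algebraMap.2 inferInstance)
    exact inferInstanceAs (LocallyQuasiFinite (_ ≫ hU.fromSpec))
  · haveI := Stage.finitePresentation i.unop
    haveI : LocallyOfFiniteType (Spec.map (CommRingCat.ofHom (algebraMap Γ(Y, U) (Stage.B i.unop)))) :=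
      (HasRingHomProperty.Spec_iff (P := @LocallyOfFiniteType)).2 (RingHom.finiteType_algebraMap.2 inferInstance)
    exact inferInstanceAs (LocallyOfFiniteType (_ ≫ hU.fromSpec))

/-- Surjectivity with constant coefficients descends to a geometric fibre. -/
theorem surjective_fibre {X Y : Scheme.{u}} (g : X ⟶ Y) [QuasiCompact g] [QuasiSeparated g] (y : Y)
    (Ω : Type u) [Field Ω] [Algebra (Y.residueField y) Ω] [Algebra.IsAlgebraic (Y.residueField y) Ω]
    (M : Type) [AddCommGroup M] (q : ℕ)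
    (h : ∀ (Y' : Scheme.{u}) (i : Y' ⟶ Y) [LocallyQuasiFinite i] [LocallyOfFiniteType i]
      [PreservesFiniteLimits (EtCoh.pull (pullback.snd g i))],
      Function.Surjective (EtCore.Hpull (pullback.snd g i) (EtCoh.const Y' M) q)) :
    Function.Surjective (EtCore.Hpull (pullback.fst (EtAcyc.geomPt Y y Ω) g)
      (EtCoh.const (Spec (CommRingCat.of Ω)) M) q) := by
  obtain ⟨ι, _, _, _, Xs, t, c, hc, e, hπ, haff, hqf, hft⟩ := exists_stage_system y Ω
  let c' := c.extend e.inv
  have hc' : IsLimit c' := hc.extendIso e.inv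
  have hπ' : ∀ a, c'.π.app a ≫ t.app a = EtAcyc.geomPt Y y Ω := fun a => by
    show (e.inv ≫ c.π.app a) ≫ t.app a = _
    rw [Category.assoc, hπ a, Iso.inv_hom_id_assoc]
  haveI : ∀ ⦃a b : ιᵒᵖ⦄ (h : a ⟶ b), IsAffineHom (Xs.map h) := fun a b h => by
    haveI := haff a
    haveI := haff b
    infer_instance
  haveI : ∀ a, CompactSpace (Xs.obj a) := fun a => by haveI := haff a; infer_instance
  haveI : ∀ a, QuasiSeparatedSpace (Xs.obj a) := fun a => by haveI := haff a; infer_instance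
  refine surjective_limit g t c' _ hπ' hc' M q fun a => ?_
  intro _
  haveI := hqf a
  haveI := hft a
  haveI := EtFound.pull_preservesFiniteLimits (pullback.snd g (t.app a))
  exact surjective_Hpull_const_of_iso (pullbackSymmetry (t.app a) g).hom (pullback.snd g (t.app a))
    (pullback.fst (t.app a) g) (pullbackSymmetry_hom_comp_snd _ _) M q (h _ (t.app a))

/-- A scheme is connected if its degree zero cohomology with coefficients `ℤ/ℓ` has at most `ℓ` elements. -/
theorem connectedSpace_of_H0 (P : Scheme.{u}) [Nonempty P] {S : Scheme.{u}} [ConnectedSpace S] (f : P ⟶ S)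
    (ℓ : ℕ) (hℓ : ℓ.Prime) (hs : Function.Surjective (EtCore.Hpull f (EtCoh.const S (ZMod ℓ)) 0)) :
    ConnectedSpace P := by
  haveI : Fact ℓ.Prime := ⟨hℓ⟩
  by_contra hn
  rw [connectedSpace_iff_clopen] at hn
  push Not at hn
  obtain ⟨s, hs', hs₁, hs₂⟩ := hn inferInstance
  let U : P.Opens := ⟨s, hs'.isOpen⟩
  let V : P.Opens := ⟨sᶜ, hs'.compl.isOpen⟩
  haveI : Nonempty U := hs₁.coe_sort
  haveI : Nonempty V := (Set.nonempty_compl.2 hs₂).coe_sort
  have hsup : U ⊔ V = ⊤ := TopologicalSpace.Opens.ext (Set.union_compl_self s)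
  have hinf : U ⊓ V = ⊥ := TopologicalSpace.Opens.ext (Set.inter_compl_self s)
  have hb := bijective_prod_of_isCompl U V hsup hinf (EtCoh.const P (ZMod ℓ)) 0
  have hne : ∀ W : P.Opens, Nonempty W → ∃ w : EtCoh.H W ((EtCoh.pull W.ι).obj (EtCoh.const P (ZMod ℓ))) 0, w ≠ 0 := by
    intro W hW
    obtain ⟨x, hx⟩ := exists_H0_ne_zero W.toScheme ℓ hℓ
    obtain ⟨w, hw⟩ := (EtAcycLib.bijective_comp_mk₀ (n := 0) (EtCore.pullConst W.ι (ZMod ℓ))).2 x
    refine ⟨w, fun h0 => hx (hw.symm.trans ?_)⟩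
    subst h0
    dsimp only
    simp only [Ext.zero_comp]
  obtain ⟨wU, hwU⟩ := hne U inferInstance
  obtain ⟨wV, hwV⟩ := hne V inferInstance
  obtain ⟨a, ha⟩ := hb.2 (wU, 0)
  obtain ⟨b, hb'⟩ := hb.2 (0, wV)
  have hK := (Kc_surjective_iff f (ZMod ℓ) 0).1 hs
  obtain ⟨za, hza⟩ := hK a
  obtain ⟨zb, hzb⟩ := hK b
  have hcard : Nat.card (EtCoh.H S (EtCoh.const S (ZMod ℓ)) 0) = ℓ := by
    rw [EtFound.ConstVal.natCard_H0_const, Nat.card_zmod]
  let φ : EtCoh.H S (EtCoh.const S (ZMod ℓ)) 0 →+ EtCoh.H P (EtCoh.const P (ZMod ℓ)) 0 :=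
    AddMonoidHom.mk' (Kc f (ZMod ℓ) 0) fun x y => by
      simp only [Kc, map_add, Ext.add_comp]
  have hza' : za ≠ 0 := fun h => hwU (by
    have h0 : a = 0 := hza.symm.trans ((congrArg φ h).trans (map_zero φ))
    rw [h0, map_zero] at ha
    exact (congrArg Prod.fst ha).symm)
  obtain ⟨m, hm⟩ : zb ∈ AddSubgroup.zmultiples za := by
    rw [zmultiples_eq_top_of_prime_card hcard hza']
    trivial
  have hb0 : b = m • a := by
    rw [← hzb, ← hza]
    exact (congrArg φ hm).symm.trans (map_zsmul φ m za)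
  apply hwV
  have := congrArg Prod.snd hb'
  rw [hb0, map_zsmul, ha] at this
  exact this.symm.trans (smul_zero m)

end Groth.Agent.AcycFin
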