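import Groth.Agent.S3510
import Groth.Agent.BcQCalc.EtaleBC
import Groth.Agent.EtFound.Basic

/-!
# The unit and higher direct images of an acyclic morphism
-/

set_option autoImplicit false
set_option linter.unusedSectionVars false
set_option linter.style.haveILetI false
set_option backward.isDefEq.respectTransparency false
set_option backward.isDefEq.respectTransparency.types false

universe u

open CategoryTheory CategoryTheory.Limits AlgebraicGeometry Opposite

noncomputable section

namespace Groth.Agent.AcycFin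

attribute [local instance] EtFound.pull_preservesFiniteLimits

/-- The unit and higher direct images, from those of the projection to the final étale scheme. -/
theorem unit_Rpush_of_isAcyclicN {X S : Scheme.{u}} (f : X ⟶ S) (L : Set ℕ) (n : ℕ) (h : EtAcyc.IsAcyclicN f L n)
    (F : EtCoh.Ab S) (hF : EtAcyc.IsLTorsion L F) :
    IsIso ((EtCoh.pullPushAdj f).unit.app F) ∧
      ∀ q : ℕ, 1 ≤ q → q ≤ n → IsZero ((EtCoh.Rpush f q).obj ((EtCoh.pull f).obj F)) := by
  let V := EtCoh.top S
  let a : V.left ⟶ S := V.hom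
  haveI : IsIso a := inferInstanceAs (IsIso (𝟙 S))
  haveI : AlgebraicGeometry.Etale a := V.prop
  let p := EtAcyc.prj f V
  let k := pullback.snd a f
  have c : IsPullback k p f a := (IsPullback.of_hasPullback a f).flip
  obtain ⟨hu, hR⟩ := (S3510.result f L n).1 h V ((EtCoh.pull a).obj F) (EtAcycLib.isLTorsion_pull a hF)
  haveI := hu
  haveI : (EtCoh.pull a).IsEquivalence := BcQCalc.isEquivalence_pull_id S
  let K := ((EtCoh.pullPushAdj p).homEquiv _ _).symm
    ((EtCoh.pull a).map ((EtCoh.pullPushAdj f).unit.app F) ≫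
      EtCoh.baseChange0 f a p k c.w ((EtCoh.pull f).obj F))
  haveI : IsIso K := EtAcycLib.UnitRpush.isIso_mate (EtCoh.pullPushAdj f) (EtCoh.pullPushAdj k)
    (EtCoh.pullPushAdj a) (EtCoh.pullPushAdj p)
    (EtCoh.pushComp f k ≪≫ EtCoh.pushCongr c.w ≪≫ (EtCoh.pushComp a p).symm) F
  haveI : IsIso (EtCoh.baseChange0 f a p k c.w ((EtCoh.pull f).obj F)) :=
    BcQCalc.isIso_baseChange0_of_etale a f p k c ((EtCoh.pull f).obj F)
  have e : (EtCoh.pull a).map ((EtCoh.pullPushAdj f).unit.app F) ≫
      EtCoh.baseChange0 f a p k c.w ((EtCoh.pull f).obj F) =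
      (EtCoh.pullPushAdj p).unit.app ((EtCoh.pull a).obj F) ≫ (EtCoh.push p).map K :=
    (((EtCoh.pullPushAdj p).homEquiv _ _).apply_symm_apply _).symm.trans (Adjunction.homEquiv_unit _ _ _ _)
  have hu' : IsIso ((EtCoh.pull a).map ((EtCoh.pullPushAdj f).unit.app F)) := by
    haveI : IsIso ((EtCoh.pull a).map ((EtCoh.pullPushAdj f).unit.app F) ≫
        EtCoh.baseChange0 f a p k c.w ((EtCoh.pull f).obj F)) := by rw [e]; infer_instance
    exact IsIso.of_isIso_comp_right _ (EtCoh.baseChange0 f a p k c.w ((EtCoh.pull f).obj F))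
  refine ⟨isIso_of_reflects_iso ((EtCoh.pullPushAdj f).unit.app F) (EtCoh.pull a), fun q h1 h2 => ?_⟩
  haveI := BcQCalc.isIso_bcQ_of_etale a f p k c ((EtCoh.pull f).obj F) q
  have hz : IsZero ((EtCoh.Rpush p q).obj ((EtCoh.pull k).obj ((EtCoh.pull f).obj F))) :=
    (hR q h1 h2).of_iso ((EtCoh.Rpush p q).mapIso (asIso K)).symm
  have hz2 := hz.of_iso (asIso (EtBC.bcQ f a p k c.w q ((EtCoh.pull f).obj F)))
  exact ((EtCoh.pull a).asEquivalence.inverse.map_isZero hz2).of_iso
    ((EtCoh.pull a).asEquivalence.unitIso.app _)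

end Groth.Agent.AcycFin
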