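import Groth.Agent.EtLC12.QcqsAcyclic
import Groth.Agent.EtLim8.HMaps
import Groth.Agent.S8536

/-!
# Cohomology classes of filtered colimits pulled back
-/

set_option autoImplicit false
set_option linter.style.haveILetI false
set_option backward.isDefEq.respectTransparency false
set_option backward.isDefEq.respectTransparency.types false

universe u

open CategoryTheory CategoryTheory.Limits AlgebraicGeometry Opposite Abelian

noncomputable section

namespace Groth.Agent.AcycFin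

theorem exists_map_eq_zero {J : Type (u + 1)} [SmallCategory J] [IsFiltered J] (K : J ⥤ AddCommGrpCat.{u + 1})
    (D : Cocone K) (hD : IsColimit D) (j : J) (z : K.obj j) (hz : D.ι.app j z = 0) :
    ∃ (k : J) (f : j ⟶ k), K.map f z = 0 := by
  obtain ⟨k, f, f', hk⟩ := (Concrete.isColimit_rep_eq_iff_exists K hD z (0 : K.obj j)).1 (hz.trans (map_zero _).symm)
  exact ⟨k, f, hk.trans (map_zero _)⟩

/-- A class which vanishes in the colimit vanishes at a stage. -/
theorem exists_stage_zero (X : Scheme.{u}) [CompactSpace X] [QuasiSeparatedSpace X] (q : ℕ)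
    {J : Type (u + 1)} [SmallCategory J] [IsFiltered J] {E : J ⥤ EtCoh.Ab X} (cc : Cocone E) (hc : IsColimit cc)
    (j : J) (z : EtCoh.H X (E.obj j) q) (hz : z.comp (Ext.mk₀ (cc.ι.app j)) (add_zero q) = 0) :
    ∃ (k : J) (f : j ⟶ k), z.comp (Ext.mk₀ (E.map f)) (add_zero q) = 0 := by
  haveI := EtLC12.QcqsAcyclic.preservesColimitsOfShape_HF X q J
  have hc' := isColimitOfPreserves (EtCoh.HF X q) hc
  obtain ⟨k, f, hk⟩ := exists_map_eq_zero (E ⋙ EtCoh.HF X q) ((EtCoh.HF X q).mapCocone cc) hc' j z hz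
  exact ⟨k, f, hk⟩

/-- Every class comes from a stage. -/
theorem exists_stage (X : Scheme.{u}) [CompactSpace X] [QuasiSeparatedSpace X] (q : ℕ)
    {J : Type (u + 1)} [SmallCategory J] [IsFiltered J] {E : J ⥤ EtCoh.Ab X} (cc : Cocone E) (hc : IsColimit cc)
    (x : EtCoh.H X cc.pt q) : ∃ (j : J) (z : EtCoh.H X (E.obj j) q), z.comp (Ext.mk₀ (cc.ι.app j)) (add_zero q) = x := by
  haveI := EtLC12.QcqsAcyclic.preservesColimitsOfShape_HF X q J
  obtain ⟨j, z, hz⟩ := Concrete.isColimit_exists_rep _ (isColimitOfPreserves (EtCoh.HF X q) hc) x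
  exact ⟨j, z, (EtLim8.HF_map_apply (cc.ι.app j) q z).symm.trans hz⟩

/-- A class of a colimit killed by pullback is killed by pullback at a stage. -/
theorem exists_stage_Hpull_zero {X W : Scheme.{u}} (g : X ⟶ W) [PreservesFiniteLimits (EtCoh.pull g)]
    [CompactSpace X] [QuasiSeparatedSpace X] [CompactSpace W] [QuasiSeparatedSpace W] (q : ℕ)
    {J : Type (u + 1)} [SmallCategory J] [IsFiltered J] {E : J ⥤ EtCoh.Ab W} (cc : Cocone E) (hc : IsColimit cc)
    (x : EtCoh.H W cc.pt q) (hx : EtCore.Hpull g cc.pt q x = 0) :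
    ∃ (j : J) (z : EtCoh.H W (E.obj j) q),
      z.comp (Ext.mk₀ (cc.ι.app j)) (add_zero q) = x ∧ EtCore.Hpull g (E.obj j) q z = 0 := by
  obtain ⟨j, z, rfl⟩ := exists_stage W q cc hc x
  haveI : (EtCoh.pull g).IsLeftAdjoint := (EtCoh.pullPushAdj g).isLeftAdjoint
  obtain ⟨k, f, hk⟩ := exists_stage_zero X q ((EtCoh.pull g).mapCocone cc)
    (isColimitOfPreserves (EtCoh.pull g) hc) j (EtCore.Hpull g (E.obj j) q z)
    ((S8536.Hpull_comp_mk₀ g (cc.ι.app j) q z).symm.trans hx)
  refine ⟨k, z.comp (Ext.mk₀ (E.map f)) (add_zero q), ?_, (S8536.Hpull_comp_mk₀ g (E.map f) q z).trans hk⟩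
  rw [Ext.comp_assoc_of_third_deg_zero, Ext.mk₀_comp_mk₀, cc.w f]

end Groth.Agent.AcycFin
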