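import Groth.Agent.AcycFin.Limit
import Groth.Agent.AcycFin.HFColim

/-!
# Injectivity in degree zero from finite constant coefficients
-/

set_option autoImplicit false
set_option linter.unusedSectionVars false
set_option linter.style.haveILetI false
set_option backward.isDefEq.respectTransparency false
set_option backward.isDefEq.respectTransparency.types false

universe u

open CategoryTheory CategoryTheory.Limits AlgebraicGeometry Opposite Abelian

noncomputable section

namespace Groth.Agent.AcycFin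

open Groth.Agent.BcQCalc Groth.Agent.EtLim8 Groth.Agent.EtFound

/-- Constants on integral schemes over `W` have injective pullback maps in degree zero. -/
def IntConstInj {X W : Scheme.{u}} (g : X ⟶ W) (L : Set ℕ) : Prop :=
  ∀ (Y : Scheme.{u}) (π : Y ⟶ W) [IsIntegralHom π] (M : Type) [AddCommGroup M] [Finite M] (m : ℕ),
    EtAcyc.PrimesIn L m → (∀ a : M, m • a = 0) → ∀ [PreservesFiniteLimits (EtCoh.pull (pullback.fst π g))],
      Function.Injective (EtCore.Hpull (pullback.fst π g) (EtCoh.const Y M) 0)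

theorem Kc_injective_iff {X Y : Scheme.{u}} (f : X ⟶ Y) [PreservesFiniteLimits (EtCoh.pull f)] (M : Type)
    [AddCommGroup M] (q : ℕ) :
    Function.Injective (EtCore.Hpull f (EtCoh.const Y M) q) ↔ Function.Injective (Kc f M q) :=
  ((EtAcycLib.bijective_comp_mk₀ (EtCore.pullConst f M)).1.of_comp_iff _).symm

theorem Kc_zero {X Y : Scheme.{u}} (f : X ⟶ Y) [PreservesFiniteLimits (EtCoh.pull f)] (M : Type)
    [AddCommGroup M] (q : ℕ) : Kc f M q 0 = 0 := by
  rw [Kc, map_zero, Ext.zero_comp]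

theorem Kc_sub {X Y : Scheme.{u}} (f : X ⟶ Y) [PreservesFiniteLimits (EtCoh.pull f)] (M : Type)
    [AddCommGroup M] (q : ℕ) (x y : EtCoh.H Y (EtCoh.const Y M) q) : Kc f M q (x - y) = Kc f M q x - Kc f M q y := by
  simp only [Kc, map_sub, sub_eq_add_neg, Ext.add_comp, Ext.neg_comp, map_add, map_neg]

section Limit

variable {X W : Scheme.{u}} (g : X ⟶ W) {ι : Type u} [Preorder ι] {Xs : ιᵒᵖ ⥤ Scheme.{u}}
  (t : Xs ⟶ (Functor.const ιᵒᵖ).obj W) (c : Cone Xs) (π : c.pt ⟶ W) (hπ : ∀ a, c.π.app a ≫ t.app a = π)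

include hπ in
theorem injective_limit [IsDirected ι (· ≤ ·)] [Nonempty ι] (hc : IsLimit c) [QuasiCompact g] [QuasiSeparated g]
    [∀ ⦃a b : ιᵒᵖ⦄ (h : a ⟶ b), IsAffineHom (Xs.map h)] [∀ a, CompactSpace (Xs.obj a)]
    [∀ a, QuasiSeparatedSpace (Xs.obj a)] (M : Type) [AddCommGroup M] (q : ℕ)
    [PreservesFiniteLimits (EtCoh.pull (pullback.fst π g))]
    (h : ∀ a, ∀ [PreservesFiniteLimits (EtCoh.pull (pullback.fst (t.app a) g))],
      Function.Injective (EtCore.Hpull (pullback.fst (t.app a) g) (EtCoh.const (Xs.obj a) M) q)) :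
    Function.Injective (EtCore.Hpull (pullback.fst π g) (EtCoh.const c.pt M) q) := by
  obtain ⟨i₀⟩ := ‹Nonempty ι›
  let c' := pbCone g t c π hπ
  haveI := fun a => EtFound.pull_preservesFiniteLimits (pullback.fst (t.app a) g)
  haveI := fun a => EtFound.pull_preservesFiniteLimits (c.π.app a)
  haveI := fun a => EtFound.pull_preservesFiniteLimits (c'.π.app a)
  haveI : ∀ ⦃a b : ιᵒᵖ⦄ (h : a ⟶ b), PreservesFiniteLimits (EtCoh.pull (Xs.map h)) :=
    fun a b h => EtFound.pull_preservesFiniteLimits _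
  haveI : ∀ ⦃a b : ιᵒᵖ⦄ (h : a ⟶ b), PreservesFiniteLimits (EtCoh.pull ((pbSys g t).map h)) :=
    fun a b h => EtFound.pull_preservesFiniteLimits _
  have haff : ∀ ⦃a b : ιᵒᵖ⦄ (h : a ⟶ b), IsAffineHom ((pbSys g t).map h) := fun a b h =>
    MorphismProperty.of_isPullback (P := @IsAffineHom) (isPullback_pbSys g t h).flip inferInstance
  rw [Kc_injective_iff]
  intro x₁ x₂ hx
  -- both classes come from a common stage
  have hsurj := (S0646.result Xs (fun a b h => inferInstance) (fun a => inferInstance) (fun a => inferInstance)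
    c hc i₀ (EtCoh.const _ M) q).1
  have stage : ∀ x : EtCoh.H c.pt (EtCoh.const c.pt M) q, ∃ (j : ι) (_ : i₀ ≤ j) (y : EtCoh.H (Xs.obj (op j))
      (EtCoh.const _ M) q), Kc (c.π.app (op j)) M q y = x := fun x => by
    obtain ⟨j, hj, ξj, hξj⟩ := hsurj (x.comp (Ext.mk₀ (EtCore.pullConst (c.π.app (op i₀)) M).inv) (add_zero q))
    have hz := congrArg (fun r => Ext.comp r (Ext.mk₀ (EtCore.pullConst (c.π.app (op i₀)) M).hom) (add_zero q)) hξj
    simp only [Ext.comp_assoc_of_third_deg_zero, Ext.mk₀_comp_mk₀, Iso.inv_hom_id, Ext.comp_mk₀_id] at hz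
    rw [Kc_HpullVia] at hz
    exact ⟨j, hj, _, hz⟩
  obtain ⟨j₁, -, y₁, rfl⟩ := stage x₁
  obtain ⟨j₂, -, y₂, rfl⟩ := stage x₂
  obtain ⟨j, hj₁, hj₂⟩ := directed_of (· ≤ ·) j₁ j₂
  haveI := EtFound.pull_preservesFiniteLimits (pullback.fst π g ≫ c.π.app (op j))
  rw [← Kc_comp (c.π.app (op j)) (Xs.map (homOfLE hj₁).op) _ (c.w (homOfLE hj₁).op),
    ← Kc_comp (c.π.app (op j)) (Xs.map (homOfLE hj₂).op) _ (c.w (homOfLE hj₂).op)] at hx ⊢
  generalize Kc (Xs.map (homOfLE hj₁).op) M q y₁ = z₁ at hx ⊢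
  generalize Kc (Xs.map (homOfLE hj₂).op) M q y₂ = z₂ at hx ⊢
  rw [Kc_comp (pullback.fst π g) (c.π.app (op j)) _ rfl, Kc_comp (pullback.fst π g) (c.π.app (op j)) _ rfl,
    ← Kc_comp (c'.π.app (op j)) (pullback.fst (t.app (op j)) g) _ (pbCone_fst g t c π hπ (op j)),
    ← Kc_comp (c'.π.app (op j)) (pullback.fst (t.app (op j)) g) _ (pbCone_fst g t c π hπ (op j))] at hx
  have h0 : Kc (c'.π.app (op j)) M q (Kc (pullback.fst (t.app (op j)) g) M q (z₁ - z₂)) = 0 := by
    rw [Kc_sub, Kc_sub, hx, sub_self]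
  obtain ⟨k, hk, hk0⟩ := (S0646.result (pbSys g t) haff
    (fun a => QuasiCompact.compactSpace_of_compactSpace (pullback.fst (t.app a) g))
    (fun a => quasiSeparatedSpace_of_quasiSeparated (pullback.fst (t.app a) g))
    c' (isLimitPbCone g t c π hπ hc) j (EtCoh.const _ M) q).2 j le_rfl
    ((Kc (pullback.fst (t.app (op j)) g) M q (z₁ - z₂)).comp
      (Ext.mk₀ (EtCore.pullConst ((pbSys g t).map (homOfLE (le_refl j)).op) M).inv) (add_zero q)) (by
      refine (EtAcycLib.bijective_comp_mk₀ (EtCore.pullConst (c'.π.app (op j)) M)).1 ?_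
      dsimp only
      rw [Ext.zero_comp, Kc_HpullVia, Ext.comp_assoc_of_third_deg_zero, Ext.mk₀_comp_mk₀, Iso.inv_hom_id,
        Ext.comp_mk₀_id]
      exact h0)
  have hid : (pbSys g t).map (homOfLE (le_refl j)).op = 𝟙 _ := (pbSys g t).map_id (op j)
  haveI := EtFound.pull_preservesFiniteLimits ((pbSys g t).map (homOfLE hk).op ≫ pullback.fst (t.app (op j)) g)
  have h1 : Kc (pullback.fst (t.app (op k)) g) M q (Kc (Xs.map (homOfLE hk).op) M q (z₁ - z₂)) = 0 := by
    rw [Kc_comp (pullback.fst (t.app (op k)) g) (Xs.map (homOfLE hk).op) ((pbSys g t).map (homOfLE hk).op ≫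
        pullback.fst (t.app (op j)) g) (isPullback_pbSys g t (homOfLE hk).op).w.symm,
      ← Kc_comp ((pbSys g t).map (homOfLE hk).op) (pullback.fst (t.app (op j)) g) _ rfl]
    have h2 := congrArg (fun r => Ext.comp r (Ext.mk₀ ((EtCoh.pull ((pbSys g t).map (homOfLE hk).op)).map
      (EtCore.pullConst ((pbSys g t).map (homOfLE (le_refl j)).op) M).hom)) (add_zero q)) hk0
    simp only [Ext.zero_comp, ← S8536.Hpull_comp_mk₀, Ext.comp_assoc_of_third_deg_zero, Ext.mk₀_comp_mk₀,
      Iso.inv_hom_id, Ext.comp_mk₀_id] at h2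
    rw [Kc, h2, Ext.zero_comp]
  have h3 : Kc (Xs.map (homOfLE hk).op) M q (z₁ - z₂) = 0 :=
    (Kc_injective_iff _ M q).1 (h (op k)) (h1.trans (Kc_zero _ M q).symm)
  have h4 : Kc (c.π.app (op j)) M q (z₁ - z₂) = 0 := by
    rw [← Kc_comp (c.π.app (op k)) (Xs.map (homOfLE hk).op) _ (c.w (homOfLE hk).op), h3, Kc_zero]
  rw [Kc_sub, sub_eq_zero] at h4
  exact h4

end Limit

variable {X W : Scheme.{u}} (g : X ⟶ W) (L : Set ℕ)

theorem injective_of_decomp {X Y : Scheme.{u}} (f : X ⟶ Y) [PreservesFiniteLimits (EtCoh.pull f)]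
    {M : Type} [AddCommGroup M] {κ : Type} [Fintype κ] {N : κ → Type} [∀ i, AddCommGroup (N i)]
    (p : ∀ i, M →+ N i) (s : ∀ i, N i →+ M) (hps : ∑ i, (s i).comp (p i) = AddMonoidHom.id M) (q : ℕ)
    (h : ∀ i (z : EtCoh.H Y (EtCoh.const Y M) q), EtCore.Hpull f (EtCoh.const Y (N i)) q
      (z.comp (Ext.mk₀ (constHom Y (p i))) (add_zero q)) = 0 →
        z.comp (Ext.mk₀ (constHom Y (p i))) (add_zero q) = 0) :
    Function.Injective (EtCore.Hpull f (EtCoh.const Y M) q) := by
  refine (injective_iff_map_eq_zero _).2 fun z hz => ?_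
  haveI : (EtCore.gsec Y).Additive :=
    inferInstanceAs (sheafToPresheaf Y.smallEtaleTopology AddCommGrpCat.{u + 1} ⋙
      (evaluation Y.Etaleᵒᵖ AddCommGrpCat.{u + 1}).obj (op (EtCoh.top Y))).Additive
  haveI : (constantSheaf Y.smallEtaleTopology AddCommGrpCat.{u + 1}).Additive :=
    (EtCore.constAdj Y).left_adjoint_additive
  have hid : ∑ i, constHom Y (p i) ≫ constHom Y (s i) = 𝟙 (EtCoh.const Y M) := by
    unfold constHom
    simp only [← Functor.map_comp, ← Functor.map_sum]
    refine (congrArg (constantSheaf Y.smallEtaleTopology AddCommGrpCat.{u + 1}).map ?_).trans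
      (CategoryTheory.Functor.map_id _ _)
    refine AddCommGrpCat.hom_ext (AddMonoidHom.ext fun a => ?_)
    let ev : (AddCommGrpCat.of (ULift.{u + 1} M) ⟶ AddCommGrpCat.of (ULift.{u + 1} M)) →+ M :=
      AddMonoidHom.mk' (fun φ => (φ.hom a).down) fun _ _ => rfl
    refine ULift.down_injective ((map_sum ev _ _).trans ?_)
    refine Eq.trans ?_ (DFunLike.congr_fun hps a.down)
    rw [AddMonoidHom.finsetSum_apply]
    exact Finset.sum_congr rfl fun i _ => rfl
  rw [← Ext.comp_mk₀_id z, ← hid, Ext.mk₀_sum, Ext.comp_sum]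
  refine Finset.sum_eq_zero fun i _ => ?_
  rw [← Ext.mk₀_comp_mk₀, ← Ext.comp_assoc_of_third_deg_zero,
    h i z (by rw [S8536.Hpull_comp_mk₀, hz, Ext.zero_comp]), Ext.zero_comp]

theorem intConstInj_of_finite [CompactSpace W] [QuasiSeparatedSpace W] [QuasiCompact g] [QuasiSeparated g]
    (hfin : ∀ (Y' : Scheme.{u}) (p : Y' ⟶ W) [IsFinite p] (ℓ : ℕ), ℓ.Prime → ℓ ∈ L → ∀ (ν : ℕ), 1 ≤ ν →
      ∀ [PreservesFiniteLimits (EtCoh.pull (pullback.fst p g))],
        Function.Injective (EtCore.Hpull (pullback.fst p g) (EtCoh.const Y' (ZMod (ℓ ^ ν))) 0)) :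
    IntConstInj g L := by
  intro Y π hπint M _ _ m hm hkill _
  classical
  obtain ⟨κ, hκ, p, hp, e, ⟨eq⟩⟩ := AddCommGroup.equiv_directSum_zmod_of_finite M
  let D := fun i : κ => ZMod (p i ^ e i)
  refine injective_of_decomp (pullback.fst π g) (N := D)
    (fun i => (DFinsupp.evalAddMonoidHom i).comp eq.toAddMonoidHom)
    (fun i => eq.symm.toAddMonoidHom.comp (DirectSum.of D i)) ?_ 0 fun i z hz => ?_
  · refine AddMonoidHom.ext fun a => ?_
    rw [AddMonoidHom.finsetSum_apply]
    refine Eq.trans ?_ (eq.symm_apply_apply a)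
    refine Eq.trans ?_ (congrArg eq.symm (DirectSum.sum_univ_of (eq a)))
    rw [map_sum]
    exact Finset.sum_congr rfl fun i _ => rfl
  · by_cases he : e i = 0
    · haveI : Subsingleton (D i) := by
        show Subsingleton (ZMod (p i ^ e i))
        rw [he, pow_zero]
        infer_instance
      have h0 : constHom Y ((DFinsupp.evalAddMonoidHom i).comp eq.toAddMonoidHom : M →+ D i) = 0 := by
        haveI : (constantSheaf Y.smallEtaleTopology AddCommGrpCat.{u + 1}).IsLeftAdjoint := (EtCore.constAdj Y).isLeftAdjoint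
        haveI : (constantSheaf Y.smallEtaleTopology AddCommGrpCat.{u + 1}).PreservesZeroMorphisms := inferInstance
        unfold constHom
        refine (congrArg _ ?_).trans ((constantSheaf Y.smallEtaleTopology AddCommGrpCat.{u + 1}).map_zero _ _)
        exact AddCommGrpCat.hom_ext (AddMonoidHom.ext fun a => ULift.down_injective (Subsingleton.elim _ _))
      rw [h0, Ext.mk₀_zero, Ext.comp_zero]
    · have hℓ : p i ∈ L := by
        refine hm.2 (p i) (hp i) ?_
        have h1 : m • (DirectSum.of D i 1 : DirectSum κ D) = 0 := by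
          have := congrArg eq (hkill (eq.symm (DirectSum.of D i 1)))
          rwa [map_nsmul, map_zero, eq.apply_symm_apply] at this
        rw [← map_nsmul] at h1
        have h2 : (m • (1 : ZMod (p i ^ e i))) = 0 :=
          DirectSum.of_injective (β := D) i (h1.trans (map_zero _).symm)
        rw [nsmul_one] at h2
        exact (dvd_pow_self (p i) he).trans ((ZMod.natCast_eq_zero_iff _ _).1 h2)
      obtain ⟨ι, _, _, _, Xs, c, hc, ec, t, hfinX, hcomp⟩ := exists_finite_limit_qcqs π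
      let c' := c.extend ec.inv
      have hc' : IsLimit c' := hc.extendIso ec.inv
      haveI : ∀ ⦃a b : ιᵒᵖ⦄ (h : a ⟶ b), IsAffineHom (Xs.map h) := fun a b h => by
        haveI := hfinX a
        haveI := hfinX b
        haveI : IsAffineHom (Xs.map h ≫ t.app b) := by
          rw [(t.naturality h).trans (Category.comp_id _)]
          infer_instance
        exact IsAffineHom.of_comp (Xs.map h) (t.app b)
      haveI : ∀ a, CompactSpace (Xs.obj a) := fun a => by
        haveI := hfinX a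
        haveI : CompactSpace ↥(((Functor.const ιᵒᵖ).obj W).obj a) := ‹CompactSpace W›
        exact QuasiCompact.compactSpace_of_compactSpace (t.app a)
      haveI : ∀ a, QuasiSeparatedSpace (Xs.obj a) := fun a => by
        haveI := hfinX a
        haveI : QuasiSeparatedSpace ↥(((Functor.const ιᵒᵖ).obj W).obj a) := ‹QuasiSeparatedSpace W›
        exact quasiSeparatedSpace_of_quasiSeparated (t.app a)
      have hπ' : ∀ a, c'.π.app a ≫ t.app a = π := fun a => by
        show (ec.inv ≫ c.π.app a) ≫ t.app a = π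
        rw [Category.assoc, hcomp a, Iso.inv_hom_id_assoc]
      have key := injective_limit g t c' π hπ' hc' (D i) 0 fun a => by
        intro _
        haveI := hfinX a
        exact hfin (Xs.obj a) (t.app a) (p i) (hp i) hℓ (e i) (Nat.one_le_iff_ne_zero.2 he)
      exact (injective_iff_map_eq_zero _).1 key _ hz

variable [PreservesFiniteLimits (EtCoh.pull g)] {L}

/-- Injectivity in degree zero for constructible sheaves killed by `m`. -/
theorem injective0_constructible [CompactSpace W] [QuasiSeparatedSpace W] (hI : IntConstInj g L)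
    (F : EtCoh.Ab W) (hF : EtPBC.IsConstructible F) (m : ℕ) (hm : EtAcyc.PrimesIn L m) (hFm : m • 𝟙 F = 0) :
    Function.Injective (EtCore.Hpull g F 0) := by
  obtain ⟨κ, _, Y, π, hπ, M, iM, fM, hkill, a, ha⟩ :=
    exists_embedding W F hF m ((killedBy_iff_nsmul m F).2 hFm)
  refine (injective_iff_map_eq_zero _).2 fun x hx => ?_
  obtain ⟨φ, rfl⟩ := (Ext.mk₀_bijective _ _).2 x
  rw [ha _ φ fun k => (Ext.mk₀_bijective _ _).1 ?_, Ext.mk₀_zero]
  haveI := hπ k
  haveI := pull_preservesFiniteLimits (pullback.fst (π k) g)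
  haveI := pull_preservesFiniteLimits (π k)
  haveI := pull_preservesFiniteLimits (pullback.snd (π k) g)
  let y : EtCoh.H W ((EtCoh.push (π k)).obj (EtCoh.const (Y k) (M k))) 0 := Ext.mk₀ (φ ≫ a k)
  have hy : EtCore.Hpull g _ 0 y = 0 := by
    have : y = (Ext.mk₀ φ).comp (Ext.mk₀ (a k)) (add_zero 0) := (Ext.mk₀_comp_mk₀ _ _).symm
    rw [this, S8536.Hpull_comp_mk₀, hx, Ext.zero_comp]
  rw [Ext.mk₀_zero]
  show y = 0
  refine (HofPush_bijective_zero (π k) _).1 ?_
  rw [map_zero]
  refine (@hI (Y k) (π k) (hπ k) (M k) (iM k) (fM k) m hm (hkill k) _) ?_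
  rw [map_zero, Hpull_HofPush_square (π k) g (pullback.snd (π k) g) (pullback.fst (π k) g) pullback.condition _ 0 y,
    hy, Ext.zero_comp, map_zero]

/-- Injectivity in degree zero passes to all torsion sheaves. -/
theorem injective0_torsion [CompactSpace W] [QuasiSeparatedSpace W] [QuasiCompact g] [QuasiSeparated g]
    (h : ∀ (E : EtCoh.Ab W) (m : ℕ), EtPBC.IsConstructible E → EtAcyc.PrimesIn L m → m • 𝟙 E = 0 →
      Function.Injective (EtCore.Hpull g E 0))
    (F : EtCoh.Ab W) (hF : EtAcyc.IsLTorsion L F) : Function.Injective (EtCore.Hpull g F 0) := by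
  haveI : (EtCoh.pull g).IsLeftAdjoint := (EtCoh.pullPushAdj g).isLeftAdjoint
  haveI : CompactSpace X := QuasiCompact.compactSpace_of_compactSpace g
  haveI : QuasiSeparatedSpace X := quasiSeparatedSpace_of_quasiSeparated g
  let D := TorsionInd.D F
  have hc := TorsionInd.isColimit F (isTorsion_of_isLTorsion hF)
  refine (injective_iff_map_eq_zero _).2 fun x hx => ?_
  obtain ⟨k, zk, rfl, hzk⟩ := exists_stage_Hpull_zero g 0 (TorsionInd.cocone F) hc x hx
  let a := (TorsionInd.cocone F).ι.app k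
  have hcon := TorsionInd.isConstructible_D F k
  obtain ⟨N, hN, hN0⟩ := exists_killedBy W hcon
  obtain ⟨m, hm, hma⟩ := exists_factor_killed hF a hN hN0
  let E := cokernel (m • 𝟙 (D.obj k))
  have hEm : m • 𝟙 E = 0 := by
    rw [← cancel_epi (cokernel.π (m • 𝟙 (D.obj k))), comp_zero, Preadditive.comp_nsmul, Category.comp_id]
    refine Eq.trans ?_ (cokernel.condition (m • 𝟙 (D.obj k)))
    rw [Preadditive.nsmul_comp, Category.id_comp]
  have hE0 : zk.comp (Ext.mk₀ (cokernel.π (m • 𝟙 (D.obj k)))) (add_zero 0) = 0 :=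
    h E m (isConstructible_cokernel _ hcon hcon) hm hEm (by rw [S8536.Hpull_comp_mk₀, hzk, Ext.zero_comp, map_zero])
  show zk.comp (Ext.mk₀ a) (add_zero 0) = 0
  rw [← cokernel.π_desc (m • 𝟙 (D.obj k)) a hma, ← Ext.mk₀_comp_mk₀, ← Ext.comp_assoc_of_third_deg_zero,
    hE0, Ext.zero_comp]

end Groth.Agent.AcycFin
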