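import Groth.Agent.AcycFin.PbSys
import Groth.Agent.MorLib.LimExists
import Groth.Agent.S2151

/-!
# Cones over systems affine over a base are limits if they are so affine-locally
-/

set_option autoImplicit false
set_option linter.style.haveILetI false
set_option backward.isDefEq.respectTransparency false
set_option backward.isDefEq.respectTransparency.types false

universe u

open CategoryTheory CategoryTheory.Limits AlgebraicGeometry Opposite

noncomputable section

namespace Groth.Agent.AcycFin

variable {S : Scheme.{u}} {ι : Type u} [Preorder ι] [IsDirected ι (· ≤ ·)] [Nonempty ι] {D : ιᵒᵖ ⥤ Scheme.{u}}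
  (t : D ⟶ (Functor.const ιᵒᵖ).obj S) (c : Cone D) (π : c.pt ⟶ S) (hπ : ∀ a, c.π.app a ≫ t.app a = π)

theorem isLimit_of_affine_locally [∀ a, IsAffineHom (t.app a)]
    (hU : ∀ U : S.affineOpens, Nonempty (IsLimit (pbCone U.1.ι t c π hπ))) : Nonempty (IsLimit c) := by
  haveI : ∀ (a b : ιᵒᵖ) (h : a ⟶ b), IsAffineHom (D.map h) := fun a b h => by
    haveI : IsAffineHom (D.map h ≫ t.app b) := by
      rw [(t.naturality h).trans (Category.comp_id _)]
      infer_instance
    exact IsAffineHom.of_comp (D.map h) (t.app b)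
  obtain ⟨L, hL, -⟩ := S2151.result D
  let j₀ : ιᵒᵖ := op (Classical.arbitrary ι)
  haveI : IsCofiltered ιᵒᵖ := inferInstance
  haveI : CategoryTheory.IsConnected ιᵒᵖ := IsCofiltered.isConnected _
  let πL : L.pt ⟶ S := L.π.app j₀ ≫ t.app j₀
  have hπL : ∀ a, L.π.app a ≫ t.app a = πL := fun a => by
    let τ := constant_of_preserves_morphisms (J := ιᵒᵖ) (fun a => L.π.app a ≫ t.app a) fun a b h => by
      rw [← L.w h, Category.assoc, (t.naturality h).trans (Category.comp_id _)]
    exact τ a j₀
  let u := hL.lift c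
  have hu : u ≫ πL = π := by
    rw [show πL = L.π.app j₀ ≫ t.app j₀ from rfl, ← Category.assoc, hL.fac, hπ]
  suffices IsIso u from ⟨IsLimit.ofPointIso hL (i := this)⟩
  let cov := (S.openCoverOfIsOpenCover (fun U : S.affineOpens => U.1) (iSup_affineOpens_eq_top S)).pullback₁ πL
  refine (IsZariskiLocalAtTarget.iff_of_openCover (P := MorphismProperty.isomorphisms Scheme.{u}) cov).2 fun U => ?_
  obtain ⟨hc⟩ := hU U
  have hcL : IsLimit (pbCone U.1.ι t L πL hπL) := isLimitPbCone U.1.ι t L πL hπL hL
  let v : pullback π U.1.ι ⟶ pullback πL U.1.ι :=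
    pullback.map π U.1.ι πL U.1.ι u (𝟙 _) (𝟙 _) (by rw [Category.comp_id, hu]) rfl
  have hv : v = hcL.lift (pbCone U.1.ι t c π hπ) := by
    refine hcL.hom_ext fun a => ?_
    rw [hcL.fac]
    refine pullback.hom_ext ?_ ?_
    · show (v ≫ (pbCone U.1.ι t L πL hπL).π.app a) ≫ _ = _
      rw [Category.assoc, pbCone_fst, pbCone_fst, pullback.lift_fst_assoc, Category.assoc, hL.fac]
    · show (v ≫ pullback.lift _ (pullback.snd πL U.1.ι) _) ≫ pullback.snd _ _ =
        pullback.lift _ (pullback.snd π U.1.ι) _ ≫ pullback.snd _ _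
      rw [Category.assoc, pullback.lift_snd, pullback.lift_snd, pullback.lift_snd]
      exact Category.comp_id _
  haveI : IsIso v := hv ▸ (inferInstance : IsIso (hc.conePointUniqueUpToIso hcL).hom)
  have hsq : IsPullback (pullback.fst π U.1.ι) v u (pullback.fst πL U.1.ι) := by
    refine IsPullback.flip (IsPullback.of_right (h₁₁ := v) (h₁₂ := pullback.snd πL U.1.ι) (h₂₁ := u) (h₂₂ := πL)
      (v₁₁ := pullback.fst π U.1.ι) (v₁₂ := pullback.fst πL U.1.ι) (v₁₃ := U.1.ι) ?_ (pullback.lift_fst _ _ _)
      (IsPullback.of_hasPullback πL U.1.ι).flip)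
    rw [hu, show v ≫ pullback.snd πL U.1.ι = pullback.snd π U.1.ι from
      (pullback.lift_snd _ _ _).trans (Category.comp_id _)]
    exact (IsPullback.of_hasPullback π U.1.ι).flip
  show IsIso (pullback.snd u (pullback.fst πL U.1.ι))
  rw [← hsq.isoPullback_inv_snd]
  infer_instance

end Groth.Agent.AcycFin
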