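import Groth.Agent.EtAcycLib.Basis
import Groth.Agent.AcycFin.Via
import Groth.Agent.EtFound.ConstAcyclic

/-!
# A class which is locally zero on the base comes from the base, when the lower direct images vanish
-/

set_option autoImplicit false
set_option linter.unusedSectionVars false
set_option linter.style.haveILetI false
set_option backward.isDefEq.respectTransparency false
set_option backward.isDefEq.respectTransparency.types false

universe u

open CategoryTheory CategoryTheory.Limits AlgebraicGeometry Opposite Abelian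

noncomputable section

namespace Groth.Agent.AcycFin

open Groth.Agent.BcQCalc Groth.Agent.EtLim8 Groth.Agent.EtAcycLib.UnitRpush

attribute [local instance] EtFound.pull_preservesFiniteLimits

variable {Y : Scheme.{u}}

/-- A map of sheaves vanishes if it vanishes on an étale cover. -/
theorem hom_eq_zero_of_cover {M N : EtCoh.Ab Y} (φ : M ⟶ N)
    (h : ∀ y : Y, ∃ V : Y.Etale, y ∈ Set.range V.hom.base ∧ (EtCoh.pull V.hom).map φ = 0) : φ = 0 := by
  -- vanishing on the schemes over a member of the cover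
  have h1 : ∀ (V U : Y.Etale) (f : U ⟶ V), (EtCoh.pull V.hom).map φ = 0 → φ.hom.app (op U) = 0 := by
    intro V U f h0
    have h2 : (EtCoh.pull U.hom).map φ = 0 := by
      let e := EtCore.pullCongr (MorphismProperty.Over.w f).symm ≪≫ EtCore.pullComp f.left V.hom
      haveI : (EtCoh.pull f.left).IsLeftAdjoint := (EtCoh.pullPushAdj f.left).isLeftAdjoint
      refine (cancel_mono (e.hom.app N)).1 (((e.hom.naturality φ).trans ?_).trans zero_comp.symm)
      refine (congrArg (e.hom.app M ≫ ·) ?_).trans comp_zero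
      exact (congrArg (EtCoh.pull f.left).map h0).trans (Functor.map_zero _ _ _)
    have e3 := secEquiv_natural φ U
    rw [h2, Functor.map_zero, zero_comp] at e3
    exact (cancel_epi (secEquiv M U).hom).1 (e3.symm.trans comp_zero.symm)
  refine Sheaf.hom_ext (NatTrans.ext (funext fun ⟨U⟩ => AddCommGrpCat.hom_ext (AddMonoidHom.ext fun s => ?_)))
  show φ.hom.app (op U) s = 0
  have hsep := ((isSheaf_iff_isSheaf_of_type _ _).1
    ((Presheaf.isSheaf_iff_isSheaf_forget _ _ (forget AddCommGrpCat.{u + 1})).1 N.property)).isSeparated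
  let S := Presheaf.equalizerSieve (F := N.obj) (φ.hom.app (op U) s) 0
  have hS : S ∈ Y.smallEtaleTopology U := by
    refine (EtFound.mem_topology_iff _).2 fun x => ?_
    obtain ⟨V, ⟨v, hv⟩, hV⟩ := h (U.hom.base x)
    haveI : AlgebraicGeometry.Etale V.hom := V.prop
    haveI : AlgebraicGeometry.Etale U.hom := U.prop
    obtain ⟨z, hz, -⟩ := Scheme.Pullback.exists_preimage_pullback (f := U.hom) (g := V.hom) x v hv.symm
    haveI : AlgebraicGeometry.Etale (pullback.fst U.hom V.hom) := MorphismProperty.pullback_fst U.hom V.hom V.prop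
    let W : Y.Etale := Scheme.Etale.mk (pullback.fst U.hom V.hom ≫ U.hom)
    let a : W ⟶ U := MorphismProperty.Over.homMk (pullback.fst U.hom V.hom) rfl trivial
    let b : W ⟶ V := MorphismProperty.Over.homMk (pullback.snd U.hom V.hom) pullback.condition.symm trivial
    refine ⟨W, a, z, ?_, hz⟩
    show N.obj.map a.op (φ.hom.app (op U) s) = N.obj.map a.op 0
    rw [map_zero, ← NatTrans.naturality_apply φ.hom a.op s, h1 V W b hV]
    rfl
  exact (hsep S hS).ext fun W f hf => hf

/-- A class in degree zero vanishes if it vanishes on an étale cover. -/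
theorem H0_eq_zero_of_cover (G : EtCoh.Ab Y) (c : EtCoh.H Y G 0)
    (h : ∀ y : Y, ∃ V : Y.Etale, y ∈ Set.range V.hom.base ∧ EtCore.Hpull V.hom G 0 c = 0) : c = 0 := by
  obtain ⟨φ, rfl⟩ := (Ext.mk₀_bijective _ _).2 c
  refine (congrArg Ext.mk₀ (hom_eq_zero_of_cover φ fun y => ?_)).trans (Ext.mk₀_zero _ _)
  obtain ⟨V, hy, h0⟩ := h y
  refine ⟨V, hy, ?_⟩
  haveI : (EtCoh.pull V.hom).IsLeftAdjoint := (EtCoh.pullPushAdj V.hom).isLeftAdjoint
  rw [EtMVLib.Hpull_apply, Ext.mapExactFunctor_mk₀, Ext.mk₀_comp_mk₀, ← Ext.mk₀_zero] at h0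
  have h1 := (Ext.mk₀_bijective _ _).1 h0
  exact (cancel_epi (EtCore.pullConst V.hom ℤ).inv).1 (h1.trans comp_zero.symm)

/-- A class of positive degree dies étale locally. -/
theorem exists_etale_kill : ∀ (q : ℕ) (G : EtCoh.Ab Y) (x : EtCoh.H Y G (q + 1)) (y : Y),
    ∃ V : Y.Etale, y ∈ Set.range V.hom.base ∧ EtCore.Hpull V.hom G (q + 1) x = 0 := by
  intro q
  induction q with
  | zero =>
    intro G x y
    let hT := EtCore.topIsTerminal Y
    let S : ShortComplex (EtCoh.Ab Y) := ShortComplex.mk (Injective.ι G) (cokernel.π _) (cokernel.condition _)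
    have hS' : S.ShortExact := { exact := ShortComplex.exact_cokernel _ }
    haveI : Injective S.X₂ := inferInstanceAs (Injective (Injective.under G))
    obtain ⟨c, rfl⟩ := Ext.covariant_sequence_exact₁ _ hS' x (Ext.eq_zero_of_injective _) (rfl : 0 + 1 = 1)
    haveI := hS'.epi_g
    haveI : Sheaf.IsLocallySurjective S.g := (Sheaf.isLocallySurjective_iff_epi' AddCommGrpCat.{u + 1} _).2 inferInstance
    obtain ⟨V, g, v, ⟨t, ht⟩, hv⟩ := (EtFound.mem_topology_iff _).1 (Presheaf.imageSieve_mem Y.smallEtaleTopology S.g.hom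
      (U := op (EtCoh.top Y)) (Sheaf.H.equiv₀ S.X₃ hT c)) y
    obtain rfl : g = hT.from V := hT.hom_ext _ _
    refine ⟨V, ⟨v, ((congrArg (fun r : V.left ⟶ Y => r.base v) (MorphismProperty.Over.w (hT.from V))).symm.trans
      ((Scheme.Hom.comp_apply _ _ _).trans hv))⟩, ?_⟩
    let d : (EtCoh.bc V.hom).obj (EtCoh.top Y) ⟶ (EtCoh.bc V.hom).obj V :=
      MorphismProperty.Over.homMk
        (pullback.lift (pullback.snd (EtCoh.top Y).hom V.hom) (pullback.snd (EtCoh.top Y).hom V.hom) rfl)
        (pullback.lift_snd _ _ _) trivial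
    have h := EtFound.FLCTorsor.Hpull_eq_zero_of_lift V.hom d (Iso.refl S.X₁) hS' c t ht
    rwa [Sheaf.H.map_apply, show (Iso.refl S.X₁).hom = 𝟙 S.X₁ from rfl, Ext.comp_mk₀_id] at h
  | succ q ih =>
    intro G x y
    let S : ShortComplex (EtCoh.Ab Y) := ShortComplex.mk (Injective.ι G) (cokernel.π _) (cokernel.condition _)
    have hS' : S.ShortExact := { exact := ShortComplex.exact_cokernel _ }
    haveI : Injective S.X₂ := inferInstanceAs (Injective (Injective.under G))
    obtain ⟨c, rfl⟩ := Ext.covariant_sequence_exact₁ _ hS' x (Ext.eq_zero_of_injective _) (rfl : q + 1 + 1 = q + 1 + 1)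
    obtain ⟨V, hy, hV⟩ := ih S.X₃ c y
    haveI : PreservesFiniteColimits (EtCoh.pull V.hom) :=
      haveI : (EtCoh.pull V.hom).IsLeftAdjoint := (EtCoh.pullPushAdj V.hom).isLeftAdjoint
      inferInstance
    refine ⟨V, hy, ?_⟩
    have h := S8536.Hpull_comp_extClass V.hom hS' (q + 1) c
    rw [hV, Ext.zero_comp] at h
    exact h

variable {X : Scheme.{u}} (g : X ⟶ Y)

/-- A class locally zero on the base is in the range of `H^n(Y, g_* G) → H^n(X, G)`. -/
theorem mem_range_HofPush_of_local : ∀ (n : ℕ) (G : EtCoh.Ab X),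
    (∀ j, j < n → IsZero ((EtCoh.Rpush g (j + 1)).obj G)) → ∀ ξ : EtCoh.H X G (n + 1),
    (∀ y : Y, ∃ V : Y.Etale, y ∈ Set.range V.hom.base ∧ EtCore.Hpull (pullback.snd V.hom g) G (n + 1) ξ = 0) →
    ξ ∈ Set.range (EtLim.HofPush g G (n + 1)) := by
  haveI : (EtCoh.push g).IsRightAdjoint := (EtCoh.pullPushAdj g).isRightAdjoint
  haveI : (EtCoh.pull g).IsLeftAdjoint := (EtCoh.pullPushAdj g).isLeftAdjoint
  let T := SESResLib.derivedLES (EtCoh.push g)
  intro n
  induction n with
  | zero =>
    intro G _ ξ hloc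
    let S := embSES G
    have hS : S.ShortExact := embSES_shortExact G
    haveI := hS.mono_f
    haveI : Injective S.X₂ := inferInstanceAs (Injective (Injective.under G))
    obtain ⟨z, hz⟩ := Ext.covariant_sequence_exact₁ _ hS ξ (Ext.eq_zero_of_injective _) (rfl : 0 + 1 = 1)
    obtain ⟨σ, hσ⟩ := (HofPush_bijective_zero g S.X₃).2 z
    let P : ShortComplex (EtCoh.Ab Y) :=
      ShortComplex.mk ((EtCoh.push g).map S.f) (cokernel.π ((EtCoh.push g).map S.f)) (cokernel.condition _)
    have hP : P.ShortExact :=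
      { exact := ShortComplex.exact_of_g_is_cokernel _ (cokernelIsCokernel _)
        mono_f := inferInstanceAs (Mono ((EtCoh.push g).map S.f))
        epi_g := inferInstanceAs (Epi (cokernel.π _)) }
    let k : P.X₃ ⟶ (EtCoh.push g).obj S.X₃ := cokernel.desc _ ((EtCoh.push g).map S.g)
      (((EtCoh.push g).map_comp _ _).symm.trans ((congrArg (EtCoh.push g).map S.zero).trans (Functor.map_zero _ _ _)))
    have hk : P.g ≫ k = (EtCoh.push g).map S.g := cokernel.π_desc _ _ _
    haveI : Mono k := by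
      refine Preadditive.mono_of_cancel_zero k fun {T₀} t ht => ?_
      obtain ⟨T', π, _, t', ht'⟩ := surjective_up_to_refinements_of_epi P.g t
      refine (cancel_epi π).1 (ht'.trans (Eq.trans ?_ comp_zero.symm))
      let hlim := (KernelFork.isLimitMapConeEquiv _ _).1 (isLimitOfPreserves (EtCoh.push g) hS.fIsKernel)
      have h0 : t' ≫ (EtCoh.push g).map S.g = 0 := by
        rw [← hk, ← Category.assoc, ← ht', Category.assoc, ht, comp_zero]
      obtain ⟨l, hl⟩ := KernelFork.IsLimit.lift' hlim t' h0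
      rw [← hl]
      refine (Category.assoc _ _ _).trans ?_
      exact (congrArg (l ≫ ·) P.zero).trans comp_zero
    let K : ShortComplex (EtCoh.Ab Y) := ShortComplex.mk k (cokernel.π k) (cokernel.condition _)
    have hK : K.ShortExact := { exact := ShortComplex.exact_of_g_is_cokernel _ (cokernelIsCokernel _) }
    have hσC : σ.comp (Ext.mk₀ K.g) (add_zero 0) = 0 := H0_eq_zero_of_cover _ _ fun y => by
      obtain ⟨V, hy, hV⟩ := hloc y
      refine ⟨V, hy, ?_⟩
      haveI : AlgebraicGeometry.Etale V.hom := V.prop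
      let a := V.hom
      let p' := pullback.fst a g
      let g' := pullback.snd a g
      have c : IsPullback g' p' g a := (IsPullback.of_hasPullback a g).flip
      haveI : (EtCoh.pull g').IsLeftAdjoint := (EtCoh.pullPushAdj g').isLeftAdjoint
      haveI : (EtCoh.pull a).IsLeftAdjoint := (EtCoh.pullPushAdj a).isLeftAdjoint
      haveI : ∀ M, IsIso (EtCoh.baseChange0 g a p' g' c.w M) := isIso_baseChange0_of_etale a g p' g' c
      have h1 : EtCore.Hpull g' S.X₁ 1 (z.comp hS.extClass rfl) = 0 := hz ▸ hV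
      rw [S8536.Hpull_comp_extClass g' hS 0 z] at h1
      obtain ⟨r, hr⟩ := Ext.covariant_sequence_exact₃ _ (hS.map_of_exact (EtCoh.pull g')) _ (rfl : 0 + 1 = 1) h1
      obtain ⟨r', rfl⟩ := (HofPush_bijective_zero p' _).2 r
      obtain ⟨r'', rfl⟩ := (EtAcycLib.bijective_comp_mk₀ (n := 0)
        (asIso (EtCoh.baseChange0 g a p' g' c.w S.X₂))).2 r'
      have h2 : EtCore.Hpull a ((EtCoh.push g).obj S.X₃) 0 σ =
          r''.comp (Ext.mk₀ ((EtCoh.pull a).map ((EtCoh.push g).map S.g))) (add_zero 0) := by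
        refine (EtAcycLib.bijective_comp_mk₀ (n := 0) (asIso (EtCoh.baseChange0 g a p' g' c.w S.X₃))).1 ?_
        refine (HofPush_bijective_zero p' _).1 ?_
        refine (Hpull_HofPush_square g a p' g' c.w S.X₃ 0 σ).symm.trans ?_
        rw [hσ]
        refine hr.symm.trans ?_
        refine (HofPush_natural p' ((EtCoh.pull g').map S.g) 0 _).symm.trans (congrArg _ ?_)
        simp only [asIso_hom, Ext.comp_assoc_of_third_deg_zero, Ext.mk₀_comp_mk₀, baseChange0_naturality]
      refine (S8536.Hpull_comp_mk₀ a K.g 0 σ).trans ?_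
      refine (congrArg (fun w => Ext.comp w (Ext.mk₀ ((EtCoh.pull a).map K.g)) (add_zero 0)) h2).trans ?_
      rw [Ext.comp_assoc_of_third_deg_zero, Ext.mk₀_comp_mk₀, ← Functor.map_comp]
      rw [show (EtCoh.push g).map S.g ≫ K.g = 0 by rw [← hk]; exact (Category.assoc _ _ _).trans ((congrArg (P.g ≫ ·) K.zero).trans comp_zero)]
      rw [Functor.map_zero, Ext.mk₀_zero, Ext.comp_zero]
    obtain ⟨t, ht⟩ := Ext.covariant_sequence_exact₂ _ hK σ hσC
    refine ⟨t.comp hP.extClass rfl, ?_⟩
    let adj := EtCoh.pullPushAdj g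
    let τ : P.map (EtCoh.pull g) ⟶ S :=
      { τ₁ := adj.counit.app S.X₁
        τ₂ := adj.counit.app S.X₂
        τ₃ := (adj.homEquiv _ _).symm k
        comm₁₂ := (adj.counit.naturality S.f).symm
        comm₂₃ := (adj.counit.naturality S.g).symm.trans ((Adjunction.homEquiv_counit adj _ _ _).symm.trans
          ((congrArg (adj.homEquiv _ _).symm hk.symm).trans (Adjunction.homEquiv_naturality_left_symm adj P.g k))) }
    refine (HofPush_apply g G 1 _).trans ((HpullThen_extClass g hP hS τ 0 t).trans ?_)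
    refine (congrArg (fun w => Ext.comp w hS.extClass rfl) ?_).trans hz
    refine (HpullThen_transpose g k 0 t).trans ?_
    rw [show t.comp (Ext.mk₀ k) (add_zero 0) = σ from ht, hσ]
  | succ n ih =>
    intro G hG ξ hloc
    let S := embSES G
    have hS : S.ShortExact := embSES_shortExact G
    haveI : Injective S.X₂ := inferInstanceAs (Injective (Injective.under G))
    have hS' := push_shortExact g hS (hG 0 (Nat.succ_pos n))
    obtain ⟨z, hz⟩ := Ext.covariant_sequence_exact₁ _ hS ξ (Ext.eq_zero_of_injective _) (rfl : n + 1 + 1 = n + 1 + 1)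
    have hQ : ∀ j, j < n → IsZero ((EtCoh.Rpush g (j + 1)).obj S.X₃) := fun j hj =>
      (T.exact₃ S hS (j + 1) (j + 2) rfl).isZero_X₂
        (((EtCoh.push g).isZero_rightDerived_obj_injective_succ j S.X₂).eq_of_src _ _)
        ((hG (j + 1) (by omega)).eq_of_tgt _ _)
    obtain ⟨t, ht⟩ := ih S.X₃ hQ z fun y => by
      obtain ⟨V, hy, hV⟩ := hloc y
      refine ⟨V, hy, ?_⟩
      haveI : AlgebraicGeometry.Etale V.hom := V.prop
      let g' := pullback.snd V.hom g
      haveI : AlgebraicGeometry.Etale g' := MorphismProperty.pullback_snd V.hom g V.prop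
      haveI := EtFound.jCont g'
      haveI : (EtCoh.pull g').IsLeftAdjoint := (EtCoh.pullPushAdj g').isLeftAdjoint
      haveI : Injective (S.map (EtCoh.pull g')).X₂ := EtLC12.AffineLocalAcyclic.injective_pull g' S.X₂
      have h1 : EtCore.Hpull g' S.X₁ (n + 1 + 1) (z.comp hS.extClass rfl) = 0 := hz ▸ hV
      rw [S8536.Hpull_comp_extClass g' hS (n + 1) z] at h1
      obtain ⟨r, hr⟩ := Ext.covariant_sequence_exact₃ _ (hS.map_of_exact (EtCoh.pull g')) _
        (rfl : n + 1 + 1 = n + 1 + 1) h1
      exact hr.symm.trans (by rw [Ext.eq_zero_of_injective r, Ext.zero_comp])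
    refine ⟨t.comp hS'.extClass rfl, ?_⟩
    refine (HpullThen_extClass g hS' hS (counitτ g S) (n + 1) t).trans ?_
    exact (congrArg (fun r => Ext.comp r hS.extClass rfl) ht).trans hz

end Groth.Agent.AcycFin
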