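import Groth.Agent.AcycFin.Extend
import Groth.Agent.AlgSpDec.EtStalkProps
import Mathlib.AlgebraicGeometry.Normalization

/-!
# The normalization in an absolutely flat scheme
-/

set_option autoImplicit false
set_option linter.unusedSectionVars false
set_option linter.style.haveILetI false
set_option backward.isDefEq.respectTransparency false
set_option backward.isDefEq.respectTransparency.types false

universe u

open CategoryTheory CategoryTheory.Limits AlgebraicGeometry Opposite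

noncomputable section

namespace Groth.Agent.AcycFin

/-- The conditions are local on the target. -/
theorem DenseExt.of_local {X Y : Scheme.{u}} (j : X ⟶ Y)
    (h : ∀ y : Y, ∃ (X' Y' : Scheme.{u}) (i : Y' ⟶ Y) (e : X' ⟶ X) (j' : X' ⟶ Y'), IsOpenImmersion i ∧
      IsOpenImmersion e ∧ y ∈ Set.range i ∧ e ≫ j = j' ≫ i ∧ Set.range e = j.base ⁻¹' Set.range i ∧ DenseExt j') :
    DenseExt j where
  strict y := by
    obtain ⟨X', Y', i, e, j', hi, he, ⟨y', rfl⟩, hsq, hr, hd⟩ := h y
    obtain ⟨h1, h2⟩ := hd.strict y'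
    haveI := h1
    haveI := h2
    exact (AlgSpDec.EtStalkProps.isStrictlyHenselian_of_ringEquiv
      (asIso (i.stalkMap y')).commRingCatIsoToRingEquiv.symm).2
  dense O := fun ⟨y, hy⟩ => by
    obtain ⟨X', Y', i, e, j', hi, he, ⟨y', rfl⟩, hsq, hr, hd⟩ := h y
    obtain ⟨x', hx'⟩ := hd.dense (i ⁻¹ᵁ O) ⟨y', hy⟩
    refine ⟨e x', ?_⟩
    show j (e x') ∈ O
    rw [← Scheme.Hom.comp_apply, hsq, Scheme.Hom.comp_apply]
    exact hx'
  extend O y hy := by
    obtain ⟨X', Y', i, e, j', hi, he, ⟨y', rfl⟩, hsq, hr, hd⟩ := h y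
    obtain ⟨O₁, hle, hy', hO₁⟩ := hd.extend (i ⁻¹ᵁ O) y' hy
    refine ⟨i ''ᵁ O₁, ?_, ⟨y', hy', rfl⟩, fun M F => ?_⟩
    · rintro _ ⟨z, hz, rfl⟩
      exact hle hz
    let ψ : C((j' ⁻¹ᵁ O₁ : X'.Opens), (j ⁻¹ᵁ (i ''ᵁ O₁) : X.Opens)) :=
      ⟨fun x => ⟨e x.1, ⟨j' x.1, x.2, (Scheme.Hom.comp_apply _ _ _).symm.trans
        ((congrArg (fun k : X' ⟶ Y => k x.1) hsq.symm).trans (Scheme.Hom.comp_apply _ _ _))⟩⟩,
        (e.continuous.comp continuous_subtype_val).subtype_mk _⟩
    obtain ⟨F'', hF''⟩ := hO₁ M (F.comap ψ)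
    let θ := (i.isoImage O₁).inv
    refine ⟨F''.comap ⟨fun z => θ z, θ.continuous⟩, fun x => ?_⟩
    obtain ⟨z, hz, hzx⟩ := x.2
    obtain ⟨x', hx'⟩ : x.1 ∈ Set.range e := hr.ge ⟨z, hzx⟩
    have hz' : j' x' = z := i.isOpenEmbedding.injective (by
      rw [← Scheme.Hom.comp_apply, ← hsq, Scheme.Hom.comp_apply, hx']
      exact hzx.symm)
    have hx'' : x' ∈ j' ⁻¹ᵁ O₁ := by
      show j' x' ∈ O₁
      rw [hz']
      exact hz
    have e1 : ψ ⟨x', hx''⟩ = x := Subtype.ext hx'
    refine (congrArg F e1.symm).trans ((hF'' ⟨x', hx''⟩).trans ?_)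
    show F'' _ = F'' (θ _)
    refine congrArg F'' (O₁.ι.isOpenEmbedding.injective (i.isOpenEmbedding.injective ?_))
    show i (j' x') = i (O₁.ι (θ ⟨j.base x.1, x.2⟩))
    rw [hz']
    refine hzx.trans ?_
    rw [← Scheme.Hom.comp_apply, ← Scheme.Hom.comp_apply, Scheme.Hom.isoImage_inv_ι]
    rfl

variable {P : Type u} [CommRing P] {S : Scheme.{u}} (f : Spec (CommRingCat.of P) ⟶ S)

theorem isClopen_of_compact_open (hQ : VNRegular P) {C : Set (PrimeSpectrum P)} (hC : IsCompact C) (ho : IsOpen C) :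
    IsClopen C := by
  obtain ⟨s, hs, hC'⟩ := (isCompact_open_iff_eq_finite_iUnion_of_isTopologicalBasis _
    PrimeSpectrum.isTopologicalBasis_basic_opens (fun r : P => PrimeSpectrum.isCompact_basicOpen r) C).1 ⟨hC, ho⟩
  rw [hC']
  exact hs.isClopen_biUnion fun r _ => hQ.isClopen_basicOpen r

theorem denseExt_toNormalization (hP : MonicSplit P) (hQ : VNRegular P) [QuasiCompact f] [QuasiSeparated f] :
    DenseExt f.toNormalization := by
  refine DenseExt.of_local _ fun y => ?_
  obtain ⟨U, hU, hyU, -⟩ := exists_isAffineOpen_mem_and_subset (x := f.fromNormalization y)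
    (U := (⊤ : S.Opens)) trivial
  let O := f ⁻¹ᵁ U
  obtain ⟨ε, hε, hεO⟩ := PrimeSpectrum.isClopen_iff.1
    (isClopen_of_compact_open hQ (f.isCompact_preimage hU.isCompact) O.2)
  have hOε : O = PrimeSpectrum.basicOpen ε := TopologicalSpace.Opens.ext hεO
  have hOaff : IsAffineOpen O := hOε ▸ (IsAffineOpen.Spec_basicOpen (R := CommRingCat.of P) ε)
  let res := ((Spec (CommRingCat.of P)).presheaf.map (homOfLE (le_top : O ≤ ⊤)).op).hom.comp
    (Scheme.ΓSpecIso (CommRingCat.of P)).inv.hom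
  have hres : Function.Surjective res := by
    intro z
    let t := (Scheme.ΓSpecIso (CommRingCat.of P)).inv.hom ε
    have hb : (Spec (CommRingCat.of P)).basicOpen t = O := by
      rw [hOε, basicOpen_eq_of_affine]
    letI := ((Spec (CommRingCat.of P)).presheaf.map (homOfLE (le_top : O ≤ ⊤)).op).hom.toAlgebra
    haveI : IsLocalization.Away t Γ(Spec (CommRingCat.of P), O) :=
      (isAffineOpen_top _).isLocalization_of_eq_basicOpen t _ hb.symm
    obtain ⟨n, a, ha⟩ := IsLocalization.Away.surj t z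
    have hu : algebraMap _ Γ(Spec (CommRingCat.of P), O) t = 1 := by
      refine (IsLocalization.Away.algebraMap_isUnit t).mul_left_cancel ?_
      rw [mul_one, ← map_mul, ← map_mul (Scheme.ΓSpecIso (CommRingCat.of P)).inv.hom, hε.eq]
    refine ⟨(Scheme.ΓSpecIso (CommRingCat.of P)).hom.hom a, ?_⟩
    rw [hu, one_pow, mul_one] at ha
    refine Eq.trans ?_ ha.symm
    show algebraMap _ _ ((Scheme.ΓSpecIso (CommRingCat.of P)).inv.hom _) = _
    exact congrArg _ (ConcreteCategory.congr_hom (Scheme.ΓSpecIso (CommRingCat.of P)).hom_inv_id a)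
  let Uo : S.affineOpens := ⟨U, hU⟩
  letI := (f.app U).hom.toAlgebra
  let ι : integralClosure Γ(S, U) Γ(Spec (CommRingCat.of P), O) →+* Γ(Spec (CommRingCat.of P), O) :=
    (integralClosure Γ(S, U) Γ(Spec (CommRingCat.of P), O)).val.toRingHom
  refine ⟨_, _, f.normalizationOpenCover.f Uo, hOaff.fromSpec, Spec.map (CommRingCat.ofHom ι),
    f.normalizationOpenCover.map_prop Uo, inferInstance, ?_, ?_, ?_,
    denseExt_spec ι Subtype.val_injective (hP.of_surjective res hres).integralClosure (hQ.of_surjective res hres)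
      fun e he => ⟨⟨e, isIntegral_idem he.eq⟩, rfl⟩⟩
  · have := f.fromNormalization_preimage Uo
    exact (congrArg (fun W : f.normalization.Opens => y ∈ (W : Set f.normalization)) this).mp hyU
  · rw [← hOaff.isoSpec_inv_ι, Category.assoc, Iso.inv_comp_eq]
    refine (f.ι_toNormalization Uo).trans ?_
    rw [IsAffineOpen.isoSpec_hom]
  · rw [IsAffineOpen.range_fromSpec]
    ext x
    show f x ∈ U ↔ f.toNormalization x ∈ (f.normalizationOpenCover.f Uo).opensRange
    rw [← f.fromNormalization_preimage Uo]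
    show f x ∈ U ↔ f.fromNormalization (f.toNormalization x) ∈ U
    rw [← Scheme.Hom.comp_apply, Scheme.Hom.toNormalization_fromNormalization]

end Groth.Agent.AcycFin
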