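import Groth.Agent.BcQCalc.Exist
import Groth.Agent.WEtLib.Olivier
import Groth.Agent.WEtLib.Stalks
import Groth.Agent.S0754
import Groth.Prelude.Def_EtAcyc

/-!
# Strict localizations of weakly étale schemes over a morphism
-/

set_option autoImplicit false
set_option linter.unusedSectionVars false
set_option linter.style.haveILetI false
set_option backward.isDefEq.respectTransparency false
set_option backward.isDefEq.respectTransparency.types false

universe u

open CategoryTheory CategoryTheory.Limits AlgebraicGeometry IsLocalRing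

noncomputable section

namespace Groth.Agent.AcycFin

/-- Strict henselizations transport along isomorphisms of the target. -/
theorem isStrictHenselization_of_bijective {A R₀ R : Type u} [CommRing A] [IsLocalRing A] [CommRing R₀] [IsLocalRing R₀]
    [CommRing R] [IsLocalRing R] [Algebra A R₀] [IsLocalHom (algebraMap A R₀)] [Algebra A R]
    [IsLocalHom (algebraMap A R)] [H : _root_.Hensel.IsStrictHenselization A R₀] [HenselianLocalRing R]
    [IsSepClosed (ResidueField R)]
    (e : R₀ ≃+* R) (he : e.toRingHom.comp (algebraMap A R₀) = algebraMap A R) :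
    _root_.Hensel.IsStrictHenselization A R := by
  haveI : IsLocalHom e.toRingHom := ⟨fun a ha => (isUnit_map_iff e a).1 ha⟩
  refine ⟨inferInstance, ⟨inferInstance, ?_⟩, fun T _ _ f _ τ hτ => ?_⟩
  · haveI := H.isSepClosure.separable
    let m : ResidueField R₀ →ₐ[ResidueField A] ResidueField R :=
      { ResidueField.map e.toRingHom with
        commutes' := fun a => by
          obtain ⟨a, rfl⟩ := residue_surjective a
          show ResidueField.map e.toRingHom (residue R₀ (algebraMap A R₀ a)) = residue R (algebraMap A R a)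
          rw [ResidueField.map_residue, ← he]
          rfl }
    refine AlgEquiv.Algebra.isSeparable (AlgEquiv.ofBijective m ⟨m.toRingHom.injective, fun z => ?_⟩)
    obtain ⟨z, rfl⟩ := residue_surjective z
    exact ⟨residue R₀ (e.symm z), (ResidueField.map_residue e.toRingHom _).trans (congrArg _ (e.apply_symm_apply z))⟩
  · have hτ' : (τ.comp (ResidueField.map e.toRingHom)).comp (ResidueField.map (algebraMap A R₀)) =
        ResidueField.map f := by
      refine Eq.trans (RingHom.ext fun a => ?_) hτ
      obtain ⟨a, rfl⟩ := residue_surjective a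
      simp only [RingHom.comp_apply, ResidueField.map_residue]
      rw [← he]
      rfl
    obtain ⟨g, ⟨hg, hgr⟩, hu⟩ := H.universal T f (τ.comp (ResidueField.map e.toRingHom)) hτ'
    refine ⟨g.comp e.symm.toRingHom, ⟨?_, fun x => ?_⟩, fun g' hg' => ?_⟩
    · rw [← hg, ← he]
      exact RingHom.ext fun a => congrArg g (e.symm_apply_apply _)
    · refine (hgr (e.symm x)).trans ?_
      rw [RingHom.comp_apply, ResidueField.map_residue]
      exact congrArg (fun y => τ (residue R y)) (e.apply_symm_apply x)
    · have h' := hu (g'.comp e.toRingHom) ⟨by rw [RingHom.comp_assoc, he, hg'.1], fun x => by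
        rw [RingHom.comp_apply, hg'.2, RingHom.comp_apply, ResidueField.map_residue]⟩
      exact RingHom.ext fun x => (congrArg g' (e.apply_symm_apply x)).symm.trans (RingHom.congr_fun h' (e.symm x))

/-- A strict henselization of a weakly étale local algebra is one of the base. -/
theorem isStrictHenselization_of_weaklyEtale {A A' R : Type u} [CommRing A] [IsLocalRing A] [CommRing A']
    [IsLocalRing A'] [CommRing R] [IsLocalRing R] [Algebra A A'] [IsLocalHom (algebraMap A A')]
    [Algebra A' R] [IsLocalHom (algebraMap A' R)] [Algebra A R] [IsScalarTower A A' R]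
    [IsLocalHom (algebraMap A R)] [Algebra.WeaklyEtale A A'] [H : _root_.Hensel.IsStrictHenselization A' R] :
    _root_.Hensel.IsStrictHenselization A R := by
  haveI : Algebra.WeaklyEtale A' R := S0736.result _ _ (S12237.result A' R)
  haveI : Algebra.WeaklyEtale A R := Algebra.WeaklyEtale.trans A A' R
  obtain ⟨R₀, _, _, _, _, hR₀⟩ := BcQCalc.exists_strictHens A
  haveI : Algebra.WeaklyEtale A R₀ := S0736.result _ _ (S12237.result A R₀)
  obtain ⟨ψ, hψl, hψ⟩ := BcQCalc.exists_strictMap (R := R₀) (R' := R) (algebraMap A A')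
  letI : Algebra R₀ R := ψ.toAlgebra
  haveI : IsLocalHom (algebraMap R₀ R) := hψl
  have hψ' : ψ.comp (algebraMap A R₀) = algebraMap A R := hψ.trans (IsScalarTower.algebraMap_eq A A' R).symm
  haveI : IsScalarTower A R₀ R := IsScalarTower.of_algebraMap_eq fun a => (RingHom.congr_fun hψ' a).symm
  haveI : Algebra.WeaklyEtale R₀ R := WEtLib.cancel (A := A) (B := R₀) R
  haveI : HenselianLocalRing R₀ := _root_.Hensel.IsStrictHenselization.henselian (R := A)
  haveI : IsSepClosed (ResidueField R₀) := BcQCalc.isSepClosed_residueField_of_strict A R₀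
  haveI : HenselianLocalRing R := H.henselian
  haveI : IsSepClosed (ResidueField R) := H.isSepClosure.sep_closed
  exact isStrictHenselization_of_bijective (RingEquiv.ofBijective ψ (WEtLib.bijective_algebraMap (A := R₀) (B := R))) hψ'

theorem weaklyEtale_stalkMap_congr {X' X : Scheme.{u}} (q : X' ⟶ X) [WeaklyEtale q] (x' : X') (x : X)
    (e : q x' = x) (φ : X.presheaf.stalk x →+* X'.presheaf.stalk x')
    (hφ : φ = ((X.presheaf.stalkCongr (.of_eq e.symm)).hom ≫ q.stalkMap x').hom) :
    letI := φ.toAlgebra; Algebra.WeaklyEtale (X.presheaf.stalk x) (X'.presheaf.stalk x') := by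
  subst e
  obtain rfl : φ = (q.stalkMap x').hom := by
    rw [hφ, TopCat.Presheaf.stalkCongr_hom, TopCat.Presheaf.stalkSpecializes_refl, Category.id_comp]
  exact (WEtLib.weaklyEtale_iff_stalkMap q).1 ‹_› x'

/-- Strict localizations of `h` are strict localizations of `g` along weakly étale maps `p`, `q`. -/
theorem onStrict_of_weaklyEtale {X Y X' Y' : Scheme.{u}} (g : X ⟶ Y) (h : X' ⟶ Y') (p : X' ⟶ X) (q : Y' ⟶ Y)
    [WeaklyEtale p] [WeaklyEtale q] (w : p ≫ g = h ≫ q) {P : ∀ ⦃A B : Scheme.{u}⦄, (A ⟶ B) → Prop}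
    (H : EtAcyc.OnStrictLocalizations g P) : EtAcyc.OnStrictLocalizations h P := by
  intro x' RY RX _ _ _ _ _ _ _ _ _ _ _ _ hc
  have e : q (h x') = g (p x') := (Scheme.Hom.comp_apply h q x').symm.trans
    ((congrArg (fun r : X' ⟶ Y => r x') w).symm.trans (Scheme.Hom.comp_apply p g x'))
  let φY : Y.presheaf.stalk (g (p x')) →+* Y'.presheaf.stalk (h x') :=
    ((Y.presheaf.stalkCongr (.of_eq e.symm)).hom ≫ q.stalkMap (h x')).hom
  let φX : X.presheaf.stalk (p x') →+* X'.presheaf.stalk x' := (p.stalkMap x').hom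
  letI : Algebra (Y.presheaf.stalk (g (p x'))) (Y'.presheaf.stalk (h x')) := φY.toAlgebra
  letI : Algebra (X.presheaf.stalk (p x')) (X'.presheaf.stalk x') := φX.toAlgebra
  haveI : IsLocalHom φY := by
    haveI : IsLocalHom (Y.presheaf.stalkCongr (.of_eq e.symm)).hom.hom := isLocalHom_of_isIso _
    exact RingHom.isLocalHom_comp (q.stalkMap (h x')).hom (Y.presheaf.stalkCongr (.of_eq e.symm)).hom.hom
  haveI : IsLocalHom (algebraMap (Y.presheaf.stalk (g (p x'))) (Y'.presheaf.stalk (h x'))) := ‹IsLocalHom φY›
  haveI : IsLocalHom (algebraMap (X.presheaf.stalk (p x')) (X'.presheaf.stalk x')) :=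
    inferInstanceAs (IsLocalHom (p.stalkMap x').hom)
  haveI : Algebra.WeaklyEtale (Y.presheaf.stalk (g (p x'))) (Y'.presheaf.stalk (h x')) :=
    weaklyEtale_stalkMap_congr q (h x') _ e φY rfl
  haveI : Algebra.WeaklyEtale (X.presheaf.stalk (p x')) (X'.presheaf.stalk x') :=
    (WEtLib.weaklyEtale_iff_stalkMap p).1 ‹_› x'
  letI : Algebra (Y.presheaf.stalk (g (p x'))) RY := ((algebraMap (Y'.presheaf.stalk (h x')) RY).comp φY).toAlgebra
  letI : Algebra (X.presheaf.stalk (p x')) RX := ((algebraMap (X'.presheaf.stalk x') RX).comp φX).toAlgebra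
  haveI : IsScalarTower (Y.presheaf.stalk (g (p x'))) (Y'.presheaf.stalk (h x')) RY :=
    IsScalarTower.of_algebraMap_eq fun _ => rfl
  haveI : IsScalarTower (X.presheaf.stalk (p x')) (X'.presheaf.stalk x') RX :=
    IsScalarTower.of_algebraMap_eq fun _ => rfl
  haveI : IsLocalHom (algebraMap (Y.presheaf.stalk (g (p x'))) RY) :=
    RingHom.isLocalHom_comp (algebraMap (Y'.presheaf.stalk (h x')) RY) φY
  haveI : IsLocalHom (algebraMap (X.presheaf.stalk (p x')) RX) :=
    RingHom.isLocalHom_comp (algebraMap (X'.presheaf.stalk x') RX)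
      (algebraMap (X.presheaf.stalk (p x')) (X'.presheaf.stalk x'))
  haveI := isStrictHenselization_of_weaklyEtale (A := ↑(Y.presheaf.stalk (g (p x'))))
    (A' := ↑(Y'.presheaf.stalk (h x'))) (R := RY)
  haveI := isStrictHenselization_of_weaklyEtale (A := ↑(X.presheaf.stalk (p x')))
    (A' := ↑(X'.presheaf.stalk x')) (R := RX)
  refine H (p x') RY RX ?_
  have sq : (Y.presheaf.stalkCongr (.of_eq e.symm)).hom ≫ q.stalkMap (h x') ≫ h.stalkMap x' =
      g.stalkMap (p x') ≫ p.stalkMap x' := by
    apply Spec.map_injective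
    rw [← cancel_mono (Y.fromSpecStalk (g (p x'))), Spec.map_comp, Spec.map_comp, Spec.map_comp,
      Category.assoc, Category.assoc, TopCat.Presheaf.stalkCongr_hom,
      Scheme.SpecMap_stalkSpecializes_fromSpecStalk, Scheme.SpecMap_stalkMap_fromSpecStalk,
      Scheme.SpecMap_stalkMap_fromSpecStalk_assoc, Category.assoc, Scheme.SpecMap_stalkMap_fromSpecStalk,
      Scheme.SpecMap_stalkMap_fromSpecStalk_assoc, w]
  show (algebraMap RY RX).comp ((algebraMap (Y'.presheaf.stalk (h x')) RY).comp φY) =
    ((algebraMap (X'.presheaf.stalk x') RX).comp φX).comp (g.stalkMap (p x')).hom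
  rw [← RingHom.comp_assoc, hc, RingHom.comp_assoc, RingHom.comp_assoc]
  exact congrArg (RingHom.comp _) (congrArg (fun r => r.hom) sq)

/-- The morphisms of strict localizations of `g` inherit properties of all strict localizations of `g`. -/
theorem onStrict_specMap {X Y : Scheme.{u}} (g : X ⟶ Y) (x : X) (RY RX : Type u) [CommRing RY] [CommRing RX]
    [IsLocalRing RY] [IsLocalRing RX]
    [Algebra (Y.presheaf.stalk (g x)) RY] [IsLocalHom (algebraMap (Y.presheaf.stalk (g x)) RY)]
    [_root_.Hensel.IsStrictHenselization (Y.presheaf.stalk (g x)) RY]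
    [Algebra (X.presheaf.stalk x) RX] [IsLocalHom (algebraMap (X.presheaf.stalk x) RX)]
    [_root_.Hensel.IsStrictHenselization (X.presheaf.stalk x) RX] [Algebra RY RX]
    (hc : (algebraMap RY RX).comp (algebraMap (Y.presheaf.stalk (g x)) RY) =
      (algebraMap (X.presheaf.stalk x) RX).comp (g.stalkMap x).hom)
    {P : ∀ ⦃A B : Scheme.{u}⦄, (A ⟶ B) → Prop} (H : EtAcyc.OnStrictLocalizations g P) :
    EtAcyc.OnStrictLocalizations (Spec.map (CommRingCat.ofHom (algebraMap RY RX))) P := by
  haveI := S0754.result X x RX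
  haveI := S0754.result Y (g x) RY
  refine onStrict_of_weaklyEtale g _ (Hens2.specOf X x RX) (Hens2.specOf Y (g x) RY) ?_ H
  have h1 : g.stalkMap x ≫ CommRingCat.ofHom (algebraMap (X.presheaf.stalk x) RX) =
      CommRingCat.ofHom (algebraMap (Y.presheaf.stalk (g x)) RY) ≫ CommRingCat.ofHom (algebraMap RY RX) :=
    CommRingCat.hom_ext hc.symm
  simp only [Hens2.specOf, Category.assoc]
  rw [← Scheme.SpecMap_stalkMap_fromSpecStalk, ← Category.assoc, ← Category.assoc, ← Spec.map_comp, h1,
    Spec.map_comp]

end Groth.Agent.AcycFin
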