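import Groth.Agent.EtFound.ConstExtend
import Groth.Agent.EtFound.ConstGeneric
import Groth.Agent.S0620
import Groth.Agent.S0090
import Groth.Agent.BcQCalc.Exist
import Groth.Agent.EtFound.FieldExt
import Groth.Agent.AcycFin.GeomFibres
import Groth.Agent.AcycFin.StrictLoc

/-!
# The generic point of a normal scheme with separably closed function field
-/

set_option autoImplicit false
set_option linter.unusedSectionVars false
set_option linter.style.haveILetI false
set_option backward.isDefEq.respectTransparency false
set_option backward.isDefEq.respectTransparency.types false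

universe u

open CategoryTheory CategoryTheory.Limits AlgebraicGeometry Opposite IsLocalRing

noncomputable section

namespace Groth.Agent.AcycFin

open EtFound EtFound.ConstVal

attribute [local instance] EtFound.pull_preservesFiniteLimits

theorem isIso_of_mono_of_factor {P A B C : Scheme.{u}} {fst : P ⟶ A} {snd : P ⟶ B} {a : A ⟶ C} {b : B ⟶ C}
    [Mono b] (c : IsPullback fst snd a b) (l : A ⟶ B) (hl : l ≫ b = a) : IsIso fst := by
  refine ⟨c.lift (𝟙 A) l (by rw [hl, Category.id_comp]), c.hom_ext ?_ ?_, c.lift_fst _ _ _⟩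
  · rw [Category.assoc, c.lift_fst, Category.comp_id, Category.id_comp]
  · rw [Category.assoc, c.lift_snd, Category.id_comp, ← cancel_mono b, Category.assoc, hl, c.w]

variable (Y : Scheme.{u}) [IsIntegral Y]

instance quasiCompact_fromSpecResidueField_generic : QuasiCompact (Y.fromSpecResidueField (genericPoint Y)) := by
  haveI : Subsingleton (Spec (Y.residueField (genericPoint Y))) :=
    inferInstanceAs (Subsingleton (PrimeSpectrum (Y.residueField (genericPoint Y))))
  exact ⟨fun U _ _ => Set.subsingleton_of_subsingleton.isCompact⟩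

theorem isSepClosed_functionField [IsSepClosed (Y.residueField (genericPoint Y))] : IsSepClosed Y.functionField :=
  haveI : IsSepClosed (ResidueField Y.functionField) := ‹IsSepClosed (Y.residueField (genericPoint Y))›
  isSepClosed_of_equiv (RingEquiv.ofBijective (residue Y.functionField)
    ⟨RingHom.injective _, residue_surjective⟩).symm

variable {Y}

/-- The constant sheaf is the direct image of its restriction to the generic point. -/
theorem isIso_unit_generic (hY : Pi1.IsNormalScheme Y) (M : AddCommGrpCat.{u + 1}) :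
    IsIso ((EtCoh.pullPushAdj (Y.fromSpecResidueField (genericPoint Y))).unit.app
      ((constantSheaf Y.smallEtaleTopology AddCommGrpCat.{u + 1}).obj M)) := by
  let f := Y.fromSpecResidueField (genericPoint Y)
  have hf : MaxInRange f := maxInRange_generic Y f
    ⟨Classical.arbitrary _, Scheme.fromSpecResidueField_apply _ _⟩
  haveI : IsPreimmersion f := inferInstanceAs (IsPreimmersion (Y.fromSpecResidueField (genericPoint Y)))
  have hd : ∀ (V : Y.Etale) (x : V.left), IsDomain (V.left.presheaf.stalk x) := fun V x => by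
    haveI : Etale V.hom := V.prop
    exact ((EtStalk.normal_stalk_iff V.hom x).2 (hY _)).1
  have h := constBy_const Y M (EtCoh.top Y)
  refine isIso_of_extend f h ((EtCoh.pullPushAdj f).unit.app _) (constBy_pull f h) (fun V hV => ?_) fun V v => ?_
  · haveI : Etale V.hom := V.prop
    obtain ⟨x⟩ := hV
    obtain ⟨a, -⟩ := exists_min_mem_range (IsPullback.of_hasPullback V.hom f) hf (hd V x)
    exact ⟨a⟩
  · obtain ⟨O, hO, hv, -⟩ := exists_isAffineOpen_mem_and_subset (U := (⊤ : V.left.Opens)) (x := v) trivial
    haveI : Etale V.hom := V.prop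
    let W : Y.Etale := Scheme.Etale.mk (O.ι ≫ V.hom)
    haveI : IsAffine W.left := hO
    haveI : CompactSpace ↥((𝟭 Scheme.{u}).obj W.left) := isCompact_iff_compactSpace.1 hO.isCompact
    haveI : Etale W.hom := W.prop
    exact ⟨W, MorphismProperty.Over.homMk O.ι rfl trivial, (⟨v, hv⟩ : O.toScheme), rfl,
      exists_extend (IsPullback.of_hasPullback W.hom f) hf (hd W)⟩

/-- Strict henselizations of the local rings are the local rings. -/
theorem mono_specOf (hY : Pi1.IsNormalScheme Y) [IsSepClosed (Y.residueField (genericPoint Y))] (y : Y) (R : Type u)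
    [CommRing R] [IsLocalRing R] [Algebra (Y.presheaf.stalk y) R] [IsLocalHom (algebraMap (Y.presheaf.stalk y) R)]
    [_root_.Hensel.IsStrictHenselization (Y.presheaf.stalk y) R] :
    Mono (Hens2.specOf Y y R) ∧ IsIso (Spec.map (CommRingCat.ofHom (algebraMap (Y.presheaf.stalk y) R))) := by
  haveI := isSepClosed_functionField Y
  obtain ⟨h1, h2⟩ := S0090.result Y (fun x => (hY x).2) y
  haveI := h1
  haveI := h2
  haveI : Algebra.WeaklyEtale (Y.presheaf.stalk y) R := S0736.result _ _ (S12237.result _ R)
  have hb := WEtLib.bijective_algebraMap (A := ↑(Y.presheaf.stalk y)) (B := R)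
  haveI : IsIso (CommRingCat.ofHom (algebraMap (Y.presheaf.stalk y) R)) :=
    (ConcreteCategory.isIso_iff_bijective _).2 hb
  exact ⟨mono_comp _ _, inferInstance⟩

theorem exists_factor_generic (hY : Pi1.IsNormalScheme Y) [IsSepClosed (Y.residueField (genericPoint Y))] (y : Y)
    (R : Type u) [CommRing R] [IsLocalRing R] [Algebra (Y.presheaf.stalk y) R]
    [IsLocalHom (algebraMap (Y.presheaf.stalk y) R)] [_root_.Hensel.IsStrictHenselization (Y.presheaf.stalk y) R] :
    ∃ l, l ≫ Hens2.specOf Y y R = Y.fromSpecResidueField (genericPoint Y) := by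
  haveI := (mono_specOf hY y R).2
  refine ⟨Spec.map (Y.residue (genericPoint Y)) ≫
    Spec.map (Y.presheaf.stalkSpecializes ((genericPoint_spec Y).specializes trivial)) ≫
    inv (Spec.map (CommRingCat.ofHom (algebraMap (Y.presheaf.stalk y) R))), ?_⟩
  rw [Hens2.specOf, Category.assoc, Category.assoc, IsIso.inv_hom_id_assoc,
    Scheme.SpecMap_stalkSpecializes_fromSpecStalk]
  rfl

/-- Higher direct images from the generic point vanish. -/
theorem isZero_Rpush_generic (hY : Pi1.IsNormalScheme Y) [IsSepClosed (Y.residueField (genericPoint Y))]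
    (G : EtCoh.Ab (Spec (Y.residueField (genericPoint Y)))) (q : ℕ) (hq : 1 ≤ q) :
    IsZero ((EtCoh.Rpush (Y.fromSpecResidueField (genericPoint Y)) q).obj G) := by
  let f := Y.fromSpecResidueField (genericPoint Y)
  refine (EtFound.isZero_iff_stalks _).2 fun Ω _ _ ξ => ?_
  let y : Y := ξ (closedPoint Ω)
  obtain ⟨R, _, _, _, _, hR⟩ := BcQCalc.exists_strictHens (Y.presheaf.stalk y)
  haveI : IsSepClosed (ResidueField R) := BcQCalc.isSepClosed_residueField_of_strict (Y.presheaf.stalk y) R
  obtain ⟨e⟩ := S0620.result f G y R q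
  haveI := (mono_specOf hY y R).1
  obtain ⟨l, hl⟩ := exists_factor_generic hY y R
  haveI : IsIso (pullback.fst f (Hens2.specOf Y y R)) :=
    isIso_of_mono_of_factor (IsPullback.of_hasPullback f (Hens2.specOf Y y R)) l hl
  haveI : Subsingleton (EtCoh.H (pullback f (Hens2.specOf Y y R))
      ((EtCoh.pull (pullback.fst f (Hens2.specOf Y y R))).obj G) q) := by
    haveI := subsingleton_H_sepClosed (Y.residueField (genericPoint Y)) G q hq
    exact (EtAcycLib.bijective_Hpull_of_isIso (pullback.fst f (Hens2.specOf Y y R)) G q).2.subsingleton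
  have h1 : IsZero ((EtCoh.stalk (Hens2.geomPt Y y R)).obj ((EtCoh.Rpush f q).obj G)) :=
    (AddCommGrpCat.isZero_of_subsingleton _).of_iso e
  obtain ⟨k, hk⟩ := BcQCalc.exists_fac_geomPt ξ R
  let ν : EtCoh.stalk (Hens2.geomPt Y y R) ≅ EtCoh.stalk (k ≫ Hens2.geomPt Y y R) :=
    EtFound.stalkExtIso AddCommGrpCat.{u + 1} (Hens2.geomPt Y y R) k
  exact hk ▸ h1.of_iso (ν.app _).symm

end Groth.Agent.AcycFin
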