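import Groth.Agent.AcycFin.FieldLocAcyc
import Groth.Agent.AcycFin.NormalGeneric
import Groth.Agent.AcycFin.StrictLoc
import Groth.Agent.AcycFin.BaseChangeN

/-!
# Base change of a locally acyclic morphism to the generic point of a normal scheme
-/

set_option autoImplicit false
set_option linter.unusedSectionVars false
set_option linter.style.haveILetI false
set_option backward.isDefEq.respectTransparency false
set_option backward.isDefEq.respectTransparency.types false

universe u

open CategoryTheory CategoryTheory.Limits AlgebraicGeometry Opposite Abelian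

noncomputable section

namespace Groth.Agent.AcycFin

attribute [local instance] EtFound.pull_preservesFiniteLimits

section Square

variable {A V W A' : Scheme.{u}} (p : A ⟶ V) (a : W ⟶ V) (p' : A' ⟶ W) (g' : A' ⟶ A) (w : g' ≫ p = p' ≫ a)
  (F : EtCoh.Ab V)

/-- The mate of the two inverse images. -/
def mateIso : (EtCoh.pull p').obj ((EtCoh.pull a).obj F) ⟶ (EtCoh.pull g').obj ((EtCoh.pull p).obj F) :=
  ((EtCoh.pullPushAdj p').homEquiv _ _).symm ((EtCoh.pull a).map ((EtCoh.pullPushAdj p).unit.app F) ≫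
    EtCoh.baseChange0 p a p' g' w ((EtCoh.pull p).obj F))

instance isIso_mateIso : IsIso (mateIso p a p' g' w F) :=
  EtAcycLib.UnitRpush.isIso_mate (EtCoh.pullPushAdj p) (EtCoh.pullPushAdj g')
    (EtCoh.pullPushAdj a) (EtCoh.pullPushAdj p')
    (EtCoh.pushComp p g' ≪≫ EtCoh.pushCongr w ≪≫ (EtCoh.pushComp a p').symm) F

/-- The unit and base change. -/
theorem isIso_map_unit_iff (hb : IsIso (EtCoh.baseChange0 p a p' g' w ((EtCoh.pull p).obj F))) :
    IsIso ((EtCoh.pull a).map ((EtCoh.pullPushAdj p).unit.app F)) ↔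
      IsIso ((EtCoh.pullPushAdj p').unit.app ((EtCoh.pull a).obj F)) := by
  haveI := hb
  have e : (EtCoh.pull a).map ((EtCoh.pullPushAdj p).unit.app F) ≫
      EtCoh.baseChange0 p a p' g' w ((EtCoh.pull p).obj F) =
      (EtCoh.pullPushAdj p').unit.app ((EtCoh.pull a).obj F) ≫ (EtCoh.push p').map (mateIso p a p' g' w F) :=
    (((EtCoh.pullPushAdj p').homEquiv _ _).apply_symm_apply _).symm.trans (Adjunction.homEquiv_unit _ _ _ _)
  constructor
  · intro h
    haveI : IsIso ((EtCoh.pullPushAdj p').unit.app ((EtCoh.pull a).obj F) ≫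
        (EtCoh.push p').map (mateIso p a p' g' w F)) := by rw [← e]; infer_instance
    exact IsIso.of_isIso_comp_right _ ((EtCoh.push p').map (mateIso p a p' g' w F))
  · intro h
    haveI : IsIso ((EtCoh.pull a).map ((EtCoh.pullPushAdj p).unit.app F) ≫
        EtCoh.baseChange0 p a p' g' w ((EtCoh.pull p).obj F)) := by rw [e]; infer_instance
    exact IsIso.of_isIso_comp_right _ (EtCoh.baseChange0 p a p' g' w ((EtCoh.pull p).obj F))

/-- The higher direct images and base change. -/
theorem isZero_map_Rpush_iff (q : ℕ) (hb : IsIso (EtBC.bcQ p a p' g' w q ((EtCoh.pull p).obj F))) :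
    IsZero ((EtCoh.pull a).obj ((EtCoh.Rpush p q).obj ((EtCoh.pull p).obj F))) ↔
      IsZero ((EtCoh.Rpush p' q).obj ((EtCoh.pull p').obj ((EtCoh.pull a).obj F))) := by
  haveI := hb
  exact ⟨fun h => (h.of_iso (asIso (EtBC.bcQ p a p' g' w q ((EtCoh.pull p).obj F))).symm).of_iso
      ((EtCoh.Rpush p' q).mapIso (asIso (mateIso p a p' g' w F))),
    fun h => (h.of_iso ((EtCoh.Rpush p' q).mapIso (asIso (mateIso p a p' g' w F))).symm).of_iso
      (asIso (EtBC.bcQ p a p' g' w q ((EtCoh.pull p).obj F)))⟩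

end Square

/-- Acyclicity of fibres transports along isomorphisms of the source. -/
theorem geomFibres_of_iso {L : Set ℕ} {n : ℕ} {A B S : Scheme.{u}} (e : A ⟶ B) [IsIso e] {g : B ⟶ S} {g' : A ⟶ S}
    (h : e ≫ g = g') (H : EtAcyc.GeomFibresAcyclicN L n g) : EtAcyc.GeomFibresAcyclicN L n g' := by
  subst h
  intro y Ω _ _ _ _
  exact isAcyclicSchemeN_of_iso (pullback.map (e ≫ g) (EtAcyc.geomPt S y Ω) g (EtAcyc.geomPt S y Ω)
    e (𝟙 _) (𝟙 _) (by simp) (by simp)) (H y Ω)

variable {X Y : Scheme.{u}} [IsIntegral Y]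

/-- Base change to the generic point commutes with higher direct images in the acyclicity range. -/
theorem isIso_bcQ_generic (hY : Pi1.IsNormalScheme Y) [IsSepClosed (Y.residueField (genericPoint Y))]
    (f : X ⟶ Y) (L : Set ℕ) (hL : ∃ ℓ ∈ L, ℓ.Prime) (n : ℕ) (hf : EtAcyc.IsLocAcyclicN f L n)
    {P : Scheme.{u}} (h : P ⟶ X) (e : P ⟶ Spec (Y.residueField (genericPoint Y)))
    (c : IsPullback e h (Y.fromSpecResidueField (genericPoint Y)) f)
    (G : EtCoh.Ab (Spec (Y.residueField (genericPoint Y)))) (hG : EtAcyc.IsLTorsion L G) (q : ℕ) (hq : q ≤ n) :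
    IsIso (EtBC.bcQ (Y.fromSpecResidueField (genericPoint Y)) f h e c.w q G) := by
  let η := Y.fromSpecResidueField (genericPoint Y)
  refine (BcQCalc.isIso_bcQ_iff_strict f η h e c G q).1 ?_
  intro x RS _ _ _ _ _ RX _ _ _ _ _ ψ _ hψ PS PX aS bS cS aX bX cX m w hm _
  letI : Algebra RS RX := ψ.toAlgebra
  haveI : IsLocalHom (algebraMap RS RX) := ‹IsLocalHom ψ›
  have hfib : EtAcyc.GeomFibresAcyclicN L n (Spec.map (CommRingCat.ofHom ψ)) :=
    (S3471.result f L hL n).1 hf x RS RX hψ
  have hsq : IsPullback m bX bS (Spec.map (CommRingCat.ofHom ψ)) := by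
    have hXS := BcQCalc.specMap_psi f x RS RX ψ hψ
    have cX' : IsPullback (m ≫ aS) bX η (Spec.map (CommRingCat.ofHom ψ) ≫ Hens2.specOf Y (f.base x) RS) := by
      rw [w, hXS]
      exact cX
    exact IsPullback.of_right cX' hm cS
  haveI := (mono_specOf hY (f.base x) RS).1
  obtain ⟨l, hl⟩ := exists_factor_generic hY (f.base x) RS
  haveI : IsIso aS := isIso_of_mono_of_factor cS l hl
  haveI : IsPreimmersion bS := MorphismProperty.of_isPullback (P := @IsPreimmersion) cS
    (inferInstanceAs (IsPreimmersion (Y.fromSpecResidueField (genericPoint Y))))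
  haveI : IsPreimmersion (inv aS ≫ bS) := inferInstance
  let m' : PX ⟶ Spec (Y.residueField (genericPoint Y)) := m ≫ aS
  have hsq' : IsPullback m' bX (inv aS ≫ bS) (Spec.map (CommRingCat.ofHom ψ)) :=
    hsq.of_iso (Iso.refl PX) (asIso aS) (Iso.refl _) (Iso.refl _) (by simp [m']) (by simp) (by simp) (by simp)
  haveI : QuasiCompact m' := MorphismProperty.of_isPullback (P := @QuasiCompact) hsq'.flip inferInstance
  haveI : QuasiSeparated m' := MorphismProperty.of_isPullback (P := @QuasiSeparated) hsq'.flip inferInstance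
  have hfib' : EtAcyc.GeomFibresAcyclicN L n m' :=
    geomFibres_of_iso (hsq'.isoIsPullback _ _ (IsPullback.of_hasPullback (Spec.map (CommRingCat.ofHom ψ))
      (inv aS ≫ bS)).flip).hom (hsq'.isoIsPullback_hom_fst _ _ _) (geomFibres_baseChange _ _ hfib)
  have hc := compN_of_isAcyclicN (isAcyclicN_over_sepClosed (Y.residueField (genericPoint Y)) m' L hL n hfib') G hG
  have hb : Function.Bijective (EtCore.Hpull m ((EtCoh.pull aS).obj G) q) :=
    (Function.Bijective.of_comp_iff _ (EtAcycLib.bijective_Hpull_of_isIso aS G q)).1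
      ((EtAcycLib.bijective_Hpull_comp_iff m aS m' rfl G q).1.1 (hc.1 q hq))
  have he : ⇑(EtCore.HpullVia m aS aX w G q) =
      (fun r => r.comp (Ext.mk₀ (EtLim8.pullCmp aS m aX w G).hom) (add_zero q)) ∘ ⇑(EtCore.Hpull m _ q) :=
    funext fun z => via_eq_comp m aS aX w G q z
  rw [he]
  exact (EtAcycLib.bijective_comp_mk₀ (EtLim8.pullCmp aS m aX w G)).comp hb

/-- A torsion constant sheaf on a scheme locally acyclic over a normal scheme comes from the generic fibre. -/
theorem unit_Rpush_const_generic (hY : Pi1.IsNormalScheme Y) [IsSepClosed (Y.residueField (genericPoint Y))]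
    (f : X ⟶ Y) (L : Set ℕ) (hL : ∃ ℓ ∈ L, ℓ.Prime) (n : ℕ) (hf : EtAcyc.IsLocAcyclicN f L n)
    {P : Scheme.{u}} (h : P ⟶ X) (e : P ⟶ Spec (Y.residueField (genericPoint Y)))
    (c : IsPullback e h (Y.fromSpecResidueField (genericPoint Y)) f) (M : AddCommGrpCat.{u + 1})
    (hM : EtAcyc.IsLTorsion L ((constantSheaf Y.smallEtaleTopology AddCommGrpCat.{u + 1}).obj M)) :
    IsIso ((EtCoh.pullPushAdj h).unit.app
      ((EtCoh.pull f).obj ((constantSheaf Y.smallEtaleTopology AddCommGrpCat.{u + 1}).obj M))) ∧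
      ∀ q : ℕ, 1 ≤ q → q ≤ n → IsZero ((EtCoh.Rpush h q).obj ((EtCoh.pull h).obj
        ((EtCoh.pull f).obj ((constantSheaf Y.smallEtaleTopology AddCommGrpCat.{u + 1}).obj M)))) := by
  let η := Y.fromSpecResidueField (genericPoint Y)
  let C := (constantSheaf Y.smallEtaleTopology AddCommGrpCat.{u + 1}).obj M
  have hG := EtAcycLib.isLTorsion_pull η hM
  have hb := fun q hq => isIso_bcQ_generic hY f L hL n hf h e c ((EtCoh.pull η).obj C) hG q hq
  have hb0 : IsIso (EtCoh.baseChange0 η f h e c.w ((EtCoh.pull η).obj C)) :=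
    S8537.isIso_baseChange0 f η e h c.w _ (hb 0 (Nat.zero_le n))
  refine ⟨(isIso_map_unit_iff η f h e c.w C hb0).1 ?_, fun q h1 h2 => (isZero_map_Rpush_iff η f h e c.w C q (hb q h2)).1
    ((EtCoh.pull f).map_isZero (isZero_Rpush_generic hY _ q h1))⟩
  haveI : IsIso ((EtCoh.pullPushAdj η).unit.app C) := isIso_unit_generic hY M
  infer_instance

end Groth.Agent.AcycFin
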