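import Groth.Agent.Hensel.IntegralStrict
import Mathlib.RingTheory.IntegralClosure.IsIntegralClosure.Basic
import Mathlib.AlgebraicGeometry.AffineScheme
import Mathlib.FieldTheory.IsAlgClosed.Basic
import Groth.Prelude.Def_EtBase
import Groth.Agent.AlgSpDec.EtStalkProps

/-!
# Rings in which every monic polynomial splits
-/

set_option autoImplicit false
set_option linter.unusedSectionVars false
set_option linter.style.haveILetI false

universe u

open Polynomial AlgebraicGeometry CategoryTheory

namespace Groth.Agent.AcycFin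

/-- Every monic polynomial is a product of linear factors. -/
def MonicSplit (A : Type u) [CommRing A] : Prop :=
  ∀ f : A[X], f.Monic → ∃ s : Multiset A, f = (s.map fun a => X - C a).prod

theorem monicSplit_of_root {A : Type u} [CommRing A]
    (h : ∀ f : A[X], f.Monic → 0 < f.natDegree → ∃ r, f.eval r = 0) : MonicSplit A := by
  intro f
  induction hd : f.natDegree using Nat.strong_induction_on generalizing f with
  | _ d ih =>
    intro hf
    rcases subsingleton_or_nontrivial A with hA | hA
    · exact ⟨0, Subsingleton.elim _ _⟩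
    rcases Nat.eq_zero_or_pos d with rfl | hpos
    · exact ⟨0, by rw [Multiset.map_zero, Multiset.prod_zero]; exact hf.natDegree_eq_zero.1 hd⟩
    obtain ⟨r, hr⟩ := h f hf (hd ▸ hpos)
    have hfac : (X - C r) * (f /ₘ (X - C r)) = f := (mul_divByMonic_eq_iff_isRoot).2 hr
    have hg : (f /ₘ (X - C r)).Monic := (monic_X_sub_C r).of_mul_monic_left (by rw [hfac]; exact hf)
    have hdeg : (f /ₘ (X - C r)).natDegree < d := by
      rw [natDegree_divByMonic f (monic_X_sub_C r), natDegree_X_sub_C, hd]; omega
    obtain ⟨s, hs⟩ := ih _ hdeg _ rfl hg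
    exact ⟨r ::ₘ s, by rw [Multiset.map_cons, Multiset.prod_cons, ← hs, hfac]⟩

theorem MonicSplit.root {A : Type u} [CommRing A] (h : MonicSplit A) (f : A[X]) (hf : f.Monic)
    (hd : 0 < f.natDegree) : ∃ r, f.eval r = 0 := by
  rcases subsingleton_or_nontrivial A with hA | hA
  · exact ⟨0, Subsingleton.elim _ _⟩
  obtain ⟨s, hs⟩ := h f hf
  obtain ⟨r, hr⟩ : ∃ r, r ∈ s := by
    refine Multiset.card_pos_iff_exists_mem.mp ?_
    rwa [hs, natDegree_multiset_prod_X_sub_C_eq_card] at hd
  refine ⟨r, ?_⟩
  rw [hs, eval_multiset_prod]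
  exact Multiset.prod_eq_zero (Multiset.mem_map.mpr ⟨X - C r, Multiset.mem_map.mpr ⟨r, hr, rfl⟩, by simp⟩)

theorem monicSplit_pi {ι : Type u} (K : ι → Type u) [∀ i, Field (K i)] [∀ i, IsAlgClosed (K i)] :
    MonicSplit (∀ i, K i) := monicSplit_of_root fun g hg hd => by
  have h : ∀ i, ∃ r, (g.map (Pi.evalRingHom K i)).eval r = 0 := fun i =>
    IsAlgClosed.exists_root _ (by
      haveI : Nontrivial (K i) := inferInstance
      rw [hg.degree_map]
      exact (natDegree_pos_iff_degree_pos.1 hd).ne')
  choose r hr using h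
  refine ⟨r, funext fun i => ?_⟩
  have := hr i
  rw [eval_map] at this
  exact (hom_eval₂ g (RingHom.id (∀ i, K i)) (Pi.evalRingHom K i) r).trans this

theorem MonicSplit.integralClosure {A P : Type u} [CommRing A] [CommRing P] [Algebra A P] (h : MonicSplit P) :
    MonicSplit (integralClosure A P) := monicSplit_of_root fun g hg hd => by
  rcases subsingleton_or_nontrivial P with hP | hP
  · exact ⟨0, Subsingleton.elim _ _⟩
  obtain ⟨r, hr⟩ := h.root (g.map (algebraMap (_root_.integralClosure A P) P)) (hg.map _)
    (by rwa [hg.natDegree_map])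
  have hint : IsIntegral (_root_.integralClosure A P) r := ⟨g, hg, by rwa [← eval_map]⟩
  let rr : _root_.integralClosure A P := ⟨r, isIntegral_trans (R := A) r hint⟩
  refine ⟨rr, Subtype.coe_injective ?_⟩
  show algebraMap (_root_.integralClosure A P) P (g.eval rr) = algebraMap (_root_.integralClosure A P) P 0
  rw [map_zero, ← hr, eval_map, ← eval₂_at_apply]
  rfl

/-- Idempotents of the big ring are integral. -/
theorem isIntegral_idem {A P : Type u} [CommRing A] [CommRing P] [Algebra A P] {e : P} (he : e * e = e) :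
    IsIntegral A e :=
  ⟨X ^ 2 - X, monic_X_pow_sub (n := 2) (lt_of_le_of_lt degree_X_le (by norm_num)),
    by rw [eval₂_sub, eval₂_X_pow, eval₂_X, sq, he, sub_self]⟩

theorem MonicSplit.strictlyHenselian_spec {B : Type u} [CommRing B] (h : MonicSplit B)
    (s : (Spec (CommRingCat.of B) : Scheme.{u})) :
    EtCoh.IsStrictlyHenselianLocalRing ((Spec (CommRingCat.of B)).presheaf.stalk s) := by
  obtain ⟨h1, h2⟩ := Groth.Agent.Hensel.strictlyHenselian_localization_of_split h (s : PrimeSpectrum B).asIdeal
  haveI := h1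
  haveI := h2
  let e : Localization.AtPrime (s : PrimeSpectrum B).asIdeal ≃+* ((Spec (CommRingCat.of B)).presheaf.stalk s) :=
    (StructureSheaf.stalkIso B s).toRingEquiv
  exact (AlgSpDec.EtStalkProps.isStrictlyHenselian_of_ringEquiv e).2

end Groth.Agent.AcycFin
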