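import Groth.Agent.AcycFin.GeomFibres
import Groth.Agent.EtFound.ConstAcyclic

/-!
# Acyclic schemes from cohomology with coefficients `ℤ/m`
-/

set_option autoImplicit false
set_option linter.unusedSectionVars false
set_option linter.style.haveILetI false
set_option backward.isDefEq.respectTransparency false
set_option backward.isDefEq.respectTransparency.types false

universe u

open CategoryTheory CategoryTheory.Limits AlgebraicGeometry Opposite Abelian

noncomputable section

namespace Groth.Agent.AcycFin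

attribute [local instance] EtFound.pull_preservesFiniteLimits

theorem constHom_comp (P : Scheme.{u}) {M N K : Type} [AddCommGroup M] [AddCommGroup N] [AddCommGroup K]
    (φ : M →+ N) (ψ : N →+ K) : constHom P φ ≫ constHom P ψ = constHom P (ψ.comp φ) := by
  rw [constHom, constHom, constHom, ← Functor.map_comp]
  rfl

/-- The maps `ℤ/a → ℤ/ab → ℤ/b` give a short exact sequence of constant sheaves. -/
theorem exists_shortExact_zmod (P : Scheme.{u}) (a b : ℕ) (ha : 0 < a) (hb : 0 < b) :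
    ∃ (i : ZMod a →+ ZMod (a * b)) (p : ZMod (a * b) →+ ZMod b) (w : constHom P i ≫ constHom P p = 0),
      (ShortComplex.mk _ _ w).ShortExact ∧ Function.Surjective p := by
  let i : ZMod a →+ ZMod (a * b) := ZMod.lift a
    ⟨(AddMonoidHom.mulLeft (b : ZMod (a * b))).comp (Int.castAddHom _), by
      show (b : ZMod (a * b)) * ((a : ℕ) : ℤ) = 0
      rw [Int.cast_natCast, ← Nat.cast_mul, mul_comm]
      exact ZMod.natCast_self _⟩
  let p : ZMod (a * b) →+ ZMod b := (ZMod.castHom (dvd_mul_left b a) (ZMod b)).toAddMonoidHom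
  have hi : ∀ z : ℤ, i (z : ZMod a) = (b : ZMod (a * b)) * (z : ZMod (a * b)) := fun z => ZMod.lift_coe _ _ z
  have hp : ∀ z : ℤ, p (z : ZMod (a * b)) = (z : ZMod b) := fun z =>
    map_intCast (ZMod.castHom (dvd_mul_left b a) (ZMod b)) z
  have hip : ∀ x, p (i x) = 0 := fun x => by
    obtain ⟨z, rfl⟩ := ZMod.intCast_surjective x
    rw [hi, ← Int.cast_natCast (R := ZMod (a * b)) b, ← Int.cast_mul, hp, Int.cast_mul, Int.cast_natCast,
      ZMod.natCast_self, zero_mul]
  have hp' : Function.Surjective p := fun y => by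
    obtain ⟨z, hz⟩ := ZMod.intCast_surjective y
    exact ⟨z, (hp z).trans hz⟩
  let up : ∀ {M N : Type}, [AddCommGroup M] → [AddCommGroup N] → (M →+ N) →
      (AddCommGrpCat.of (ULift.{u + 1} M) ⟶ AddCommGrpCat.of (ULift.{u + 1} N)) := fun φ =>
    AddCommGrpCat.ofHom ((AddEquiv.ulift.symm.toAddMonoidHom.comp φ).comp AddEquiv.ulift.toAddMonoidHom)
  let S : ShortComplex AddCommGrpCat.{u + 1} := ShortComplex.mk (up i) (up p)
    (AddCommGrpCat.hom_ext (AddMonoidHom.ext fun x => ULift.down_injective (hip x.down)))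
  have hS : S.ShortExact := by
    refine ShortComplex.ShortExact.mk' ?_ ?_ ?_
    · refine (ShortComplex.ab_exact_iff S).2 fun x hx => ?_
      obtain ⟨z, hz⟩ := ZMod.intCast_surjective x.down
      have h0 : p x.down = 0 := congrArg ULift.down hx
      rw [← hz, hp] at h0
      obtain ⟨w, rfl⟩ := (ZMod.intCast_zmod_eq_zero_iff_dvd _ _).1 h0
      refine ⟨ULift.up (w : ZMod a), ULift.down_injective ?_⟩
      show i (w : ZMod a) = x.down
      rw [hi, ← hz, Int.cast_mul, Int.cast_natCast]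
    · refine (AddCommGrpCat.mono_iff_injective _).2 ((injective_iff_map_eq_zero _).2 fun x hx => ?_)
      obtain ⟨z, hz⟩ := ZMod.intCast_surjective x.down
      refine ULift.down_injective ?_
      have h0 : i x.down = 0 := congrArg ULift.down hx
      rw [← hz, hi, ← Int.cast_natCast (R := ZMod (a * b)) b, ← Int.cast_mul,
        ZMod.intCast_zmod_eq_zero_iff_dvd, mul_comm a b, Nat.cast_mul] at h0
      show x.down = 0
      rw [← hz, ZMod.intCast_zmod_eq_zero_iff_dvd]
      exact (mul_dvd_mul_iff_left (by exact_mod_cast hb.ne')).1 h0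
    · exact (AddCommGrpCat.epi_iff_surjective _).2 fun y =>
        ⟨ULift.up (hp' y.down).choose, ULift.down_injective (hp' y.down).choose_spec⟩
  haveI : (constantSheaf P.smallEtaleTopology AddCommGrpCat.{u + 1}).IsLeftAdjoint :=
    (EtCore.constAdj P).isLeftAdjoint
  exact ⟨i, p, _, shortExact_const P hS, hp'⟩

theorem isEmpty_elim_H0 (P : Scheme.{u}) (m : ℕ) (hm : 2 ≤ m)
    (e : EtCoh.H P (EtCoh.const P (ZMod m)) 0 ≃+ ZMod m) : Nonempty P := by
  by_contra h
  haveI : IsEmpty P := not_nonempty_iff.1 h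
  haveI := EtFound.ConstAcyclic.subsingleton_H_of_isEmpty (EtCoh.const P (ZMod m)) 0
  haveI : Subsingleton (ZMod m) := e.symm.toEquiv.subsingleton
  haveI : Fact (1 < m) := ⟨hm⟩
  exact one_ne_zero (Subsingleton.elim (1 : ZMod m) 0)

/-- On a connected scheme reduction of constant global sections is surjective. -/
theorem surjective_H0_reduction (P : Scheme.{u}) [ConnectedSpace P] {M : Type} [AddCommGroup M] (d : ℕ) [NeZero d]
    (p : M →+ ZMod d) (hp : Function.Surjective p) :
    Function.Surjective (fun y : EtCoh.H P (EtCoh.const P M) 0 => y.comp (Ext.mk₀ (constHom P p)) (add_zero 0)) := by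
  let c : ZMod d → EtCoh.H P (EtCoh.const P (ZMod d)) 0 := fun k =>
    Ext.mk₀ (constHom P (zmultiplesHom (ZMod d) k))
  have hc : Function.Injective c := fun k k' h => by
    have h1 := (Ext.mk₀_bijective _ _).1 h
    haveI : (constantSheaf P.smallEtaleTopology AddCommGrpCat.{u + 1}).IsLeftAdjoint :=
      (EtCore.constAdj P).isLeftAdjoint
    haveI : (constantSheaf P.smallEtaleTopology AddCommGrpCat.{u + 1}).Additive :=
      (EtCore.constAdj P).left_adjoint_additive
    have h2 : zmultiplesHom (ZMod d) k - zmultiplesHom (ZMod d) k' = 0 := by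
      refine constHom_eq_zero (X := P) _ (Eq.trans ?_ (sub_eq_zero.2 h1))
      rw [constHom, constHom, constHom, ← Functor.map_sub]
      rfl
    simpa using DFunLike.congr_fun (sub_eq_zero.1 h2) 1
  have hcard := EtFound.ConstVal.natCard_H0_const P (ZMod d)
  haveI : Finite (EtCoh.H P (EtCoh.const P (ZMod d)) 0) :=
    Nat.finite_of_card_ne_zero (hcard ▸ Nat.card_pos.ne')
  have hb := (Nat.bijective_iff_injective_and_card c).2 ⟨hc, hcard.symm⟩
  intro z
  obtain ⟨k, rfl⟩ := hb.2 z
  obtain ⟨k', hk'⟩ := hp k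
  refine ⟨Ext.mk₀ (constHom P (zmultiplesHom M k')), ?_⟩
  show (Ext.mk₀ (constHom P (zmultiplesHom M k'))).comp (Ext.mk₀ (constHom P p)) (add_zero 0) = _
  rw [Ext.mk₀_comp_mk₀, constHom_comp]
  refine congrArg (fun φ => Ext.mk₀ (constHom P φ)) (AddMonoidHom.ext_int ?_)
  simp [hk']

/-- A scheme over a field with `H⁰(ℤ/m) = ℤ/m` is connected. -/
theorem connectedSpace_of_zmod (P : Scheme.{u}) (Ω : Type u) [Field Ω] (f : P ⟶ Spec (CommRingCat.of Ω)) (m : ℕ)
    (hm : 2 ≤ m) (e : EtCoh.H P (EtCoh.const P (ZMod m)) 0 ≃+ ZMod m) : ConnectedSpace P := by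
  haveI := isEmpty_elim_H0 P m hm e
  haveI := connectedSpace_specField Ω
  obtain ⟨ℓ, hℓ, hd⟩ := Nat.exists_prime_and_dvd (show m ≠ 1 by omega)
  obtain ⟨c, rfl⟩ := hd
  haveI : NeZero (ℓ * c) := ⟨by omega⟩
  haveI : NeZero ℓ := ⟨hℓ.ne_zero⟩
  refine connectedSpace_of_H0 P f ℓ hℓ ((Kc_surjective_iff f (ZMod ℓ) 0).2 ?_)
  haveI : Surjective f := ⟨fun z => ⟨Classical.arbitrary _, by
    haveI : Subsingleton (Spec (CommRingCat.of Ω)) := inferInstanceAs (Subsingleton (PrimeSpectrum Ω))
    exact Subsingleton.elim _ _⟩⟩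
  have hi : Function.Injective (Kc f (ZMod ℓ) 0) :=
    (EtAcycLib.bijective_comp_mk₀ (EtCore.pullConst f (ZMod ℓ))).1.comp (injective_Hpull_zero f _)
  obtain ⟨i, p, w, hS, -⟩ := exists_shortExact_zmod P ℓ c hℓ.pos (Nat.pos_of_ne_zero (right_ne_zero_of_mul (NeZero.ne (ℓ * c))))
  haveI : Mono (constHom P i) := hS.mono_f
  let ι : EtCoh.H P (EtCoh.const P (ZMod ℓ)) 0 → EtCoh.H P (EtCoh.const P (ZMod (ℓ * c))) 0 := fun z =>
    z.comp (Ext.mk₀ (constHom P i)) (add_zero 0)
  have hι : ∀ z, ℓ • e (ι z) = 0 := fun z => by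
    haveI : (constantSheaf P.smallEtaleTopology AddCommGrpCat.{u + 1}).Additive :=
      (EtCore.constAdj P).left_adjoint_additive
    have h0 : ℓ • constHom P i = 0 := by
      show ℓ • (constantSheaf P.smallEtaleTopology AddCommGrpCat.{u + 1}).map _ = 0
      rw [← Functor.map_nsmul, ← Functor.map_zero (constantSheaf P.smallEtaleTopology AddCommGrpCat.{u + 1})]
      refine congrArg _ (AddCommGrpCat.hom_ext (AddMonoidHom.ext fun x => ULift.down_injective ?_))
      show ℓ • i x.down = 0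
      rw [← map_nsmul, nsmul_eq_mul, ZMod.natCast_self, zero_mul, map_zero]
    rw [← map_nsmul]
    refine (congrArg e ?_).trans (map_zero e)
    show ℓ • z.comp (Ext.mk₀ (constHom P i)) (add_zero 0) = 0
    have hk : (Ext.mk₀ (ℓ • constHom P i) : Ext _ _ 0) = ℓ • Ext.mk₀ (constHom P i) :=
      map_nsmul (Ext.addEquiv₀ (C := EtCoh.Ab P)).symm ℓ (constHom P i)
    rw [h0, Ext.mk₀_zero] at hk
    let φ : Ext (EtCoh.const P (ZMod ℓ)) (EtCoh.const P (ZMod (ℓ * c))) 0 →+ EtCoh.H P (EtCoh.const P (ZMod (ℓ * c))) 0 :=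
      AddMonoidHom.mk' (fun y => z.comp y (add_zero 0)) (fun y y' => Ext.comp_add z y y' _)
    exact (map_nsmul φ ℓ (Ext.mk₀ (constHom P i))).symm.trans ((congrArg φ hk.symm).trans (map_zero φ))
  have hιinj : Function.Injective ι := fun z z' h => by
    refine sub_eq_zero.1 (BcQCalc.eq_zero_of_comp_mono (constHom P i) _ ?_)
    rw [sub_eq_add_neg, Ext.add_comp, Ext.neg_comp, ← sub_eq_add_neg]
    exact sub_eq_zero.2 h
  let K := {x : ZMod (ℓ * c) // ℓ • x = 0}
  have hKc : Nat.card K ≤ ℓ := by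
    classical
    rw [Nat.card_eq_fintype_card, Fintype.card_subtype]
    exact IsAddCyclic.card_nsmul_eq_zero_le hℓ.pos
  let j : EtCoh.H P (EtCoh.const P (ZMod ℓ)) 0 → K := fun z => ⟨e (ι z), hι z⟩
  have hj : Function.Injective j := fun z z' h => hιinj (e.injective (congrArg Subtype.val h))
  haveI : Finite (EtCoh.H P (EtCoh.const P (ZMod ℓ)) 0) := Finite.of_injective j hj
  have hS0 := EtFound.ConstVal.natCard_H0_const (Spec (CommRingCat.of Ω)) (ZMod ℓ)
  rw [Nat.card_zmod] at hS0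
  have hle : Nat.card (EtCoh.H P (EtCoh.const P (ZMod ℓ)) 0) ≤
      Nat.card (EtCoh.H (Spec (CommRingCat.of Ω)) (EtCoh.const (Spec (CommRingCat.of Ω)) (ZMod ℓ)) 0) :=
    le_of_le_of_eq ((Nat.card_le_card_of_injective j hj).trans hKc) hS0.symm
  exact (Nat.bijective_iff_injective_and_card (Kc f (ZMod ℓ) 0)).2
    ⟨hi, le_antisymm (Nat.card_le_card_of_injective _ hi) hle⟩ |>.2

/-- A scheme over a field with the `ℤ/m`-cohomology of a point is acyclic for the primes dividing `m`. -/
theorem isAcyclicSchemeN_of_zmod (P : Scheme.{u}) (Ω : Type u) [Field Ω] (f : P ⟶ Spec (CommRingCat.of Ω)) (m : ℕ)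
    (hm : 2 ≤ m) (e : EtCoh.H P (EtCoh.const P (ZMod m)) 0 ≃+ ZMod m)
    (hq : ∀ q : ℕ, 0 < q → Subsingleton (EtCoh.H P (EtCoh.const P (ZMod m)) q))
    (L : Set ℕ) (hL : ∀ ℓ ∈ L, ℓ.Prime → ℓ ∣ m) (k : ℕ) : EtAcyc.IsAcyclicSchemeN L k P := by
  haveI := isEmpty_elim_H0 P m hm e
  haveI := connectedSpace_of_zmod P Ω f m hm e
  have key : ∀ q : ℕ, ∀ a b : ℕ, a * b = m → Subsingleton (EtCoh.H P (EtCoh.const P (ZMod a)) (q + 1)) := by
    intro q
    induction q with
    | zero =>
      intro a b hab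
      subst hab
      haveI : NeZero (a * b) := ⟨by omega⟩
      haveI : NeZero b := ⟨right_ne_zero_of_mul (NeZero.ne (a * b))⟩
      obtain ⟨i, p, w, hS, hp⟩ := exists_shortExact_zmod P a b
        (Nat.pos_of_ne_zero (left_ne_zero_of_mul (NeZero.ne (a * b)))) (NeZero.pos b)
      refine subsingleton_of_forall_eq 0 fun x => ?_
      obtain ⟨y, hy⟩ := Ext.covariant_sequence_exact₁ _ hS x (@Subsingleton.elim _ (hq _ Nat.one_pos) _ _)
        (rfl : 0 + 1 = 1)
      obtain ⟨y', rfl⟩ := surjective_H0_reduction P b p hp y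
      rw [← hy]
      dsimp only
      rw [Ext.comp_assoc_of_second_deg_zero]
      erw [hS.comp_extClass]
      rw [Ext.comp_zero]
    | succ q ih =>
      intro a b hab
      subst hab
      obtain ⟨i, p, w, hS, -⟩ := exists_shortExact_zmod P a b
        (Nat.pos_of_ne_zero (left_ne_zero_of_mul (show a * b ≠ 0 by omega)))
        (Nat.pos_of_ne_zero (right_ne_zero_of_mul (show a * b ≠ 0 by omega)))
      refine subsingleton_of_forall_eq 0 fun x => ?_
      obtain ⟨y, hy⟩ := Ext.covariant_sequence_exact₁ _ hS x (@Subsingleton.elim _ (hq _ (by omega)) _ _)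
        (rfl : q + 1 + 1 = q + 1 + 1)
      rw [← hy, @Subsingleton.elim _ (ih b a (mul_comm b a)) y 0]
      simp only [Ext.zero_comp]
  refine ⟨inferInstance, inferInstance, fun ℓ hℓ hℓL q h1 _ => ?_⟩
  obtain ⟨c, hc⟩ := hL ℓ hℓL hℓ
  obtain ⟨j, rfl⟩ := Nat.exists_eq_add_of_le' h1
  exact key j ℓ c hc.symm

end Groth.Agent.AcycFin
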