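import Groth.Agent.H9Transfer.Sky
import Groth.Agent.H9Transfer.TorsionSheaf
import Groth.Agent.EtFound.CoprodSections
import Groth.Agent.EtLC12.RpushTorsion
import Groth.Agent.EtLC12.TorsionColim
import Groth.Agent.AlgSpDec.OneFlat
import Mathlib.AlgebraicGeometry.Morphisms.QuasiFinite
import Mathlib.AlgebraicGeometry.Artinian

/-!
# Positive degree cohomology of skyscraper sheaves is torsion
-/

set_option autoImplicit false
set_option linter.style.haveILetI false
set_option backward.isDefEq.respectTransparency false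
set_option backward.isDefEq.respectTransparency.types false

universe u

open CategoryTheory CategoryTheory.Limits AlgebraicGeometry Opposite Abelian

noncomputable section

namespace Groth.Agent.AcycFin.SkyTorsion

open Groth.Agent.H9Transfer

/-- Left exact functors turn the cokernel comparison into a monomorphism. -/
theorem mono_desc {A : Type*} [Category A] [Abelian A] {A' : Type*} [Category A'] [Abelian A'] (G : A ⥤ A')
    [G.Additive] [PreservesFiniteLimits G] {T : ShortComplex A} (hT : T.ShortExact)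
    (h : G.map T.f ≫ G.map T.g = 0) : Mono (cokernel.desc (G.map T.f) (G.map T.g) h) :=
  ((((Functor.preservesFiniteLimits_tfae G).out 3 0 rfl rfl).1 inferInstance T hT).1).mono_cokernelDesc

variable {K : Type u} [Field K] {B C : EtCoh.Ab (Spec (CommRingCat.of K))} (φ : B ⟶ C) [Epi φ]

/-- Sections over an étale field-valued point lift after multiplication by a positive integer. -/
theorem exists_nsmul_lift_point {L : Type u} [Field L]
    (e : Spec (CommRingCat.of L) ⟶ Spec (CommRingCat.of K)) [Etale e] [EtShriek.JCont e]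
    (c : C.obj.obj (op (Lo e))) : ∃ N : ℕ, 0 < N ∧ ∃ b, (φ.hom.app (op (Lo e))).hom b = N • c := by
  let R := EtShriek.restrAlong e
  let A := AddCommGrpCat.of (ULift.{u + 1} ℤ)
  let X := Spec (CommRingCat.of L)
  haveI : Epi (R.map φ) := by
    haveI : (EtCoh.pull e).IsLeftAdjoint := (EtCoh.pullPushAdj e).isLeftAdjoint
    rw [← NatIso.naturality_2 (EtLC12.AffineLocalAcyclic.restrIsoPull e) φ]
    haveI : Epi ((EtCoh.pull e).map φ) := inferInstance
    exact epi_comp' inferInstance (epi_comp' inferInstance inferInstance)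
  let q : A ⟶ (EtCore.gsec X).obj (R.obj C) := AddCommGrpCat.ofHom
    ((zmultiplesHom _ c).comp (AddEquiv.ulift : ULift.{u + 1} ℤ ≃+ ℤ).toAddMonoidHom)
  let S : ShortComplex (EtCoh.Ab X) :=
    ShortComplex.mk (0 : R.obj C ⟶ R.obj B) (R.map φ) zero_comp
  haveI : Epi S.g := ‹Epi (R.map φ)›
  obtain ⟨N, t, hN, ht⟩ := exists_lift_nsmul (S := S) (((EtCore.constAdj X).homEquiv _ _).symm q)
  have hone : (((EtCore.constAdj X).homEquiv _ _).symm q).hom.app (op (EtCoh.top X)) (one X) = c := by
    have h := ConcreteCategory.congr_hom (((EtCore.constAdj X).homEquiv_unit _ _ _).symm.trans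
      (((EtCore.constAdj X).homEquiv _ _).apply_symm_apply q)) (⟨1⟩ : ULift.{u + 1} ℤ)
    exact h.trans (one_zsmul c)
  refine ⟨N, hN, t.hom.app (op (EtCoh.top X)) (one X), ?_⟩
  have e2 : ∀ (a : ℕ) (r : Zs X ⟶ R.obj C) (s : (Zs X).obj.obj (op (EtCoh.top X))),
      (a • r).hom.app (op (EtCoh.top X)) s = a • r.hom.app (op (EtCoh.top X)) s := fun a r s => by
    induction a with
    | zero => simp
    | succ a ih => simp [add_nsmul, ← ih]
  refine (ConcreteCategory.congr_hom (congrArg (fun r => r.hom.app (op (EtCoh.top X))) ht) (one X)).trans ?_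
  exact (e2 _ _ _).trans (congrArg (N • ·) hone)

/-- Sections over a quasi-compact étale scheme over a field lift after multiplication by a positive integer. -/
theorem exists_nsmul_lift (W : (Spec (CommRingCat.of K)).Etale) [CompactSpace W.left] (c : C.obj.obj (op W)) :
    ∃ N : ℕ, 0 < N ∧ ∃ b, (φ.hom.app (op W)).hom b = N • c := by
  classical
  haveI : Etale W.hom := W.prop
  haveI : IsLocallyArtinian (Spec (CommRingCat.of K)) := Scheme.isLocallyArtinianScheme_Spec.2 inferInstance
  haveI : IsLocallyArtinian W.left :=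
    @IsLocallyArtinian.of_locallyQuasiFinite W.left (Spec (CommRingCat.of K)) W.hom _ _
  haveI : Finite W.left := finite_of_compact_of_discrete
  haveI := Fintype.ofFinite W.left
  haveI : IsReduced W.left := by
    haveI hK : IsReduced (Spec (CommRingCat.of K)) := inferInstance
    exact @AlgSpDec.isReduced_of_etaleMor W.left (Spec (CommRingCat.of K)) W.hom ‹Etale W.hom› hK
  have hpt : ∀ x : W.left, ∃ (L : Type u) (_ : Field L) (i : Spec (CommRingCat.of L) ⟶ W.left),
      IsOpenImmersion i ∧ Set.range i.base = {x} := fun x => by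
    let O : W.left.Opens := ⟨{x}, isOpen_discrete _⟩
    haveI : Subsingleton O.toScheme := ⟨fun a b => Subtype.ext (a.2.trans b.2.symm)⟩
    haveI : Nonempty O.toScheme := ⟨⟨x, rfl⟩⟩
    haveI : IsIntegral O.toScheme := (isIntegral_iff_irreducibleSpace_and_isReduced _).mpr
      ⟨⟨inferInstance⟩, inferInstance⟩
    letI := (isField_of_isIntegral_of_subsingleton O.toScheme).toField
    haveI : IsAffine O.toScheme := inferInstance
    refine ⟨Γ(O.toScheme, ⊤), inferInstance, O.toScheme.isoSpec.inv ≫ O.ι, ?_, ?_⟩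
    · exact IsOpenImmersion.comp O.toScheme.isoSpec.inv O.ι
    · refine Eq.trans ?_ O.range_ι
      ext w
      constructor
      · rintro ⟨z, rfl⟩
        exact ⟨_, (Scheme.Hom.comp_apply _ _ _).symm⟩
      · rintro ⟨o, rfl⟩
        refine ⟨O.toScheme.isoSpec.hom o, ?_⟩
        exact (Scheme.Hom.comp_apply _ _ _).symm.trans
          (congrArg (fun r : O.toScheme ⟶ W.left => r o) (Iso.hom_inv_id_assoc O.toScheme.isoSpec O.ι))
  choose L iL i hi hr using hpt
  haveI := hi
  haveI : ∀ x, Etale (i x ≫ W.hom) := fun x => inferInstance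
  haveI : ∀ x, EtShriek.JCont (i x ≫ W.hom) := fun x => EtFound.jCont _
  let Z : W.left → (Spec (CommRingCat.of K)).Etale := fun x => Lo (i x ≫ W.hom)
  let g : ∀ x, Z x ⟶ W := fun x => MorphismProperty.Over.homMk (i x) (by
    show i x ≫ W.hom = 𝟙 _ ≫ i x ≫ W.hom
    rw [Category.id_comp])
  haveI : ∀ x, Mono (g x) := fun x => by
    refine ⟨fun a b h => MorphismProperty.Over.Hom.ext ?_⟩
    exact (cancel_mono (i x)).1 (congrArg (fun r => r.left) h)
  have hbij := fun F : EtCoh.Ab (Spec (CommRingCat.of K)) =>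
    EtFound.bijective_sections_of_disjoint F Z g
      (fun x => (hr x).ge rfl |>.elim fun z hz => ⟨x, z, hz⟩)
      (fun x y hxy a b h => hxy (((hr x).le ⟨a, rfl⟩).symm.trans ((h : (i x).base a = (i y).base b).trans
        ((hr y).le ⟨b, rfl⟩))))
  choose N hN b hb using fun x => @exists_nsmul_lift_point K _ B C φ _ (L x) (iL x) (i x ≫ W.hom) inferInstance
    (EtFound.jCont _) (C.obj.map (g x).op c)
  obtain ⟨t, ht⟩ := (hbij B).2 fun x => (∏ y ∈ Finset.univ.erase x, N y) • b x
  refine ⟨∏ x, N x, Finset.prod_pos fun x _ => hN x, t, (hbij C).1 (funext fun x => ?_)⟩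
  show C.obj.map (g x).op ((φ.hom.app (op W)).hom t) = C.obj.map (g x).op ((∏ x, N x) • c)
  refine (NatTrans.naturality_apply φ.hom (g x).op t).symm.trans ?_
  refine (congrArg (φ.hom.app (op (Z x))).hom (congrFun ht x)).trans ?_
  refine (map_nsmul (φ.hom.app (op (Z x))).hom _ _).trans ?_
  rw [hb x, ← mul_smul, map_nsmul, ← Finset.prod_erase_mul _ _ (Finset.mem_univ x)]

variable {X : Scheme.{u}} (i : Spec (CommRingCat.of K) ⟶ X) [QuasiCompact i]

omit [Epi φ] in
/-- A quotient of the direct image of a sheaf by the direct image of an epimorphism is torsion. -/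
theorem isTorsion_of_push_epi [Epi φ] {T : EtCoh.Ab X} (π : (EtCoh.push i).obj C ⟶ T) [Epi π]
    (h : (EtCoh.push i).map φ ≫ π = 0) : EtCoh.IsTorsion T := by
  intro V s v
  have hloc : Presheaf.IsLocallySurjective X.smallEtaleTopology π.hom :=
    (Sheaf.isLocallySurjective_iff_epi' AddCommGrpCat.{u + 1} π).2 inferInstance
  obtain ⟨V₁, g₁, v₁, ⟨t, ht⟩, hv₁⟩ := (EtFound.mem_topology_iff _).1 (hloc.imageSieve_mem s) v
  obtain ⟨W, g, w, hW, hw⟩ := EtLC12.RpushTorsion.exists_affine_nhd v₁
  haveI := hW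
  haveI : CompactSpace ((EtCoh.bc i).obj W).left := by
    show CompactSpace (pullback W.hom i : Scheme.{u})
    have hcW : CompactSpace W.left := inferInstance
    exact @QuasiCompact.compactSpace_of_compactSpace _ _ (pullback.fst W.hom i) (inferInstanceAs (QuasiCompact (pullback.fst W.hom i))) hcW
  let c : C.obj.obj (op ((EtCoh.bc i).obj W)) := ((EtCoh.push i).obj C).obj.map g.op t
  obtain ⟨N, hN, b, hb⟩ := exists_nsmul_lift φ ((EtCoh.bc i).obj W) c
  refine ⟨W, g ≫ g₁, ⟨w, (Scheme.Hom.comp_apply _ _ _).trans ((congrArg g₁.left hw).trans hv₁)⟩,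
    isOfFinAddOrder_iff_nsmul_eq_zero.2 ⟨N, hN, ?_⟩⟩
  have hs : (T.obj.map (g ≫ g₁).op).hom s = (π.hom.app (op W)).hom c := by
    rw [op_comp, Functor.map_comp]
    exact (congrArg (T.obj.map g.op).hom ht).symm.trans (NatTrans.naturality_apply π.hom g.op t).symm
  refine (congrArg (N • ·) hs).trans ((map_nsmul (π.hom.app (op W)).hom N c).symm.trans ?_)
  refine (congrArg (π.hom.app (op W)).hom hb).symm.trans ?_
  exact ConcreteCategory.congr_hom (congrArg (fun r => r.hom.app (op W)) h) b

omit φ in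
theorem isTorsion_of_epi {A T : EtCoh.Ab X} (π : A ⟶ T) [Epi π] (hA : EtCoh.IsTorsion A) : EtCoh.IsTorsion T := by
  rw [isTorsion_iff_stalks] at hA ⊢
  intro Ω _ _ ξ t
  obtain ⟨s, rfl⟩ := (EtFound.epi_iff_stalks π).1 inferInstance Ω ξ t
  exact AddMonoidHom.isOfFinAddOrder ((EtCoh.stalk ξ).map π).hom (hA Ω ξ s)

omit φ in
/-- Higher direct images from a point are torsion. -/
theorem isTorsion_Rpush (q : ℕ) : ∀ F : EtCoh.Ab (Spec (CommRingCat.of K)),
    EtCoh.IsTorsion ((EtCoh.Rpush i (q + 1)).obj F) := by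
  haveI : (EtCoh.push i).IsRightAdjoint := (EtCoh.pullPushAdj i).isRightAdjoint
  haveI : PreservesFiniteLimits (EtCoh.push i) := inferInstance
  let L := SESResLib.derivedLES (EtCoh.push i)
  induction q with
  | zero =>
    intro F
    let S : ShortComplex (EtCoh.Ab (Spec (CommRingCat.of K))) :=
      ShortComplex.mk (Injective.ι F) (cokernel.π (Injective.ι F)) (cokernel.condition _)
    have hS : S.ShortExact := { exact := ShortComplex.exact_of_g_is_cokernel _ (cokernelIsCokernel _) }
    haveI : Epi S.g := hS.epi_g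
    haveI : Epi (L.δ S hS 0 (0 + 1) rfl) := (L.exact₁ S hS 0 (0 + 1) rfl).epi_f
      ((Functor.isZero_rightDerived_obj_injective_succ (EtCoh.push i) 0 (Injective.under F)).eq_of_tgt _ _)
    let e := (EtCoh.push i).rightDerivedZeroIsoSelf
    refine isTorsion_of_push_epi S.g i (e.inv.app S.X₃ ≫ L.δ S hS 0 (0 + 1) rfl) ?_
    rw [← Category.assoc, e.inv.naturality, Category.assoc]
    exact (congrArg (e.inv.app S.X₂ ≫ ·) (L.comp_δ S hS 0 (0 + 1) rfl)).trans comp_zero
  | succ q ih =>
    intro F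
    let S : ShortComplex (EtCoh.Ab (Spec (CommRingCat.of K))) :=
      ShortComplex.mk (Injective.ι F) (cokernel.π (Injective.ι F)) (cokernel.condition _)
    have hS : S.ShortExact := { exact := ShortComplex.exact_of_g_is_cokernel _ (cokernelIsCokernel _) }
    haveI : Epi (L.δ S hS (q + 1) (q + 1 + 1) rfl) := (L.exact₁ S hS (q + 1) (q + 1 + 1) rfl).epi_f
      ((Functor.isZero_rightDerived_obj_injective_succ (EtCoh.push i) (q + 1) (Injective.under F)).eq_of_tgt _ _)
    exact isTorsion_of_epi (L.δ S hS (q + 1) (q + 1 + 1) rfl) (ih _)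

omit φ in
theorem nsmul_ext {A B' : EtCoh.Ab X} {n m : ℕ} (hm : n + 0 = m) (N : ℕ) (x : Ext (Zs X) A n) (f : A ⟶ B') :
    (N • x).comp (Ext.mk₀ f) hm = N • x.comp (Ext.mk₀ f) hm :=
  map_nsmul (((Ext.bilinearComp (Zs X) A B' n 0 m hm)).flip (Ext.mk₀ f)) N x

section H

variable (F : EtCoh.Ab (Spec (CommRingCat.of K)))

/-- An injective resolution step on the point. -/
def sesT : ShortComplex (EtCoh.Ab (Spec (CommRingCat.of K))) :=
  ShortComplex.mk (Injective.ι F) (cokernel.π (Injective.ι F)) (cokernel.condition _)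

omit φ in
theorem sesT_shortExact : (sesT F).ShortExact :=
  { exact := ShortComplex.exact_of_g_is_cokernel _ (cokernelIsCokernel _)
    mono_f := inferInstanceAs (Mono (Injective.ι F))
    epi_g := inferInstanceAs (Epi (cokernel.π (Injective.ι F))) }

/-- The cokernel of the direct image of the embedding. -/
def sesS : ShortComplex (EtCoh.Ab X) :=
  ShortComplex.mk ((EtCoh.push i).map (Injective.ι F)) (cokernel.π ((EtCoh.push i).map (Injective.ι F)))
    (cokernel.condition _)

/-- The comparison with the direct image of the cokernel. -/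
def cmpQ : cokernel ((EtCoh.push i).map (Injective.ι F)) ⟶ (EtCoh.push i).obj (cokernel (Injective.ι F)) :=
  haveI : (EtCoh.push i).IsRightAdjoint := (EtCoh.pullPushAdj i).isRightAdjoint
  cokernel.desc _ ((EtCoh.push i).map (cokernel.π (Injective.ι F))) (by
    rw [← Functor.map_comp, cokernel.condition, Functor.map_zero])

omit φ in
theorem π_cmpQ : cokernel.π ((EtCoh.push i).map (Injective.ι F)) ≫ cmpQ i F =
    (EtCoh.push i).map (cokernel.π (Injective.ι F)) := cokernel.π_desc _ _ _

omit φ in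
theorem sesS_shortExact : (sesS i F).ShortExact :=
  haveI : (EtCoh.push i).IsRightAdjoint := (EtCoh.pullPushAdj i).isRightAdjoint
  { exact := ShortComplex.exact_of_g_is_cokernel _ (cokernelIsCokernel _)
    mono_f := inferInstanceAs (Mono ((EtCoh.push i).map (Injective.ι F)))
    epi_g := inferInstanceAs (Epi (cokernel.π ((EtCoh.push i).map (Injective.ι F)))) }

omit φ in
theorem mono_cmpQ : Mono (cmpQ i F) :=
  haveI : (EtCoh.push i).IsRightAdjoint := (EtCoh.pullPushAdj i).isRightAdjoint
  mono_desc (EtCoh.push i) (sesT_shortExact F) _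

omit φ in
theorem exists_eq_comp_extClass {q : ℕ} (x : EtCoh.H X ((EtCoh.push i).obj F) (q + 1)) :
    ∃ β : EtCoh.H X (sesS i F).X₃ q, β.comp (sesS_shortExact i F).extClass rfl = x := by
  haveI := EtFound.pull_preservesFiniteLimits i
  haveI : (EtCoh.pull i).PreservesMonomorphisms := inferInstance
  haveI : Injective (sesS i F).X₂ := Injective.injective_of_adjoint (EtCoh.pullPushAdj i) (Injective.under F)
  exact Ext.covariant_sequence_exact₁ _ (sesS_shortExact i F) x (Ext.eq_zero_of_injective _) rfl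

omit φ in
theorem isTorsion_cokernel_cmpQ : EtCoh.IsTorsion (cokernel (cmpQ i F)) :=
  isTorsion_of_push_epi (cokernel.π (Injective.ι F)) i (cokernel.π (cmpQ i F)) (by
    rw [← π_cmpQ, Category.assoc, cokernel.condition, comp_zero])

omit φ in
theorem zero_case (x : EtCoh.H X ((EtCoh.push i).obj F) 1) : IsOfFinAddOrder x := by
  haveI : (EtCoh.pull i).Additive := (EtCoh.pullPushAdj i).left_adjoint_additive
  haveI := mono_cmpQ i F
  obtain ⟨β, rfl⟩ := exists_eq_comp_extClass i F x
  obtain ⟨s, rfl⟩ := (Ext.mk₀_bijective _ _).2 β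
  haveI : Epi (sesT F).g := (sesT_shortExact F).epi_g
  let φ₀ : Zs (Spec (CommRingCat.of K)) ⟶ (sesT F).X₃ :=
    (EtCore.pullConst i ℤ).inv ≫ ((EtCoh.pullPushAdj i).homEquiv _ _).symm (s ≫ cmpQ i F)
  obtain ⟨N, t₀, hN, ht₀⟩ := exists_lift_nsmul (S := sesT F) φ₀
  let t : Zs X ⟶ (sesS i F).X₂ := (EtCoh.pullPushAdj i).homEquiv _ _ ((EtCore.pullConst i ℤ).hom ≫ t₀)
  have ht : t ≫ (sesS i F).g = N • s := by
    apply (cancel_mono (cmpQ i F)).1
    refine (Category.assoc t (sesS i F).g (cmpQ i F)).trans ?_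
    refine (congrArg (fun z => t ≫ z) (π_cmpQ i F)).trans ?_
    refine ((EtCoh.pullPushAdj i).homEquiv_naturality_right _ _).symm.trans ?_
    refine (congrArg ((EtCoh.pullPushAdj i).homEquiv _ _)
      ((Category.assoc _ _ _).trans ((congrArg ((EtCore.pullConst i ℤ).hom ≫ ·) ht₀).trans
        ((Preadditive.comp_nsmul _ _ _).trans (congrArg (N • ·) (Iso.hom_inv_id_assoc _ _)))))).trans ?_
    refine (map_nsmul ((EtCoh.pullPushAdj i).homAddEquiv _ _) N _).trans ?_
    exact (congrArg (N • ·) (Equiv.apply_symm_apply _ _)).trans (Preadditive.nsmul_comp (f := s) (n := N) (g := cmpQ i F)).symm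
  have h1 := eq_zero_of_lift (sesS_shortExact i F) (N • s) t ht
  refine isOfFinAddOrder_iff_nsmul_eq_zero.2 ⟨N, hN, ?_⟩
  refine Eq.trans ?_ h1
  rw [show Ext.mk₀ (N • s) = N • Ext.mk₀ s from
    map_nsmul (Ext.addEquiv₀.symm : (Zs X ⟶ (sesS i F).X₃) ≃+ _) N s]
  exact (map_nsmul (((Ext.bilinearComp (Zs X) _ _ 0 1 1 rfl)).flip (sesS_shortExact i F).extClass) N _).symm

omit φ in
theorem succ_case [CompactSpace X] [QuasiSeparatedSpace X] (q : ℕ)
    (ih : ∀ y : EtCoh.H X ((EtCoh.push i).obj (cokernel (Injective.ι F))) (q + 1), IsOfFinAddOrder y)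
    (x : EtCoh.H X ((EtCoh.push i).obj F) (q + 1 + 1)) : IsOfFinAddOrder x := by
  haveI := mono_cmpQ i F
  obtain ⟨β, rfl⟩ := exists_eq_comp_extClass i F x
  let U : ShortComplex (EtCoh.Ab X) :=
    ShortComplex.mk (cmpQ i F) (cokernel.π (cmpQ i F)) (cokernel.condition _)
  have hU : U.ShortExact :=
    { exact := ShortComplex.exact_of_g_is_cokernel U (cokernelIsCokernel _)
      mono_f := inferInstanceAs (Mono (cmpQ i F))
      epi_g := inferInstanceAs (Epi (cokernel.π (cmpQ i F))) }
  suffices hβ : IsOfFinAddOrder β from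
    AddMonoidHom.isOfFinAddOrder (((Ext.bilinearComp (Zs X) _ _ (q + 1) 1 (q + 1 + 1) rfl)).flip
      (sesS_shortExact i F).extClass) hβ
  obtain ⟨N, hN, hNβ⟩ := isOfFinAddOrder_iff_nsmul_eq_zero.1 (ih (β.comp (Ext.mk₀ U.f) (add_zero (q + 1))))
  obtain ⟨γ, hγ⟩ := Ext.covariant_sequence_exact₁ _ hU (N • β)
    ((nsmul_ext (add_zero _) N β U.f).trans hNβ) rfl
  have hγt : IsOfFinAddOrder γ :=
    EtLC12.TorsionColim.isAddTorsion_H U.X₃ (isTorsion_cokernel_cmpQ i F) q γ
  have h2 : IsOfFinAddOrder (N • β) := hγ ▸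
    AddMonoidHom.isOfFinAddOrder (((Ext.bilinearComp (Zs X) U.X₃ U.X₁ q 1 (q + 1) rfl)).flip hU.extClass) hγt
  obtain ⟨M, hM, hMβ⟩ := isOfFinAddOrder_iff_nsmul_eq_zero.1 h2
  exact isOfFinAddOrder_iff_nsmul_eq_zero.2 ⟨M * N, Nat.mul_pos hM hN, by rw [mul_smul]; exact hMβ⟩

end H

omit φ in
/-- Cohomology of skyscraper sheaves in positive degrees is torsion. -/
theorem isAddTorsion_H [CompactSpace X] [QuasiSeparatedSpace X] (q : ℕ) :
    ∀ F : EtCoh.Ab (Spec (CommRingCat.of K)), IsAddTorsion (EtCoh.H X ((EtCoh.push i).obj F) (q + 1)) := by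
  induction q with
  | zero => exact fun F x => zero_case i F x
  | succ q ih => exact fun F x => succ_case i F q (fun y => ih _ y) x

end Groth.Agent.AcycFin.SkyTorsion
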