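import Mathlib.RingTheory.QuasiFinite.Basic
import Mathlib.RingTheory.AdjoinRoot
import Mathlib.Algebra.Category.Ring.FilteredColimits
import Mathlib.Algebra.Category.Ring.Colimits
import Mathlib.CategoryTheory.Limits.Types.Filtered
import Mathlib.Algebra.MvPolynomial.Rename

/-!
# An algebraic field extension of a residue field as a colimit of quasi-finite algebras of finite presentation
-/

set_option autoImplicit false
set_option linter.style.haveILetI false
set_option linter.unusedSectionVars false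
set_option linter.unusedVariables false
set_option backward.isDefEq.respectTransparency false
set_option backward.isDefEq.respectTransparency.types false

universe u

open CategoryTheory CategoryTheory.Limits Opposite MvPolynomial TensorProduct

noncomputable section

namespace Groth.Agent.AcycFin.Stage

variable (A Ω : Type u) [CommRing A] [Field Ω] [Algebra A Ω]

/-- A quasi-finite algebra given by finitely many elements of `Ω` and finitely many of their relations. -/
structure Idx : Type u where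
  s : Finset Ω
  r : Finset (MvPolynomial (s : Set Ω) A)
  hr : ∀ p ∈ r, MvPolynomial.aeval (fun x : (s : Set Ω) => (x : Ω)) p = 0
  qf : Algebra.QuasiFinite A (MvPolynomial (s : Set Ω) A ⧸ Ideal.span (r : Set (MvPolynomial (s : Set Ω) A)))

variable {A Ω}

/-- The renaming of variables. -/
def ren {s t : Set Ω} (h : s ⊆ t) : MvPolynomial s A →ₐ[A] MvPolynomial t A := rename (Set.inclusion h)

theorem ren_ren {s t v : Set Ω} (h : s ⊆ t) (h' : t ⊆ v) (p : MvPolynomial s A) :
    ren h' (ren h p) = ren (h.trans h') p := rename_rename _ _ p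

theorem aeval_ren {s t : Set Ω} (h : s ⊆ t) (p : MvPolynomial s A) :
    MvPolynomial.aeval (fun x : t => (x : Ω)) (ren h p) = MvPolynomial.aeval (fun x : s => (x : Ω)) p :=
  aeval_rename _ _ p

/-- The algebra of an index. -/
abbrev B (i : Idx A Ω) : Type u :=
  MvPolynomial (i.s : Set Ω) A ⧸ Ideal.span (i.r : Set (MvPolynomial (i.s : Set Ω) A))

instance (i : Idx A Ω) : Algebra.QuasiFinite A (B i) := i.qf

instance : LE (Idx A Ω) where
  le i j := ∃ h : (i.s : Set Ω) ⊆ j.s,
    Ideal.span (i.r : Set _) ≤ (Ideal.span (j.r : Set _)).comap (ren (A := A) h).toRingHom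

instance : Preorder (Idx A Ω) where
  le_refl i := ⟨subset_rfl, fun p hp => Ideal.mem_comap.2 <| by
    change ren subset_rfl p ∈ Ideal.span (i.r : Set (MvPolynomial (i.s : Set Ω) A))
    rwa [show ren (subset_rfl : (i.s : Set Ω) ⊆ i.s) p = p from rename_id_apply p]⟩
  le_trans i j k := by
    rintro ⟨h, hr⟩ ⟨h', hr'⟩
    refine ⟨h.trans h', fun p hp => Ideal.mem_comap.2 ?_⟩
    change ren (h.trans h') p ∈ Ideal.span (k.r : Set (MvPolynomial (k.s : Set Ω) A))
    rw [← ren_ren h h']
    exact hr' (hr hp)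

/-- The transition map. -/
def tr {i j : Idx A Ω} (h : i ≤ j) : B i →ₐ[A] B j :=
  Ideal.Quotient.liftₐ _ ((Ideal.Quotient.mkₐ A _).comp (ren h.1)) fun p hp =>
    (Ideal.Quotient.eq_zero_iff_mem.2 (h.2 hp))

theorem tr_mk {i j : Idx A Ω} (h : i ≤ j) (p : MvPolynomial (i.s : Set Ω) A) :
    tr h (Ideal.Quotient.mk _ p) = Ideal.Quotient.mk _ (ren h.1 p) := rfl

/-- The map to `Ω`. -/
def toField (i : Idx A Ω) : B i →ₐ[A] Ω :=
  Ideal.Quotient.liftₐ _ (MvPolynomial.aeval fun x : (i.s : Set Ω) => (x : Ω)) fun p hp =>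
    RingHom.mem_ker.1 ((Ideal.span_le.2 fun q hq => RingHom.mem_ker.2 (i.hr q hq) :
      Ideal.span (i.r : Set _) ≤ RingHom.ker (MvPolynomial.aeval fun x : (i.s : Set Ω) => (x : Ω))) hp)

theorem toField_mk (i : Idx A Ω) (p : MvPolynomial (i.s : Set Ω) A) :
    toField i (Ideal.Quotient.mk _ p) = MvPolynomial.aeval (fun x : (i.s : Set Ω) => (x : Ω)) p := rfl

theorem toField_tr {i j : Idx A Ω} (h : i ≤ j) (b : B i) : toField j (tr h b) = toField i b := by
  obtain ⟨p, rfl⟩ := Ideal.Quotient.mk_surjective b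
  rw [tr_mk, toField_mk, toField_mk, aeval_ren]

instance : IsDirected (Idx A Ω) (· ≤ ·) := ⟨fun i j => by
  classical
  let t : Finset Ω := i.s ∪ j.s
  have hi : (i.s : Set Ω) ⊆ t := by simp [t]
  have hj : (j.s : Set Ω) ⊆ t := by simp [t]
  let rt : Finset (MvPolynomial (t : Set Ω) A) := i.r.image (ren hi) ∪ j.r.image (ren hj)
  have hri : Ideal.span (i.r : Set _) ≤ (Ideal.span (rt : Set _)).comap (ren (A := A) hi).toRingHom :=
    Ideal.span_le.2 fun p hp => Ideal.subset_span (Finset.mem_union_left _ (Finset.mem_image_of_mem _ hp))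
  have hrj : Ideal.span (j.r : Set _) ≤ (Ideal.span (rt : Set _)).comap (ren (A := A) hj).toRingHom :=
    Ideal.span_le.2 fun p hp => Ideal.subset_span (Finset.mem_union_right _ (Finset.mem_image_of_mem _ hp))
  let Q := MvPolynomial (t : Set Ω) A ⧸ Ideal.span (rt : Set (MvPolynomial (t : Set Ω) A))
  let fi : B i →ₐ[A] Q := Ideal.Quotient.liftₐ _ ((Ideal.Quotient.mkₐ A _).comp (ren hi)) fun p hp =>
    Ideal.Quotient.eq_zero_iff_mem.2 (hri hp)
  let fj : B j →ₐ[A] Q := Ideal.Quotient.liftₐ _ ((Ideal.Quotient.mkₐ A _).comp (ren hj)) fun p hp =>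
    Ideal.Quotient.eq_zero_iff_mem.2 (hrj hp)
  let f : B i ⊗[A] B j →ₐ[A] Q := Algebra.TensorProduct.lift fi fj fun _ _ => Commute.all _ _
  have hf : Function.Surjective f := by
    intro q
    obtain ⟨p, rfl⟩ := Ideal.Quotient.mk_surjective q
    show Ideal.Quotient.mk _ p ∈ f.range
    induction p using MvPolynomial.induction_on with
    | C a => exact f.range.algebraMap_mem a
    | add p q hp hq => rw [map_add]; exact add_mem hp hq
    | mul_X p v hp =>
      rw [map_mul]
      refine mul_mem hp ?_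
      obtain ⟨v, hv⟩ := v
      rcases Finset.mem_union.1 hv with hv' | hv'
      · exact ⟨Ideal.Quotient.mk _ (MvPolynomial.X ⟨v, hv'⟩) ⊗ₜ 1, by
          show f _ = _
          rw [Algebra.TensorProduct.lift_tmul, map_one, mul_one]
          exact congrArg (Ideal.Quotient.mk _) (rename_X _ _)⟩
      · exact ⟨1 ⊗ₜ Ideal.Quotient.mk _ (MvPolynomial.X ⟨v, hv'⟩), by
          show f _ = _
          rw [Algebra.TensorProduct.lift_tmul, map_one, one_mul]
          exact congrArg (Ideal.Quotient.mk _) (rename_X _ _)⟩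
  haveI : Algebra.QuasiFinite A (B i ⊗[A] B j) := Algebra.QuasiFinite.trans A (B i) (B i ⊗[A] B j)
  have hQ : Algebra.QuasiFinite A Q :=
    @Algebra.QuasiFinite.of_surjective_algHom A (B i ⊗[A] B j) Q _ _ _ _ _ _ f hf
  refine ⟨⟨t, rt, fun p hp => ?_, hQ⟩, ⟨hi, hri⟩, ⟨hj, hrj⟩⟩
  rcases Finset.mem_union.1 hp with hp | hp <;> obtain ⟨q, hq, rfl⟩ := Finset.mem_image.1 hp <;> rw [aeval_ren]
  · exact i.hr q hq
  · exact j.hr q hq⟩

instance : Nonempty (Idx A Ω) := ⟨⟨∅, ∅, fun p hp => absurd hp (Finset.notMem_empty p), by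
  haveI : IsEmpty ((∅ : Finset Ω) : Set Ω) := ⟨fun x => Finset.notMem_empty _ x.2⟩
  refine Algebra.QuasiFinite.of_surjective_algHom (Algebra.ofId A _) fun q => ?_
  obtain ⟨p, rfl⟩ := Ideal.Quotient.mk_surjective q
  obtain ⟨a, rfl⟩ := MvPolynomial.C_surjective ((∅ : Finset Ω) : Set Ω) p
  exact ⟨a, rfl⟩⟩⟩

/-- Elements equal in `Ω` become equal at some stage. -/
theorem exists_eq (i : Idx A Ω) (a b : B i) (h : toField i a = toField i b) :
    ∃ (j : Idx A Ω) (hij : i ≤ j), tr hij a = tr hij b := by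
  classical
  obtain ⟨p, rfl⟩ := Ideal.Quotient.mk_surjective a
  obtain ⟨q, rfl⟩ := Ideal.Quotient.mk_surjective b
  let r' : Finset (MvPolynomial (i.s : Set Ω) A) := insert (p - q) i.r
  have hle : Ideal.span (i.r : Set (MvPolynomial (i.s : Set Ω) A)) ≤ Ideal.span (r' : Set _) :=
    Ideal.span_mono (by simp [r'])
  let f : B i →ₐ[A] MvPolynomial (i.s : Set Ω) A ⧸ Ideal.span (r' : Set (MvPolynomial (i.s : Set Ω) A)) :=
    Ideal.Quotient.factorₐ A hle
  have hQ : Algebra.QuasiFinite A (MvPolynomial (i.s : Set Ω) A ⧸ Ideal.span (r' : Set (MvPolynomial (i.s : Set Ω) A))) :=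
    Algebra.QuasiFinite.of_surjective_algHom f fun y => by
      obtain ⟨y, rfl⟩ := Ideal.Quotient.mk_surjective y
      exact ⟨Ideal.Quotient.mk _ y, rfl⟩
  refine ⟨⟨i.s, r', fun x hx => ?_, hQ⟩,
    ⟨subset_rfl, fun x hx => ?_⟩, ?_⟩
  · rcases Finset.mem_insert.1 hx with rfl | hx
    · rw [map_sub, ← toField_mk, ← toField_mk, h, sub_self]
    · exact i.hr x hx
  · refine Ideal.mem_comap.2 ?_
    change ren subset_rfl x ∈ Ideal.span (r' : Set (MvPolynomial (i.s : Set Ω) A))
    rw [show ren (subset_rfl : (i.s : Set Ω) ⊆ i.s) x = x from rename_id_apply x]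
    exact hle hx
  · rw [tr_mk, tr_mk, Ideal.Quotient.mk_eq_mk_iff_sub_mem]
    dsimp only
    rw [show ren _ p = p from rename_id_apply p, show ren _ q = q from rename_id_apply q]
    exact Ideal.subset_span (Finset.mem_insert_self _ _)

/-- The images of the stages exhaust `Ω`, if it is algebraic over the image of `A`. -/
theorem exists_mem (halg : ∀ x : Ω, ∃ P : Polynomial A, algebraMap A Ω P.leadingCoeff ≠ 0 ∧ Polynomial.aeval x P = 0)
    (x : Ω) : ∃ (i : Idx A Ω) (b : B i), toField i b = x := by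
  classical
  obtain ⟨P, hc, hP⟩ := halg x
  let c := P.leadingCoeff
  let z : Ω := (algebraMap A Ω c)⁻¹
  let s : Finset Ω := {x, z}
  let vx : (s : Set Ω) := ⟨x, by simp [s]⟩
  let vz : (s : Set Ω) := ⟨z, by simp [s]⟩
  let rel₁ : MvPolynomial (s : Set Ω) A := Polynomial.aeval (MvPolynomial.X vx) P
  let rel₂ : MvPolynomial (s : Set Ω) A := MvPolynomial.C c * MvPolynomial.X vz - 1
  let r : Finset (MvPolynomial (s : Set Ω) A) := {rel₁, rel₂}
  let Q := MvPolynomial (s : Set Ω) A ⧸ Ideal.span (r : Set (MvPolynomial (s : Set Ω) A))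
  let π : MvPolynomial (s : Set Ω) A →ₐ[A] Q := Ideal.Quotient.mkₐ A _
  have h1 : Polynomial.aeval (π (MvPolynomial.X vx)) P = 0 := by
    rw [Polynomial.aeval_algHom_apply]
    exact Ideal.Quotient.eq_zero_iff_mem.2 (Ideal.subset_span (show rel₁ ∈ (r : Set _) by simp [r]))
  have h2 : algebraMap A Q c * π (MvPolynomial.X vz) = 1 := by
    have h : π rel₂ = 0 := Ideal.Quotient.eq_zero_iff_mem.2 (Ideal.subset_span (show rel₂ ∈ (r : Set _) by simp [r]))
    rw [map_sub, map_mul, map_one, sub_eq_zero, ← MvPolynomial.algebraMap_eq, AlgHom.commutes] at h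
    exact h
  let L := Localization.Away c
  have hcu : IsUnit (algebraMap A Q c) := IsUnit.of_mul_eq_one _ h2
  let lQ : L →+* Q := IsLocalization.Away.lift c hcu
  let lΩ : L →+* Ω := IsLocalization.Away.lift c (isUnit_iff_ne_zero.2 hc)
  have hlQ : ∀ a, lQ (algebraMap A L a) = algebraMap A Q a := fun a => IsLocalization.Away.lift_eq c hcu a
  have hcL : algebraMap A L P.leadingCoeff ≠ 0 := fun h => hc (by
    have := congrArg lΩ h
    rwa [IsLocalization.Away.lift_eq, map_zero] at this)
  let d : L := IsLocalization.Away.invSelf c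
  let Pm : Polynomial L := Polynomial.C d * P.map (algebraMap A L)
  have hm : Pm.Monic := Polynomial.monic_C_mul_of_mul_leadingCoeff_eq_one (by
    rw [Polynomial.leadingCoeff_map_of_leadingCoeff_ne_zero _ hcL, mul_comm]
    exact IsLocalization.Away.mul_invSelf c)
  haveI := hm.finite_adjoinRoot
  haveI : Algebra.QuasiFinite A L := Algebra.QuasiFinite.of_isLocalization (S := A) (Submonoid.powers c)
  haveI : Algebra.QuasiFinite A (AdjoinRoot Pm) := Algebra.QuasiFinite.trans A L (AdjoinRoot Pm)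
  have hroot : Pm.eval₂ lQ (π (MvPolynomial.X vx)) = 0 := by
    rw [Polynomial.eval₂_mul, Polynomial.eval₂_C, Polynomial.eval₂_map,
      show lQ.comp (algebraMap A L) = algebraMap A Q from RingHom.ext hlQ, ← Polynomial.aeval_def, h1, mul_zero]
  let ψ : AdjoinRoot Pm →ₐ[A] Q :=
    { AdjoinRoot.lift lQ (π (MvPolynomial.X vx)) hroot with
      commutes' := fun a => by
        show AdjoinRoot.lift lQ _ hroot (AdjoinRoot.of Pm (algebraMap A L a)) = _
        rw [AdjoinRoot.lift_of]
        exact hlQ a }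
  have hψ : Function.Surjective ψ := by
    intro q
    obtain ⟨p, rfl⟩ := Ideal.Quotient.mk_surjective q
    show π p ∈ ψ.range
    induction p using MvPolynomial.induction_on with
    | C a =>
      rw [← MvPolynomial.algebraMap_eq, AlgHom.commutes]
      exact ψ.range.algebraMap_mem a
    | add p q hp hq => rw [map_add]; exact add_mem hp hq
    | mul_X p v hp =>
      rw [map_mul]
      refine mul_mem hp ?_
      obtain ⟨v, hv⟩ := v
      have hx : π (MvPolynomial.X vx) ∈ ψ.range := ⟨AdjoinRoot.root Pm, AdjoinRoot.lift_root hroot⟩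
      have hz : π (MvPolynomial.X vz) ∈ ψ.range := by
        refine ⟨AdjoinRoot.of Pm d, (AdjoinRoot.lift_of hroot).trans (hcu.mul_left_cancel ?_)⟩
        rw [h2, ← hlQ, ← map_mul, IsLocalization.Away.mul_invSelf, map_one]
      rcases Finset.mem_insert.1 hv with rfl | hv'
      · exact hx
      · obtain rfl := Finset.mem_singleton.1 hv'
        exact hz
  refine ⟨⟨s, r, fun p hp => ?_, Algebra.QuasiFinite.of_surjective_algHom ψ hψ⟩,
    Ideal.Quotient.mk _ (MvPolynomial.X vx), (toField_mk _ _).trans (MvPolynomial.aeval_X _ _)⟩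
  rcases Finset.mem_insert.1 hp with rfl | hp'
  · rw [← Polynomial.aeval_algHom_apply, MvPolynomial.aeval_X]
    exact hP
  · obtain rfl := Finset.mem_singleton.1 hp'
    rw [map_sub, map_mul, map_one, MvPolynomial.aeval_C, MvPolynomial.aeval_X]
    exact sub_eq_zero.2 (mul_inv_cancel₀ hc)

theorem finitePresentation (i : Idx A Ω) : Algebra.FinitePresentation A (B i) :=
  Algebra.FinitePresentation.quotient ⟨i.r, rfl⟩

variable (A Ω)

/-- The system of the stages. -/
def rings : Idx A Ω ⥤ CommRingCat.{u} where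
  obj i := CommRingCat.of (B i)
  map h := CommRingCat.ofHom (tr (leOfHom h)).toRingHom
  map_id i := CommRingCat.hom_ext (RingHom.ext fun b => by
    obtain ⟨p, rfl⟩ := Ideal.Quotient.mk_surjective b
    exact congrArg (Ideal.Quotient.mk _) (rename_id_apply p))
  map_comp {i j k} h h' := CommRingCat.hom_ext (RingHom.ext fun b => by
    obtain ⟨p, rfl⟩ := Ideal.Quotient.mk_surjective b
    exact congrArg (Ideal.Quotient.mk _) (ren_ren (leOfHom h).1 (leOfHom h').1 p).symm)

/-- The cocone with tip `Ω`. -/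
def cocone : Cocone (rings A Ω) where
  pt := CommRingCat.of Ω
  ι :=
    { app := fun i => CommRingCat.ofHom (toField i).toRingHom
      naturality := fun i j h => CommRingCat.hom_ext (RingHom.ext fun b => toField_tr (leOfHom h) b) }

/-- `Ω` is the colimit of the stages. -/
def isColimitCocone
    (halg : ∀ x : Ω, ∃ P : Polynomial A, algebraMap A Ω P.leadingCoeff ≠ 0 ∧ Polynomial.aeval x P = 0) :
    IsColimit (cocone A Ω) := by
  haveI : IsFiltered (Idx A Ω) := inferInstance
  haveI : ReflectsColimit (rings A Ω) (forget CommRingCat.{u}) := reflectsColimit_of_reflectsIsomorphisms _ _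
  refine isColimitOfReflects (forget CommRingCat.{u}) ?_
  refine Types.FilteredColimit.isColimitOf' _ _ (fun x => ?_) fun i a b h => ?_
  · obtain ⟨i, b, hb⟩ := exists_mem halg x
    exact ⟨i, b, hb.symm⟩
  · obtain ⟨j, hij, hj⟩ := exists_eq i a b h
    exact ⟨j, homOfLE hij, hj⟩

end Groth.Agent.AcycFin.Stage
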